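import Groth.Agent.Lib.Helper18.Hasse.Adapted
import Groth.Agent.Lib.Helper18.FF.RiemannRoch
import Groth.Agent.Lib.Helper18.FF.Special

/-! # Canonical orders at a place and gap numbers -/

set_option autoImplicit false
set_option linter.style.haveILetI false

namespace Groth.Agent.Lib.Helper18.Hasse

open FunFld WithZero LocRes Groth.Agent.Lib.Helper18.FF

universe u v

variable {k : Type u} {K : Type v} [Field k] [Field K] [Algebra k K]

theorem sub_single_apply_self (D : Divisor k K) (P : Place k K) (m : ℤ) :
    (D - Finsupp.single P m) P = D P - m := by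
  rw [Finsupp.sub_apply, Finsupp.single_eq_same]

theorem sub_single_apply_ne (D : Divisor k K) {P Q : Place k K} (h : Q ≠ P) (m : ℤ) :
    (D - Finsupp.single P m) Q = D Q := by
  rw [Finsupp.sub_apply, Finsupp.single_eq_of_ne h, sub_zero]

theorem sub_single_le (D : Divisor k K) (P : Place k K) {m m' : ℤ} (h : m' ≤ m) :
    D - Finsupp.single P m ≤ D - Finsupp.single P m' := by
  intro Q
  by_cases hQ : Q = P
  · subst hQ
    rw [sub_single_apply_self, sub_single_apply_self]
    omega
  · rw [sub_single_apply_ne D hQ, sub_single_apply_ne D hQ]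

/-- Some function in `L(D)` has order exactly `m - D(P)` at `P` iff `L(D - (m+1)P) ≠ L(D - mP)`. -/
theorem exists_mem_L_val_eq_iff (D : Divisor k K) (P : Place k K) {m : ℤ} (hm : 0 ≤ m) :
    (∃ g ∈ L D, P.1 g = exp (D P - m)) ↔
      L (D - Finsupp.single P (m + 1)) ≠ L (D - Finsupp.single P m) := by
  constructor
  · rintro ⟨g, hg, hgP⟩ heq
    have h1 : g ∈ L (D - Finsupp.single P m) := by
      intro Q
      by_cases hQ : Q = P
      · subst hQ
        rw [sub_single_apply_self, hgP]
      · rw [sub_single_apply_ne D hQ]
        exact hg Q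
    rw [← heq] at h1
    have h2 := h1 P
    rw [sub_single_apply_self, hgP, exp_le_exp] at h2
    omega
  · intro hne
    have hle : L (D - Finsupp.single P (m + 1)) ≤ L (D - Finsupp.single P m) :=
      L_mono (sub_single_le D P (by omega))
    obtain ⟨g, hg1, hg2⟩ := SetLike.exists_of_lt (lt_of_le_of_ne hle hne)
    have hgD : g ∈ L D := by
      have : D - Finsupp.single P m ≤ D := by
        have := sub_single_le D P hm
        simpa using this
      exact L_mono this hg1
    refine ⟨g, hgD, ?_⟩
    have hgP : P.1 g ≤ exp (D P - m) := by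
      have := hg1 P
      rwa [sub_single_apply_self] at this
    have hnot : ¬ P.1 g ≤ exp (D P - (m + 1)) := by
      intro h
      apply hg2
      intro Q
      by_cases hQ : Q = P
      · subst hQ
        rw [sub_single_apply_self]
        exact h
      · rw [sub_single_apply_ne D hQ]
        exact hgD Q
    have h0 : P.1 g ≠ 0 := by
      intro h
      apply hnot
      rw [h]
      exact zero_le'
    rw [← exp_log h0] at hgP hnot ⊢
    rw [exp_le_exp] at hgP hnot
    congr 1
    omega

theorem L_eq_iff_ell_eq (hK : IsFunctionField k K) {D₁ D₂ : Divisor k K} (h : D₁ ≤ D₂) :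
    L D₁ = L D₂ ↔ ell D₁ = ell D₂ := by
  constructor
  · intro heq
    unfold ell
    rw [heq]
  · intro heq
    haveI := finiteDimensional_L hK D₂
    exact Submodule.eq_of_le_of_finrank_eq (L_mono h) heq

/-- Riemann–Roch duality between orders of canonical functions and gaps. -/
theorem canonical_gap_iff (hK : IsFunctionField k K) {C : Divisor k K} (hC : IsCanonical k K C)
    (P : Place k K) (hdeg : P.deg = 1) (m : ℤ) :
    L (C - Finsupp.single P (m + 1)) ≠ L (C - Finsupp.single P m) ↔
      L (Finsupp.single P (m + 1) : Divisor k K) = L (Finsupp.single P m) := by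
  have hle1 : C - Finsupp.single P (m + 1) ≤ C - Finsupp.single P m :=
    sub_single_le C P (by omega)
  have hle2 : (Finsupp.single P m : Divisor k K) ≤ Finsupp.single P (m + 1) := by
    intro Q
    by_cases hQ : Q = P
    · subst hQ
      rw [Finsupp.single_eq_same, Finsupp.single_eq_same]
      omega
    · rw [Finsupp.single_eq_of_ne hQ, Finsupp.single_eq_of_ne hQ]
  rw [Ne, L_eq_iff_ell_eq hK hle1, eq_comm (a := L _), L_eq_iff_ell_eq hK hle2]
  have h1 := riemann_roch hK hC (Finsupp.single P m)
  have h2 := riemann_roch hK hC (Finsupp.single P (m + 1))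
  rw [deg_single, hdeg] at h1 h2
  have h3 := ell_sub_ell_le hK hle1
  rw [deg_sub, deg_sub, deg_single, deg_single, hdeg] at h3
  have h4 := ell_mono hK hle1
  have h5 := ell_mono hK hle2
  push_cast at h1 h2 h3
  constructor
  · intro hne
    have : ell (C - Finsupp.single P (m + 1)) < ell (C - Finsupp.single P m) :=
      lt_of_le_of_ne h4 hne
    omega
  · intro heq hcon
    omega

end Groth.Agent.Lib.Helper18.Hasse
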