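import Groth.Agent.Lib.Helper18.Hasse.WDiv
import Groth.Agent.Lib.Helper18.FF.Principal
import Groth.Agent.Lib.Helper18.FF.Degree3
import Groth.Agent.Lib.Helper18.Hasse.Canonical

/-! # Normalizing a projective map at a place; existence of orders at a place; degree bound -/

set_option autoImplicit false
set_option linter.style.haveILetI false

namespace Groth.Agent.Lib.Helper18.Hasse

open FunFld WithZero LocRes Groth.Agent.Lib.Helper18.FF

universe u v

variable {k : Type u} {K : Type v} [Field k] [Field K] [Algebra k K]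

/-- Scaling a tuple by a nonzero function subtracts its divisor from the divisor of the tuple. -/
theorem mapDiv_smul (hK : IsFunctionField k K) {ι : Type*} [Fintype ι] [Nonempty ι] {y : K}
    (hy : y ≠ 0) (φ : ι → K) (hφ0 : ∀ i, φ i ≠ 0) :
    mapDiv k (y • φ) = mapDiv k φ - FunFld.div k y := by
  ext P
  rw [Finsupp.sub_apply, div_apply hK]
  have hmul : ∀ i, P.ord ((y • φ) i) = P.ord y + P.ord (φ i) := fun i => by
    rw [Pi.smul_apply, smul_eq_mul, ord_mul P hy (hφ0 i)]
  apply le_antisymm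
  · obtain ⟨i, hi⟩ := exists_mapDiv_eq hK (y • φ) P
    have := neg_mapDiv_le hK φ P i
    rw [hi, hmul]
    omega
  · obtain ⟨i, hi⟩ := exists_mapDiv_eq hK φ P
    have := neg_mapDiv_le hK (y • φ) P i
    rw [hmul] at this
    rw [hi]
    omega

theorem deg_mapDiv_smul (hK : IsFunctionField k K) {ι : Type*} [Fintype ι] [Nonempty ι] {y : K}
    (hy : y ≠ 0) (φ : ι → K) (hφ0 : ∀ i, φ i ≠ 0) :
    (mapDiv k (y • φ)).deg = (mapDiv k φ).deg := by
  rw [mapDiv_smul hK hy φ hφ0, deg_sub, deg_div_eq_zero hK, sub_zero]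

/-- Normalization of an independent tuple at a place. -/
theorem exists_normalize (P : Place k K) {n : ℕ} (φ : Fin (n + 1) → K)
    (hφ : LinearIndependent k φ) :
    ∃ y : K, y ≠ 0 ∧ LinearIndependent k (y • φ) ∧
      (1 : K) ∈ Submodule.span k (Set.range (y • φ)) ∧ ∀ i, P.1 ((y • φ) i) ≤ 1 := by
  obtain ⟨i0, -, hmax⟩ := Finset.exists_max_image Finset.univ (fun i => P.1 (φ i))
    ⟨0, Finset.mem_univ _⟩
  have h0 : φ i0 ≠ 0 := hφ.ne_zero i0
  refine ⟨(φ i0)⁻¹, inv_ne_zero h0, ?_, ?_, fun i => ?_⟩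
  · have hli := hφ.map' (LinearMap.mulLeft k (φ i0)⁻¹) (by
      rw [LinearMap.ker_eq_bot]
      intro a b hab
      exact mul_left_cancel₀ (inv_ne_zero h0) hab)
    exact hli
  · refine Submodule.subset_span ⟨i0, ?_⟩
    rw [Pi.smul_apply, smul_eq_mul, inv_mul_cancel₀ h0]
  · rw [Pi.smul_apply, smul_eq_mul, map_mul, map_inv₀, mul_comm, ← div_eq_mul_inv]
    exact div_le_one_of_le₀ (hmax i (Finset.mem_univ _)) zero_le'

section main

variable [IsAlgClosed k] (hK : IsFunctionField k K) (P : Place k K) {t : K}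
  (ht : P.1 t = exp (-1 : ℤ)) {H : K →ₐ[k] PowerSeries K} (hH : IsHasseFamily t H)

include hK ht hH

/-- The orders at a place exist. -/
theorem exists_isOrders_hcolAt {n : ℕ} (φ : Fin (n + 1) → K) (hφ : LinearIndependent k φ)
    (heff : (1 : K) ∈ Submodule.span k (Set.range φ)) (hnorm : ∀ i, P.1 (φ i) ≤ 1) :
    ∃ J' : Fin n → ℕ, IsOrders (IsLocalRing.ResidueField P.O) (hcolAt P H φ) J' := by
  classical
  have hrank : Module.finrank (IsLocalRing.ResidueField P.O)
      (Fin (n + 1) → IsLocalRing.ResidueField P.O) = n + 1 := Module.finrank_fin_fun _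
  have h0 : hcolAt P H φ 0 ≠ 0 := by
    intro h
    obtain ⟨a, ha⟩ := (Submodule.mem_span_range_iff_exists_fun k).mp heff
    have h1 : evalP P (∑ i, a i • φ i) = 0 := by
      have h2 : ∀ i, P.1 (a i • φ i) ≤ 1 := fun i => (val_smul_le P (a i) _).trans (hnorm i)
      rw [evalP_sum P _ _ h2]
      refine Finset.sum_eq_zero fun i _ => ?_
      rw [evalP_smul P _ (hnorm i)]
      have : evalP P (φ i) = 0 := congrFun h i
      rw [this]
      exact smul_zero _
    rw [ha, evalP_one] at h1
    exact one_ne_zero h1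
  have hspan : Submodule.span (IsLocalRing.ResidueField P.O) (Set.range (hcolAt P H φ)) = ⊤ := by
    by_contra hne
    obtain ⟨f, hf0, hfker⟩ := Submodule.exists_le_ker_of_lt_top _ (lt_top_iff_ne_top.mpr hne)
    obtain ⟨g, hg⟩ : ∃ g : Fin (n + 1) → IsLocalRing.ResidueField P.O,
        g = fun i => f (Pi.single i 1) := ⟨_, rfl⟩
    have hfg : ∀ v : Fin (n + 1) → IsLocalRing.ResidueField P.O, f v = ∑ i, g i * v i := by
      intro v
      conv_lhs => rw [← Finset.univ_sum_single v]
      rw [map_sum]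
      refine Finset.sum_congr rfl fun i _ => ?_
      have : (Pi.single i (v i) : Fin (n + 1) → IsLocalRing.ResidueField P.O) =
          v i • Pi.single i 1 := by
        rw [← Pi.single_smul, smul_eq_mul, mul_one]
      rw [this, map_smul, smul_eq_mul, hg, mul_comm]
    have hli := linearIndependent_evalP_hasseD hK φ hφ P hnorm t ht H hH
    have hzero : ∑ i, g i • (fun j : ℕ => evalP P (hasseD H j (φ i))) = 0 := by
      funext j
      simp only [Finset.sum_apply, Pi.smul_apply, smul_eq_mul, Pi.zero_apply]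
      have h1 : f (hcolAt P H φ (j + 1)) = 0 := hfker (Submodule.subset_span ⟨j + 1, rfl⟩)
      rw [hfg] at h1
      exact h1
    have hg0 := Fintype.linearIndependent_iff.mp hli g hzero
    apply hf0
    refine LinearMap.ext fun v => ?_
    rw [hfg]
    simp [hg0]
  obtain ⟨J', hJ', -⟩ := exists_isOrders_of_span_eq_top hrank _ h0 hspan
  exact ⟨J', hJ'⟩

omit ht hH in
/-- Orders at `P` of functions in the span of a normalized effective map are bounded by its
degree. -/
theorem ord_le_deg_mapDiv {n : ℕ} (φ : Fin (n + 1) → K)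
    (heff : (1 : K) ∈ Submodule.span k (Set.range φ)) (hnorm : ∀ i, P.1 (φ i) ≤ 1)
    {f : K} (hf : f ∈ Submodule.span k (Set.range φ)) (hf0 : f ≠ 0) :
    P.ord f ≤ (mapDiv k φ).deg := by
  have hfL : f ∈ L (mapDiv k φ) := by
    refine Submodule.span_le.mpr ?_ hf
    rintro _ ⟨i, rfl⟩
    exact mem_L_mapDiv hK φ i
  have hE := (mem_L_iff_div hK _ hf0).mp hfL
  have hdeg : (mapDiv k φ + FunFld.div k f).deg = (mapDiv k φ).deg := by
    rw [deg_add, deg_div_eq_zero hK, add_zero]
  rw [← hdeg]
  obtain ⟨E, hEdef⟩ : ∃ E, E = mapDiv k φ + FunFld.div k f := ⟨_, rfl⟩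
  rw [← hEdef] at hE ⊢
  have hEP : E P = P.ord f := by
    rw [hEdef, Finsupp.add_apply, div_apply hK, mapDiv_apply_of_normalized hK φ P heff hnorm,
      zero_add]
  have h1 : 0 ≤ E - Finsupp.single P (E P) := by
    intro Q
    by_cases hQ : Q = P
    · subst hQ
      rw [sub_single_apply_self]
      simp
    · rw [sub_single_apply_ne E hQ]
      exact hE Q
  have h2 := deg_nonneg_of_nonneg h1
  rw [deg_sub, deg_single, deg_eq_one_of_isAlgClosed hK P] at h2
  rw [← hEP]
  push_cast at h2
  linarith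

end main

end Groth.Agent.Lib.Helper18.Hasse
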