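import Groth.Agent.Lib.Helper18.Hasse.Basic
import Mathlib.RingTheory.Etale.Field
import Mathlib.RingTheory.Smooth.AdicCompletion
import Mathlib.RingTheory.AdicCompletion.Completeness
import Mathlib.FieldTheory.IntermediateField.Adjoin.Algebra

/-! # Existence of the total Hasse derivative with respect to a separating element -/

set_option autoImplicit false
set_option linter.style.haveILetI false

namespace Groth.Agent.Lib.Helper18.Hasse

open LocRes IntermediateField Polynomial

universe u v

/-- If `t` is a separating element of `K/k`, there is a total Hasse derivative with respect to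
`t`. -/
theorem exists_isHasseFamily_of_separating {k : Type u} {K : Type v} [Field k] [Field K]
    [Algebra k K] {t : K} (ht : Transcendental k t) [Algebra.IsSeparable k⟮t⟯ K] :
    ∃ H : K →ₐ[k] PowerSeries K, IsHasseFamily t H := by
  letI algPK : Algebra k[X] K := (Polynomial.aeval t : k[X] →ₐ[k] K).toRingHom.toAlgebra
  have hPK : ∀ q : k[X], algebraMap k[X] K q = Polynomial.aeval t q := fun q => rfl
  haveI : IsScalarTower k k[X] K := IsScalarTower.of_algebraMap_eq (fun c => by
    rw [hPK, Polynomial.algebraMap_apply, Polynomial.aeval_C]; rfl)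
  let t' : k⟮t⟯ := ⟨t, mem_adjoin_simple_self k t⟩
  letI algPF : Algebra k[X] k⟮t⟯ := (Polynomial.aeval t' : k[X] →ₐ[k] k⟮t⟯).toRingHom.toAlgebra
  have hPF : ∀ q : k[X], algebraMap k[X] k⟮t⟯ q = Polynomial.aeval t' q := fun q => rfl
  haveI : IsScalarTower k k[X] k⟮t⟯ := IsScalarTower.of_algebraMap_eq (fun c => by
    rw [hPF, Polynomial.algebraMap_apply, Polynomial.aeval_C]; rfl)
  have hcoe : ∀ q : k[X], ((Polynomial.aeval t' q : k⟮t⟯) : K) = Polynomial.aeval t q := fun q => by
    rw [← IntermediateField.algebraMap_apply, ← Polynomial.aeval_algebraMap_apply]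
    rfl
  haveI : IsScalarTower k[X] k⟮t⟯ K := IsScalarTower.of_algebraMap_eq (fun q => by
    rw [hPK, hPF, IntermediateField.algebraMap_apply, hcoe])
  have hinj : Function.Injective (algebraMap k[X] k⟮t⟯) := by
    rw [injective_iff_map_eq_zero]
    intro q hq
    rw [hPF] at hq
    have h2 := congrArg (fun z : k⟮t⟯ => (z : K)) hq
    simp only [hcoe] at h2
    by_contra hne
    exact ht ⟨q, hne, h2⟩
  haveI : FaithfulSMul k[X] k⟮t⟯ := (faithfulSMul_iff_algebraMap_injective _ _).mpr hinj
  haveI : IsFractionRing k[X] k⟮t⟯ := IsFractionRing.of_field _ _ (fun z => by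
    obtain ⟨r, s, hrs⟩ := (IntermediateField.mem_adjoin_simple_iff k z.1).mp z.2
    refine ⟨r, s, Subtype.ext ?_⟩
    rw [hrs, hPF, hPF]
    push_cast
    rw [hcoe, hcoe])
  haveI : Algebra.FormallyEtale k[X] k⟮t⟯ :=
    Algebra.FormallyEtale.of_isLocalization (nonZeroDivisors k[X])
  haveI : Algebra.FormallyEtale k⟮t⟯ K := Algebra.FormallyEtale.of_isSeparable _ _
  haveI : Algebra.FormallyEtale k[X] K := Algebra.FormallyEtale.comp k[X] k⟮t⟯ K
  -- the target
  letI algPS : Algebra k[X] (PowerSeries K) :=
    (Polynomial.aeval (PowerSeries.C t + PowerSeries.X) : k[X] →ₐ[k] PowerSeries K).toRingHom.toAlgebra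
  have hPS : ∀ q : k[X], algebraMap k[X] (PowerSeries K) q =
      Polynomial.aeval (PowerSeries.C t + PowerSeries.X : PowerSeries K) q := fun q => rfl
  haveI : IsScalarTower k k[X] (PowerSeries K) := IsScalarTower.of_algebraMap_eq (fun c => by
    rw [hPS, Polynomial.algebraMap_apply, Polynomial.aeval_C]
    rfl)
  have hconst : ∀ q : k[X], PowerSeries.constantCoeff
      (Polynomial.aeval (PowerSeries.C t + PowerSeries.X : PowerSeries K) q) =
        Polynomial.aeval t q := by
    intro q
    have e1 : (PowerSeries.constantCoeff (R := K)).comp (algebraMap k (PowerSeries K)) =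
        algebraMap k K := RingHom.ext fun c => by simp [PowerSeries.algebraMap_apply]
    have e2 : PowerSeries.constantCoeff (PowerSeries.C t + PowerSeries.X : PowerSeries K) = t := by
      simp
    rw [Polynomial.aeval_def, Polynomial.hom_eval₂, e1, e2, Polynomial.aeval_def]
  let I : Ideal (PowerSeries K) := Ideal.span {PowerSeries.X}
  have hmemI : ∀ f : PowerSeries K, f ∈ I ↔ PowerSeries.constantCoeff f = 0 := fun f => by
    rw [Ideal.mem_span_singleton, PowerSeries.X_dvd_iff]
  let f : K →ₐ[k[X]] PowerSeries K ⧸ I :=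
    { (Ideal.Quotient.mk I).comp (PowerSeries.C : K →+* PowerSeries K) with
      commutes' := fun q => by
        change Ideal.Quotient.mk I (PowerSeries.C (algebraMap k[X] K q)) =
          Ideal.Quotient.mk I (algebraMap k[X] (PowerSeries K) q)
        rw [Ideal.Quotient.eq, hmemI, map_sub, PowerSeries.constantCoeff_C, hPS, hconst, hPK,
          sub_self] }
  obtain ⟨g, hg⟩ := Algebra.FormallySmooth.exists_mkₐ_comp_eq_of_isAdicComplete (I := I) f
  refine ⟨g.restrictScalars k, ?_, fun y => ?_⟩
  · have h1 : t = algebraMap k[X] K Polynomial.X := by rw [hPK, Polynomial.aeval_X]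
    change g t = _
    calc g t = g (algebraMap k[X] K Polynomial.X) := by rw [← h1]
      _ = _ := by rw [g.commutes, hPS, Polynomial.aeval_X]
  · change PowerSeries.constantCoeff (g y) = y
    have h1 := congrArg (fun φ : K →ₐ[k[X]] PowerSeries K ⧸ I => φ y) hg
    change Ideal.Quotient.mk I (g y) = Ideal.Quotient.mk I (PowerSeries.C y) at h1
    rw [Ideal.Quotient.eq, hmemI, map_sub, PowerSeries.constantCoeff_C, sub_eq_zero] at h1
    exact h1

end Groth.Agent.Lib.Helper18.Hasse
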