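import Groth.Prelude.Def_W4bk4goldsch45p2
import Mathlib.LinearAlgebra.Dimension.Constructions
import Mathlib.LinearAlgebra.Dimension.StrongRankCondition
import Mathlib.LinearAlgebra.Basis.VectorSpace
import Mathlib.RingTheory.Noetherian.Basic
import Mathlib.Data.Finset.Sort
import Mathlib.LinearAlgebra.Matrix.NonsingularInverse
import Mathlib.LinearAlgebra.Matrix.ToLin

/-! # Linear algebra of jump sequences of a sequence of vectors -/

set_option autoImplicit false

namespace Groth.Agent.Lib.Helper18.Hasse

open FunFld

section Jumps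

variable {R : Type*} {M : Type*} [DivisionRing R] [AddCommGroup M] [Module R M]

theorem Iio_succ_eq (j : ℕ) : Set.Iio (j + 1) = insert j (Set.Iio j) := by
  ext x
  simp only [Set.mem_Iio, Set.mem_insert_iff]
  omega

theorem jumps_inter_succ_of_isJump (c : ℕ → M) {N : ℕ} (hN : IsJump R c N) :
    {j | IsJump R c j} ∩ Set.Iio (N + 1) = insert N ({j | IsJump R c j} ∩ Set.Iio N) := by
  ext x
  simp only [Set.mem_inter_iff, Set.mem_setOf_eq, Set.mem_Iio, Set.mem_insert_iff]
  constructor
  · rintro ⟨h1, h2⟩
    rcases Nat.lt_succ_iff_lt_or_eq.mp h2 with h | h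
    · exact Or.inr ⟨h1, h⟩
    · exact Or.inl h
  · rintro (rfl | ⟨h1, h2⟩)
    · exact ⟨hN, Nat.lt_succ_self _⟩
    · exact ⟨h1, by omega⟩

theorem jumps_inter_succ_of_not_isJump (c : ℕ → M) {N : ℕ} (hN : ¬ IsJump R c N) :
    {j | IsJump R c j} ∩ Set.Iio (N + 1) = {j | IsJump R c j} ∩ Set.Iio N := by
  ext x
  simp only [Set.mem_inter_iff, Set.mem_setOf_eq, Set.mem_Iio]
  constructor
  · rintro ⟨h1, h2⟩
    rcases Nat.lt_succ_iff_lt_or_eq.mp h2 with h | h
    · exact ⟨h1, h⟩
    · exact absurd (h ▸ h1) hN
  · rintro ⟨h1, h2⟩
    exact ⟨h1, by omega⟩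

/-- The jump vectors are linearly independent. -/
theorem linearIndepOn_jumps (c : ℕ → M) (N : ℕ) :
    LinearIndepOn R c ({j | IsJump R c j} ∩ Set.Iio N) := by
  induction N with
  | zero =>
    have : {j | IsJump R c j} ∩ Set.Iio 0 = ∅ := by
      ext x
      simp
    rw [this]
    exact linearIndepOn_empty R c
  | succ N ih =>
    by_cases hN : IsJump R c N
    · rw [jumps_inter_succ_of_isJump c hN]
      refine ih.insert ?_
      intro hmem
      exact hN (Submodule.span_mono (Set.image_mono Set.inter_subset_right) hmem)
    · rw [jumps_inter_succ_of_not_isJump c hN]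
      exact ih

/-- The jump vectors below `N` span the same space as all vectors below `N`. -/
theorem span_jumps (c : ℕ → M) (N : ℕ) :
    Submodule.span R (c '' ({j | IsJump R c j} ∩ Set.Iio N)) =
      Submodule.span R (c '' Set.Iio N) := by
  induction N with
  | zero =>
    have : {j | IsJump R c j} ∩ Set.Iio 0 = ∅ := by
      ext x
      simp
    rw [this]
    simp
  | succ N ih =>
    have e : c '' Set.Iio (N + 1) = insert (c N) (c '' Set.Iio N) := by
      rw [Iio_succ_eq, Set.image_insert_eq]
    rw [e, Submodule.span_insert, ← ih]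
    by_cases hN : IsJump R c N
    · rw [jumps_inter_succ_of_isJump c hN, Set.image_insert_eq, Submodule.span_insert]
    · rw [jumps_inter_succ_of_not_isJump c hN]
      symm
      rw [sup_eq_right, Submodule.span_singleton_le_iff_mem, ih]
      exact not_not.mp hN

theorem isJump_zero_iff (c : ℕ → M) : IsJump R c 0 ↔ c 0 ≠ 0 := by
  unfold IsJump
  have : c '' Set.Iio 0 = ∅ := by
    ext x
    simp
  rw [this, Submodule.span_empty, Submodule.mem_bot]

/-- The column index function of `wrMat`. -/
def idx {n : ℕ} (J : Fin n → ℕ) : Fin (n + 1) → ℕ :=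
  Fin.cases 0 (fun l => J l + 1)

@[simp] theorem idx_zero {n : ℕ} (J : Fin n → ℕ) : idx J 0 = 0 := rfl

@[simp] theorem idx_succ {n : ℕ} (J : Fin n → ℕ) (l : Fin n) : idx J l.succ = J l + 1 := rfl

theorem idx_strictMono {n : ℕ} (J : Fin n → ℕ) (hJ : StrictMono J) : StrictMono (idx J) := by
  intro a b hab
  induction a using Fin.cases with
  | zero =>
    induction b using Fin.cases with
    | zero => exact absurd hab (lt_irrefl _)
    | succ b => simp [idx]
  | succ a =>
    induction b using Fin.cases with
    | zero => exact absurd hab (by simp)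
    | succ b =>
      simp only [idx, Fin.cases_succ]
      have := hJ (Fin.succ_lt_succ_iff.mp hab)
      omega

/-- The chain of spans stabilises at the top when the vectors span everything. -/
theorem exists_span_Iio_eq_top [Module.Finite R M] (c : ℕ → M)
    (hspan : Submodule.span R (Set.range c) = ⊤) :
    ∃ N, Submodule.span R (c '' Set.Iio N) = ⊤ := by
  let f : ℕ →o Submodule R M :=
    ⟨fun N => Submodule.span R (c '' Set.Iio N), fun a b hab =>
      Submodule.span_mono (Set.image_mono (Set.Iio_subset_Iio hab))⟩
  obtain ⟨N, hN⟩ := (monotone_stabilizes_iff_noetherian (R := R) (M := M)).mpr inferInstance f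
  refine ⟨N, ?_⟩
  rw [eq_top_iff, ← hspan, Submodule.span_le]
  rintro _ ⟨m, rfl⟩
  have hm : c m ∈ f (m + 1) := Submodule.subset_span ⟨m, Nat.lt_succ_self m, rfl⟩
  by_cases h : N ≤ m + 1
  · rw [← hN (m + 1) h] at hm
    exact hm
  · exact f.monotone (by omega : m + 1 ≤ N) hm

/-- Existence of the order sequence of a spanning sequence of vectors with nonzero leading
vector, with independence of the jump vectors. -/
theorem exists_isOrders_of_span_eq_top {n : ℕ} [Module.Finite R M]
    (hrank : Module.finrank R M = n + 1) (c : ℕ → M) (h0 : c 0 ≠ 0)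
    (hspan : Submodule.span R (Set.range c) = ⊤) :
    ∃ J : Fin n → ℕ, IsOrders R c J ∧
      LinearIndependent R (fun col : Fin (n + 1) => c (idx J col)) := by
  classical
  obtain ⟨N, hN⟩ := exists_span_Iio_eq_top c hspan
  have hlt : ∀ j, IsJump R c j → j < N := by
    intro j hj
    by_contra hge
    apply hj
    have : Submodule.span R (c '' Set.Iio N) ≤ Submodule.span R (c '' Set.Iio j) :=
      Submodule.span_mono (Set.image_mono (Set.Iio_subset_Iio (by omega)))
    exact this (hN ▸ Submodule.mem_top)
  have hTeq : {j | IsJump R c j} ∩ Set.Iio N = {j | IsJump R c j} := by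
    ext x
    simp only [Set.mem_inter_iff, Set.mem_setOf_eq, Set.mem_Iio, and_iff_left_iff_imp]
    exact hlt x
  have hli := linearIndepOn_jumps (R := R) c N
  have hsp := span_jumps (R := R) c N
  rw [hTeq] at hli hsp
  rw [hN] at hsp
  -- the finset of jumps
  let Tf : Finset ℕ := (Finset.range N).filter (fun j => IsJump R c j)
  have hTf : (Tf : Set ℕ) = {j | IsJump R c j} := by
    ext x
    simp only [Tf, Finset.coe_filter, Finset.mem_range, Set.mem_setOf_eq]
    exact ⟨fun h => h.2, fun h => ⟨hlt x h, h⟩⟩
  rw [← hTf] at hli hsp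
  have hcardT : Tf.card = n + 1 := by
    have hli' : LinearIndependent R (fun x : (Tf : Set ℕ) => c x) := hli
    have hsp' : ⊤ ≤ Submodule.span R (Set.range (fun x : (Tf : Set ℕ) => c x)) := by
      rw [← hsp, Set.image_eq_range]
    have hb := Module.finrank_eq_card_basis (Module.Basis.mk hli' hsp')
    rw [hrank] at hb
    rw [hb]
    simp
  let S' : Finset ℕ := (Finset.range N).filter (fun j => IsJump R c (j + 1))
  have h0T : IsJump R c 0 := (isJump_zero_iff c).mpr h0
  have hTS : Tf = insert 0 (S'.image Nat.succ) := by
    ext j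
    simp only [Tf, S', Finset.mem_filter, Finset.mem_range, Finset.mem_insert, Finset.mem_image]
    constructor
    · rintro ⟨h1, h2⟩
      cases j with
      | zero => exact Or.inl rfl
      | succ j => exact Or.inr ⟨j, ⟨by omega, h2⟩, rfl⟩
    · rintro (rfl | ⟨j', ⟨h1, h2⟩, rfl⟩)
      · exact ⟨hlt 0 h0T, h0T⟩
      · exact ⟨hlt _ h2, h2⟩
  have hcardS : S'.card = n := by
    have h1 : (0 : ℕ) ∉ S'.image Nat.succ := by
      simp
    rw [hTS, Finset.card_insert_of_notMem h1,
      Finset.card_image_of_injective _ Nat.succ_injective] at hcardT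
    omega
  let e := S'.orderEmbOfFin hcardS
  have hJmono : StrictMono (fun l => e l) := e.strictMono
  refine ⟨fun l => e l, ⟨hJmono, fun j => ?_⟩, ?_⟩
  · have hr : Set.range (fun l => e l) = (S' : Set ℕ) := Finset.range_orderEmbOfFin S' hcardS
    rw [hr]
    simp only [S', Finset.coe_filter, Finset.mem_range, Set.mem_setOf_eq]
    exact ⟨fun h => h.2, fun h => ⟨by have := hlt _ h; omega, h⟩⟩
  · have hmem : ∀ col : Fin (n + 1), idx (fun l => e l) col ∈ (Tf : Set ℕ) := by
      intro col
      rw [hTf]
      induction col using Fin.cases with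
      | zero => exact h0T
      | succ l =>
        have := Finset.orderEmbOfFin_mem S' hcardS l
        simp only [S', Finset.mem_filter] at this
        exact this.2
    have hli' : LinearIndependent R (fun x : (Tf : Set ℕ) => c x) := hli
    have := hli'.comp (fun col => (⟨idx (fun l => e l) col, hmem col⟩ : (Tf : Set ℕ))) (by
      intro a b hab
      exact (idx_strictMono _ hJmono).injective (Subtype.mk.inj hab))
    exact this

/-- An order is bounded by `m` as soon as the first `m + 2` vectors span enough dimensions. -/
theorem orders_le_of_finrank {n : ℕ} (c : ℕ → M) (J : Fin n → ℕ) (hJ : IsOrders R c J)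
    (l : Fin n) (m : ℕ)
    (h : l.val + 2 ≤ Module.finrank R (Submodule.span R (c '' Set.Iio (m + 2)))) :
    J l ≤ m := by
  classical
  by_contra hlt
  push Not at hlt
  let S : Finset (Fin (n + 1)) := Finset.univ.filter (fun col => col.val ≤ l.val)
  have hsub : {j | IsJump R c j} ∩ Set.Iio (m + 2) ⊆ (idx J) '' (S : Set (Fin (n + 1))) := by
    rintro j ⟨hj, hjlt⟩
    cases j with
    | zero => exact ⟨0, by simp [S], rfl⟩
    | succ j' =>
      obtain ⟨l', hl'⟩ := (hJ.2 j').mpr hj
      have hjlt' : j' + 1 < m + 2 := hjlt
      have : J l' < J l := by omega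
      have hll : l' < l := hJ.1.lt_iff_lt.mp this
      refine ⟨l'.succ, ?_, ?_⟩
      · simp only [S, Finset.coe_filter, Finset.mem_univ, true_and, Set.mem_setOf_eq,
          Fin.val_succ]
        have : l'.val < l.val := hll
        omega
      · rw [idx_succ, hl']
  have h1 : Submodule.span R (c '' Set.Iio (m + 2)) ≤
      Submodule.span R (↑(S.image (fun col => c (idx J col))) : Set M) := by
    rw [← span_jumps]
    apply Submodule.span_mono
    rintro _ ⟨j, hj, rfl⟩
    obtain ⟨col, hcol, rfl⟩ := hsub hj
    rw [Finset.coe_image]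
    exact ⟨col, hcol, rfl⟩
  have h2 := Submodule.finrank_mono h1
  have h3 : Module.finrank R (Submodule.span R
      (↑(S.image (fun col => c (idx J col))) : Set M)) ≤
      (S.image fun col => c (idx J col)).card :=
    finrank_span_finset_le_card (R := R) (S.image fun col => c (idx J col))
  have h4 : (S.image fun col => c (idx J col)).card ≤ l.val + 1 := by
    refine Finset.card_image_le.trans ?_
    calc S.card ≤ (Finset.range (l.val + 1)).card :=
          Finset.card_le_card_of_injOn (fun col => col.val)
            (by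
              intro col hcol
              simp only [S, Finset.coe_filter, Finset.mem_univ, true_and,
                Set.mem_setOf_eq] at hcol
              simp only [Finset.coe_range, Set.mem_Iio]
              omega)
            (by
              intro a _ b _ hab
              exact Fin.ext hab)
      _ = l.val + 1 := Finset.card_range _
  omega

/-- The vectors at the order sequence (with the leading vector) are linearly independent. -/
theorem linearIndependent_of_isOrders {n : ℕ} (c : ℕ → M) (J : Fin n → ℕ) (hJ : IsOrders R c J)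
    (h0 : c 0 ≠ 0) : LinearIndependent R (fun col : Fin (n + 1) => c (idx J col)) := by
  classical
  have hidx := idx_strictMono J hJ.1
  obtain ⟨N, hN⟩ : ∃ N, ∀ col, idx J col < N := by
    refine ⟨(Finset.univ.sup (idx J)) + 1, fun col => ?_⟩
    exact Nat.lt_succ_of_le (Finset.le_sup (f := idx J) (Finset.mem_univ col))
  have hli := linearIndepOn_jumps (R := R) c N
  have hmem : ∀ col : Fin (n + 1), idx J col ∈ {j | IsJump R c j} ∩ Set.Iio N := by
    intro col
    refine ⟨?_, hN col⟩
    induction col using Fin.cases with
    | zero => exact (isJump_zero_iff c).mpr h0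
    | succ l => exact (hJ.2 (J l)).mp ⟨l, rfl⟩
  have hli' : LinearIndependent R (fun x : ({j | IsJump R c j} ∩ Set.Iio N : Set ℕ) => c x) := hli
  exact hli'.comp (fun col => ⟨idx J col, hmem col⟩) (by
    intro a b hab
    exact hidx.injective (Subtype.mk.inj hab))

/-- The order sequence is the smallest among strictly increasing sequences with independent
vectors. -/
theorem orders_le_of_linearIndependent {n : ℕ} (c : ℕ → M) (J : Fin n → ℕ) (hJ : IsOrders R c J)
    (J'' : Fin n → ℕ) (hJ'' : StrictMono J'')
    (hli : LinearIndependent R (fun col : Fin (n + 1) => c (idx J'' col))) (l : Fin n) :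
    J l ≤ J'' l := by
  classical
  refine orders_le_of_finrank c J hJ l (J'' l) ?_
  have hidx := idx_strictMono J'' hJ''
  have hq : l.val + 2 ≤ n + 1 := by
    have := l.2
    omega
  let ι : Fin (l.val + 2) → Fin (n + 1) := fun r => ⟨r.val, lt_of_lt_of_le r.2 hq⟩
  have hιinj : Function.Injective ι := by
    intro a b hab
    exact Fin.ext (Fin.mk.inj hab)
  have hli2 : LinearIndependent R (fun r : Fin (l.val + 2) => c (idx J'' (ι r))) :=
    hli.comp ι hιinj
  have hcard := finrank_span_eq_card hli2
  rw [Fintype.card_fin] at hcard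
  rw [← hcard]
  haveI : Module.Finite R (Submodule.span R (c '' Set.Iio (J'' l + 2))) :=
    FiniteDimensional.span_of_finite R ((Set.finite_Iio _).image c)
  refine Submodule.finrank_mono (Submodule.span_le.mpr ?_)
  rintro _ ⟨r, rfl⟩
  refine Submodule.subset_span ⟨idx J'' (ι r), ?_, rfl⟩
  have h1 : ι r ≤ l.succ := by
    rw [Fin.le_def]
    have := r.2
    simp only [ι, Fin.val_succ]
    omega
  have h2 := hidx.monotone h1
  rw [idx_succ] at h2
  simp only [Set.mem_Iio]
  omega

end Jumps

end Groth.Agent.Lib.Helper18.Hasse
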