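import Groth.Agent.Lib.Helper18.Hasse.Taylor
import Groth.Agent.Lib.Helper18.Hasse.Jumps
import Groth.Agent.Lib.Helper18.Deriv.Regular
import Groth.Agent.Lib.Helper18.FF.Plucker

/-! # The Hasse derivative columns of an independent tuple span everything -/

set_option autoImplicit false
set_option linter.style.haveILetI false

namespace Groth.Agent.Lib.Helper18.Hasse

open FunFld WithZero LocRes Groth.Agent.Lib.Helper18.FF

universe u v

variable {k : Type u} {K : Type v} [Field k] [Field K] [Algebra k K]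

/-- The variable of a Hasse family is not a constant. -/
theorem ne_algebraMap_of_isHasseFamily {s : K} {H : K →ₐ[k] PowerSeries K}
    (hH : IsHasseFamily s H) (c : k) : s ≠ algebraMap k K c := by
  intro h
  have h1 := hasseDer_self hH
  have h2 : hasseDer hH s = 0 := by
    have : hasseDer hH s = hasseDer hH (algebraMap k K c) := congrArg _ h
    rw [this, Derivation.map_algebraMap]
  rw [h2] at h1
  exact zero_ne_one h1

theorem transcendental_of_isHasseFamily [IsAlgClosed k] {s : K} {H : K →ₐ[k] PowerSeries K}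
    (hH : IsHasseFamily s H) : Transcendental k s := by
  intro halg
  have hint : IsIntegral k s := halg.isIntegral
  have hirr := minpoly.irreducible hint
  have hdeg := IsAlgClosed.degree_eq_one_of_irreducible k hirr
  obtain ⟨c, hc⟩ := minpoly.mem_range_of_degree_eq_one k s hdeg
  exact ne_algebraMap_of_isHasseFamily hH c hc.symm

/-- Rows of the value matrix of Hasse derivatives at a place are independent. -/
theorem linearIndependent_evalP_hasseD [IsAlgClosed k] (hK : IsFunctionField k K) {n : ℕ}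
    (φ : Fin (n + 1) → K) (hφ : LinearIndependent k φ)
    (P : Place k K) (hint : ∀ i, P.1 (φ i) ≤ 1) (t : K) (ht : P.1 t = exp (-1 : ℤ))
    (Ht : K →ₐ[k] PowerSeries K) (hHt : IsHasseFamily t Ht) :
    LinearIndependent (IsLocalRing.ResidueField P.O)
      (fun i : Fin (n + 1) => fun j : ℕ => evalP P (hasseD Ht j (φ i))) := by
  classical
  have hdeg := deg_eq_one_of_isAlgClosed hK P
  rw [Fintype.linearIndependent_iff]
  intro g hg
  have hlift : ∀ i, ∃ a : k, g i = evalP P (algebraMap k K a) := by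
    intro i
    obtain ⟨z, hz, hzg⟩ := res_surjective P (g i)
    obtain ⟨a, ha⟩ := exists_const_sub_lt_one hK hdeg hz
    refine ⟨a, ?_⟩
    rw [← hzg, ← evalP_of_le P hz]
    exact evalP_congr P hz ha
  choose a ha using hlift
  have hD : ∀ i j, P.1 (hasseD Ht j (φ i)) ≤ 1 := fun i j =>
    hasseD_val_le_one hK P ht hHt (hint i) j
  obtain ⟨y, hy⟩ : ∃ y : K, y = ∑ i, a i • φ i := ⟨_, rfl⟩
  have hyle : P.1 y ≤ 1 := by
    rw [hy]
    exact P.1.map_sum_le fun i _ => (val_smul_le P (a i) (φ i)).trans (hint i)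
  have hy0 : y = 0 := by
    refine eq_zero_of_forall_hasseD_lt hK P ht hHt hyle fun j => ?_
    have hjle := hasseD_val_le_one hK P ht hHt hyle j
    rw [← evalP_eq_zero_iff P hjle, hy, hasseD_sum]
    have h1 : ∀ i, P.1 (hasseD Ht j (a i • φ i)) ≤ 1 := by
      intro i
      rw [hasseD_smul]
      exact (val_smul_le P (a i) _).trans (hD i j)
    rw [evalP_sum P _ _ h1]
    have h2 := congrFun hg j
    simp only [Finset.sum_apply, Pi.smul_apply, smul_eq_mul, Pi.zero_apply] at h2
    rw [← h2]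
    refine Finset.sum_congr rfl fun i _ => ?_
    rw [hasseD_smul, Algebra.smul_def, evalP_mul P (P.2.1 (a i)) (hD i j), ha i]
  intro i
  have h3 : ∑ i, a i • φ i = 0 := by rw [← hy, hy0]
  have h4 := (Fintype.linearIndependent_iff.mp hφ) a h3 i
  rw [ha i, h4, map_zero]
  exact (evalP_eq_zero_iff P (by rw [map_zero]; exact zero_le')).mpr
    (by rw [map_zero]; exact zero_lt_one)

/-- Outside a finite set of places, a translate of the variable of a Hasse family is a local
parameter. -/
theorem exists_finite_local_param [IsAlgClosed k] (hK : IsFunctionField k K) {s : K}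
    {H : K →ₐ[k] PowerSeries K} (hH : IsHasseFamily s H) :
    ∃ S : Set (Place k K), S.Finite ∧
      ∀ Q, Q ∉ S → ∃ c : k, Q.1 (s - algebraMap k K c) = exp (-1 : ℤ) := by
  classical
  have hs := transcendental_of_isHasseFamily hH
  obtain ⟨S, hSfin, hS⟩ := Deriv.exists_finite_regular hK hs (hasseDer hH) (hasseDer_self hH)
  have hs0 : s ≠ 0 := by
    have := ne_algebraMap_of_isHasseFamily hH 0
    rwa [map_zero] at this
  refine ⟨S ∪ {Q : Place k K | Q.1 s ≠ 1}, hSfin.union (finite_val_ne_one hK hs0), ?_⟩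
  intro Q hQ
  simp only [Set.mem_union, Set.mem_setOf_eq, not_or, not_not] at hQ
  obtain ⟨hQS, hQs⟩ := hQ
  have hdeg := deg_eq_one_of_isAlgClosed hK Q
  obtain ⟨c, hc⟩ := exists_const_sub_lt_one hK hdeg hQs.le
  refine ⟨c, ?_⟩
  obtain ⟨t, ht⟩ : ∃ t : K, t = s - algebraMap k K c := ⟨_, rfl⟩
  rw [← ht] at hc ⊢
  have ht0 : t ≠ 0 := by
    rw [ht]
    exact sub_ne_zero.mpr (ne_algebraMap_of_isHasseFamily hH c)
  by_contra hne
  -- then `t` vanishes to order at least two
  have hord : Q.1 t ≤ exp (-2 : ℤ) := by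
    rw [val_eq_exp_neg_ord Q ht0] at hc hne ⊢
    rw [← exp_zero, exp_lt_exp] at hc
    rw [exp_le_exp]
    have : Q.ord t ≠ 1 := by
      intro h
      apply hne
      rw [h]
    omega
  obtain ⟨π, hπ⟩ := exists_uniformizer Q
  have hπ0 : π ≠ 0 := by
    rintro rfl
    rw [map_zero] at hπ
    exact exp_ne_zero hπ.symm
  obtain ⟨w, hw⟩ : ∃ w : K, w = t / π ^ 2 := ⟨_, rfl⟩
  have hwle : Q.1 w ≤ 1 := by
    rw [hw, map_div₀, map_pow, hπ, ← exp_nsmul,
      div_le_iff₀ (zero_lt_iff.mpr exp_ne_zero), one_mul]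
    simpa using hord
  have htw : t = π ^ 2 * w := by
    rw [hw]
    field_simp
  have hDt : hasseDer hH t = 1 := by
    rw [ht, map_sub, hasseDer_self hH, Derivation.map_algebraMap, sub_zero]
  have hπle : Q.1 π ≤ 1 := by
    rw [hπ, ← exp_zero, exp_le_exp]
    norm_num
  have h1 : hasseDer hH t = π * ((2 : ℕ) • (w * hasseDer hH π) + π * hasseDer hH w) := by
    conv_lhs => rw [htw]
    rw [Derivation.leibniz, Derivation.leibniz_pow]
    simp only [smul_eq_mul, nsmul_eq_mul, Nat.cast_ofNat]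
    ring
  have h2 : Q.1 ((2 : ℕ) • (w * hasseDer hH π) + π * hasseDer hH w) ≤ 1 := by
    refine (Valuation.map_add _ _ _).trans (max_le ?_ ?_)
    · rw [nsmul_eq_mul, map_mul, map_mul]
      exact mul_le_one' (val_natCast_le_one Q 2) (mul_le_one' hwle (hS Q hQS π hπle))
    · rw [map_mul]
      exact mul_le_one' hπle (hS Q hQS w hwle)
  have h3 : Q.1 (hasseDer hH t) < 1 := by
    rw [h1, map_mul, hπ]
    calc exp (-1 : ℤ) * Q.1 _ ≤ exp (-1 : ℤ) * 1 := mul_le_mul' le_rfl h2
      _ < 1 := by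
        rw [mul_one, ← exp_zero, exp_lt_exp]
        norm_num
  rw [hDt, map_one] at h3
  exact lt_irrefl _ h3

/-- There is a place at which finitely many given functions are regular and a translate of the
variable of a Hasse family is a local parameter. -/
theorem exists_good_place [IsAlgClosed k] (hK : IsFunctionField k K) {s : K}
    {H : K →ₐ[k] PowerSeries K} (hH : IsHasseFamily s H) (F : Finset K) :
    ∃ (Q : Place k K) (c : k), Q.1 (s - algebraMap k K c) = exp (-1 : ℤ) ∧ ∀ z ∈ F, Q.1 z ≤ 1 := by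
  classical
  obtain ⟨S, hSfin, hS⟩ := exists_finite_local_param hK hH
  have hbad : (S ∪ ⋃ z ∈ (F.filter (· ≠ 0)), {Q : Place k K | Q.1 z ≠ 1}).Finite := by
    refine hSfin.union ?_
    refine Set.Finite.biUnion (Finset.finite_toSet _) fun z hz => ?_
    exact finite_val_ne_one hK (Finset.mem_filter.mp hz).2
  haveI := infinite_places hK
  obtain ⟨Q, hQ⟩ := hbad.exists_notMem
  simp only [Set.mem_union, Set.mem_setOf_eq, Set.mem_iUnion, not_or, not_exists, not_not] at hQ
  obtain ⟨hQS, hQF⟩ := hQ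
  obtain ⟨c, hc⟩ := hS Q hQS
  refine ⟨Q, c, hc, fun z hz => ?_⟩
  by_cases hz0 : z = 0
  · rw [hz0, map_zero]
    exact zero_le'
  · exact (hQF z (Finset.mem_filter.mpr ⟨hz, hz0⟩)).le

/-- The columns of Hasse derivatives of a `k`-linearly independent tuple span `K ^ (n + 1)`. -/
theorem span_hasseD_eq_top [IsAlgClosed k] (hK : IsFunctionField k K) {n : ℕ}
    (φ : Fin (n + 1) → K) (hφ : LinearIndependent k φ) {s : K}
    {H : K →ₐ[k] PowerSeries K} (hH : IsHasseFamily s H) :
    Submodule.span K (Set.range fun j : ℕ => (fun i => hasseD H j (φ i))) = ⊤ := by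
  classical
  by_contra hne
  obtain ⟨f, hf0, hfker⟩ := Submodule.exists_le_ker_of_lt_top _ (lt_top_iff_ne_top.mpr hne)
  obtain ⟨a, ha⟩ : ∃ a : Fin (n + 1) → K, a = fun i => f (Pi.single i 1) := ⟨_, rfl⟩
  have hfa : ∀ v : Fin (n + 1) → K, f v = ∑ i, v i * a i := by
    intro v
    conv_lhs => rw [← Finset.univ_sum_single v]
    rw [map_sum]
    refine Finset.sum_congr rfl fun i _ => ?_
    have : (Pi.single i (v i) : Fin (n + 1) → K) = v i • Pi.single i 1 := by
      rw [← Pi.single_smul, smul_eq_mul, mul_one]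
    rw [this, map_smul, smul_eq_mul, ha]
  have hane : ∃ i0, a i0 ≠ 0 := by
    by_contra hall
    push Not at hall
    apply hf0
    refine LinearMap.ext fun v => ?_
    rw [hfa]
    simp [hall]
  obtain ⟨i0, hi0⟩ := hane
  obtain ⟨b, hb⟩ : ∃ b : Fin (n + 1) → K, b = fun i => a i / a i0 := ⟨_, rfl⟩
  have hb0 : b i0 = 1 := by
    rw [hb]
    exact div_self hi0
  have hrel : ∀ j, ∑ i, b i * hasseD H j (φ i) = 0 := by
    intro j
    have h1 : f (fun i => hasseD H j (φ i)) = 0 :=
      hfker (Submodule.subset_span ⟨j, rfl⟩)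
    rw [hfa] at h1
    have h2 : ∑ i, b i * hasseD H j (φ i) = (∑ i, hasseD H j (φ i) * a i) / a i0 := by
      rw [Finset.sum_div]
      refine Finset.sum_congr rfl fun i _ => ?_
      rw [hb]
      ring
    rw [h2, h1, zero_div]
  obtain ⟨Q, c, hQt, hQF⟩ := exists_good_place hK hH
    (Finset.univ.image b ∪ Finset.univ.image φ)
  have hbQ : ∀ i, Q.1 (b i) ≤ 1 := fun i =>
    hQF _ (Finset.mem_union_left _ (Finset.mem_image_of_mem _ (Finset.mem_univ i)))
  have hφQ : ∀ i, Q.1 (φ i) ≤ 1 := fun i =>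
    hQF _ (Finset.mem_union_right _ (Finset.mem_image_of_mem _ (Finset.mem_univ i)))
  have hHt := isHasseFamily_sub_const hH c
  have hli := linearIndependent_evalP_hasseD hK φ hφ Q hφQ _ hQt H hHt
  have hD : ∀ i j, Q.1 (hasseD H j (φ i)) ≤ 1 := fun i j =>
    hasseD_val_le_one hK Q hQt hHt (hφQ i) j
  have hzero : ∑ i, evalP Q (b i) • (fun j : ℕ => evalP Q (hasseD H j (φ i))) = 0 := by
    funext j
    simp only [Finset.sum_apply, Pi.smul_apply, smul_eq_mul, Pi.zero_apply]
    have h1 : ∀ i, Q.1 (b i * hasseD H j (φ i)) ≤ 1 := fun i => by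
      rw [map_mul]
      exact mul_le_one' (hbQ i) (hD i j)
    have h2 := evalP_sum Q Finset.univ (fun i => b i * hasseD H j (φ i)) h1
    rw [hrel j] at h2
    have h3 : evalP Q (0 : K) = 0 :=
      (evalP_eq_zero_iff Q (by rw [map_zero]; exact zero_le')).mpr
        (by rw [map_zero]; exact zero_lt_one)
    rw [h3] at h2
    rw [h2]
    exact Finset.sum_congr rfl fun i _ => (evalP_mul Q (hbQ i) (hD i j)).symm
  have h4 := (Fintype.linearIndependent_iff.mp hli) _ hzero i0
  rw [hb0] at h4
  have h5 : Q.1 (1 : K) < 1 := (evalP_eq_zero_iff Q (by rw [map_one])).mp h4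
  rw [map_one] at h5
  exact lt_irrefl _ h5

end Groth.Agent.Lib.Helper18.Hasse
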