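import Groth.Agent.Lib.Helper18.Hasse.Span

/-! # Orders at a place and adapted bases -/

set_option autoImplicit false
set_option linter.style.haveILetI false

namespace Groth.Agent.Lib.Helper18.Hasse

open FunFld WithZero LocRes Groth.Agent.Lib.Helper18.FF

universe u v

variable {k : Type u} {K : Type v} [Field k] [Field K] [Algebra k K]

/-- Functions with pairwise distinct nonzero valuations at a place are independent over the
constants. -/
theorem linearIndependent_of_val_injective (P : Place k K) {ι : Type*} (f : ι → K)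
    (hf0 : ∀ i, f i ≠ 0) (hinj : Function.Injective fun i => P.1 (f i)) :
    LinearIndependent k f := by
  classical
  rw [linearIndependent_iff']
  intro s g hsum
  by_contra hne
  push Not at hne
  obtain ⟨i1, hi1s, hi1⟩ := hne
  let s' := s.filter (fun i => g i ≠ 0)
  have hs'ne : s'.Nonempty := ⟨i1, Finset.mem_filter.mpr ⟨hi1s, hi1⟩⟩
  obtain ⟨i0, hi0, hmax⟩ := Finset.exists_max_image s' (fun i => P.1 (f i)) hs'ne
  have hi0g : g i0 ≠ 0 := (Finset.mem_filter.mp hi0).2
  have hsum' : ∑ i ∈ s', g i • f i = 0 := by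
    rw [← hsum]
    refine Finset.sum_subset (Finset.filter_subset _ _) fun i his hi => ?_
    have : g i = 0 := by
      by_contra h
      exact hi (Finset.mem_filter.mpr ⟨his, h⟩)
    rw [this, zero_smul]
  rw [← Finset.add_sum_erase s' _ hi0] at hsum'
  have hv0 : P.1 (g i0 • f i0) = P.1 (f i0) := val_smul P hi0g _
  have hne0 : P.1 (f i0) ≠ 0 := (Valuation.ne_zero_iff _).mpr (hf0 i0)
  have hlt : P.1 (∑ i ∈ s'.erase i0, g i • f i) < P.1 (f i0) := by
    refine Valuation.map_sum_lt _ hne0 fun i hi => ?_
    have hi' := Finset.mem_erase.mp hi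
    refine lt_of_le_of_lt (val_smul_le P (g i) (f i)) ?_
    refine lt_of_le_of_ne (hmax i hi'.2) fun h => ?_
    exact hi'.1 (hinj h)
  have h1 : P.1 (g i0 • f i0 + ∑ i ∈ s'.erase i0, g i • f i) = P.1 (g i0 • f i0) :=
    Valuation.map_add_eq_of_lt_left _ (by rw [hv0]; exact hlt)
  rw [hsum', map_zero, hv0] at h1
  exact hne0 h1.symm

theorem evalP_zero (P : Place k K) : evalP P (0 : K) = 0 :=
  (evalP_eq_zero_iff P (by rw [map_zero]; exact zero_le')).mpr
    (by rw [map_zero]; exact zero_lt_one)

theorem evalP_one (P : Place k K) : evalP P (1 : K) = 1 := by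
  rw [evalP_of_le P (by rw [map_one])]
  exact map_one (IsLocalRing.residue P.O)

section main

variable [IsAlgClosed k] (hK : IsFunctionField k K) (P : Place k K)

include hK in
/-- Every residue class is the class of a constant. -/
theorem exists_const_evalP (g : IsLocalRing.ResidueField P.O) :
    ∃ a : k, g = evalP P (algebraMap k K a) := by
  have hdeg := deg_eq_one_of_isAlgClosed hK P
  obtain ⟨z, hz, hzg⟩ := res_surjective P g
  obtain ⟨a, ha⟩ := exists_const_sub_lt_one hK hdeg hz
  refine ⟨a, ?_⟩
  rw [← hzg, ← evalP_of_le P hz]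
  exact evalP_congr P hz ha

variable {t : K} (ht : P.1 t = exp (-1 : ℤ)) {H : K →ₐ[k] PowerSeries K}
  (hH : IsHasseFamily t H)

include hK ht hH

/-- The order of a regular function is read off the values of its Hasse derivatives. -/
theorem val_eq_exp_iff {f : K} (hf : P.1 f ≤ 1) (j : ℕ) :
    P.1 f = exp (-(j : ℤ)) ↔
      (∀ m < j, evalP P (hasseD H m f) = 0) ∧ evalP P (hasseD H j f) ≠ 0 := by
  have hD : ∀ m, P.1 (hasseD H m f) ≤ 1 := fun m => hasseD_val_le_one hK P ht hH hf m
  constructor
  · intro h
    refine ⟨fun m hm => ?_, ?_⟩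
    · rw [evalP_eq_zero_iff P (hD m)]
      refine lt_of_le_of_lt (hasseD_val_le hK P ht hH h.le hm.le) ?_
      rw [← exp_zero, exp_lt_exp]
      omega
    · rw [Ne, evalP_eq_zero_iff P (hD j), hasseD_val_eq_one hK P ht hH h]
      exact lt_irrefl _
  · rintro ⟨h1, h2⟩
    have hf0 : f ≠ 0 := by
      rintro rfl
      apply h2
      rw [hasseD_map_zero, evalP_zero]
    have h0 : P.1 f ≠ 0 := (Valuation.ne_zero_iff _).mpr hf0
    obtain ⟨m0, hm0⟩ : ∃ m : ℕ, P.1 f = exp (-(m : ℤ)) := by
      refine ⟨(-log (P.1 f)).toNat, ?_⟩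
      have h1 : log (P.1 f) ≤ 0 := by
        rw [← exp_le_exp, exp_log h0, exp_zero]
        exact hf
      rw [Int.toNat_of_nonneg (by omega), neg_neg, exp_log h0]
    rcases lt_trichotomy m0 j with hlt | heq | hgt
    · exfalso
      have := h1 m0 hlt
      rw [evalP_eq_zero_iff P (hD m0), hasseD_val_eq_one hK P ht hH hm0] at this
      exact lt_irrefl _ this
    · rw [hm0, heq]
    · exfalso
      apply h2
      rw [evalP_eq_zero_iff P (hD j)]
      refine lt_of_le_of_lt (hasseD_val_le hK P ht hH hm0.le hgt.le) ?_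
      rw [← exp_zero, exp_lt_exp]
      omega

/-- Values of Hasse derivatives of a combination with constant coefficients. -/
theorem evalP_hasseD_comb {n : ℕ} (φ : Fin (n + 1) → K) (hnorm : ∀ i, P.1 (φ i) ≤ 1)
    (a : Fin (n + 1) → k) (m : ℕ) :
    evalP P (hasseD H m (∑ i, a i • φ i)) =
      ∑ i, evalP P (algebraMap k K (a i)) * evalP P (hasseD H m (φ i)) := by
  have hD : ∀ i, P.1 (hasseD H m (φ i)) ≤ 1 := fun i =>
    hasseD_val_le_one hK P ht hH (hnorm i) m
  rw [hasseD_sum]
  have h1 : ∀ i, P.1 (hasseD H m (a i • φ i)) ≤ 1 := by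
    intro i
    rw [hasseD_smul]
    exact (val_smul_le P (a i) _).trans (hD i)
  rw [evalP_sum P _ _ h1]
  refine Finset.sum_congr rfl fun i _ => ?_
  rw [hasseD_smul, Algebra.smul_def, evalP_mul P (P.2.1 (a i)) (hD i)]

theorem val_comb_le {n : ℕ} (φ : Fin (n + 1) → K) (hnorm : ∀ i, P.1 (φ i) ≤ 1)
    (a : Fin (n + 1) → k) : P.1 (∑ i, a i • φ i) ≤ 1 :=
  P.1.map_sum_le fun i _ => (val_smul_le P (a i) (φ i)).trans (hnorm i)

/-- Column `j + 1` of the value matrix at `P` is a jump exactly when `j > 0` is the order at `P`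
of some function in the span. -/
theorem isJump_hcolAt_succ_iff {n : ℕ} (φ : Fin (n + 1) → K) (hnorm : ∀ i, P.1 (φ i) ≤ 1)
    (j : ℕ) :
    IsJump (IsLocalRing.ResidueField P.O) (hcolAt P H φ) (j + 1) ↔
      0 < j ∧ ∃ f ∈ Submodule.span k (Set.range φ), P.1 f = exp (-(j : ℤ)) := by
  classical
  have hc0 : hcolAt P H φ 0 = hcolAt P H φ 1 := by
    funext i
    change evalP P (φ i) = evalP P (hasseD H 0 (φ i))
    rw [hasseD_zero hH]
  constructor
  · intro hjump
    have hj0 : 0 < j := by
      rcases Nat.eq_zero_or_pos j with rfl | h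
      · exfalso
        apply hjump
        rw [zero_add, ← hc0]
        exact Submodule.subset_span ⟨0, by simp, rfl⟩
      · exact h
    refine ⟨hj0, ?_⟩
    obtain ⟨g, hg1, hg2⟩ := Submodule.exists_le_ker_of_notMem hjump
    have hlift : ∀ i, ∃ a : k, g (Pi.single i 1) = evalP P (algebraMap k K a) := fun i =>
      exists_const_evalP hK P _
    choose a ha using hlift
    have hga : ∀ v : Fin (n + 1) → IsLocalRing.ResidueField P.O,
        g v = ∑ i, evalP P (algebraMap k K (a i)) * v i := by
      intro v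
      conv_lhs => rw [← Finset.univ_sum_single v]
      rw [map_sum]
      refine Finset.sum_congr rfl fun i _ => ?_
      have : (Pi.single i (v i) : Fin (n + 1) → IsLocalRing.ResidueField P.O) =
          v i • Pi.single i 1 := by
        rw [← Pi.single_smul, smul_eq_mul, mul_one]
      rw [this, map_smul, smul_eq_mul, ha, mul_comm]
    refine ⟨∑ i, a i • φ i, ?_, ?_⟩
    · exact Submodule.sum_mem _ fun i _ =>
        Submodule.smul_mem _ _ (Submodule.subset_span ⟨i, rfl⟩)
    · rw [val_eq_exp_iff hK P ht hH (val_comb_le hK P ht hH φ hnorm a)]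
      have key : ∀ m, evalP P (hasseD H m (∑ i, a i • φ i)) = g (hcolAt P H φ (m + 1)) := by
        intro m
        rw [evalP_hasseD_comb hK P ht hH φ hnorm, hga]
        rfl
      refine ⟨fun m hm => ?_, ?_⟩
      · rw [key]
        exact hg2 (Submodule.subset_span ⟨m + 1, by simpa using hm, rfl⟩)
      · rw [key]
        exact hg1
  · rintro ⟨hj0, f, hfV, hfval⟩
    obtain ⟨a, rfl⟩ := (Submodule.mem_span_range_iff_exists_fun k).mp hfV
    have hfle := val_comb_le hK P ht hH φ hnorm a
    obtain ⟨h1, h2⟩ := (val_eq_exp_iff hK P ht hH hfle j).mp hfval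
    let g : (Fin (n + 1) → IsLocalRing.ResidueField P.O) →ₗ[IsLocalRing.ResidueField P.O]
        IsLocalRing.ResidueField P.O :=
      { toFun := fun v => ∑ i, evalP P (algebraMap k K (a i)) * v i
        map_add' := fun v w => by
          simp only [Pi.add_apply, mul_add, Finset.sum_add_distrib]
        map_smul' := fun r v => by
          simp only [Pi.smul_apply, smul_eq_mul, RingHom.id_apply, Finset.mul_sum]
          refine Finset.sum_congr rfl fun i _ => ?_
          ring }
    have key : ∀ m, g (hcolAt P H φ (m + 1)) = evalP P (hasseD H m (∑ i, a i • φ i)) := by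
      intro m
      rw [evalP_hasseD_comb hK P ht hH φ hnorm]
      rfl
    intro hmem
    have hker : Submodule.span (IsLocalRing.ResidueField P.O)
        (hcolAt P H φ '' Set.Iio (j + 1)) ≤ LinearMap.ker g := by
      rw [Submodule.span_le]
      rintro _ ⟨m', hm', rfl⟩
      rw [SetLike.mem_coe, LinearMap.mem_ker]
      cases m' with
      | zero =>
        rw [hc0, key]
        exact h1 0 hj0
      | succ m =>
        rw [key]
        exact h1 m (by simpa using hm')
    have := hker hmem
    rw [LinearMap.mem_ker, key] at this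
    exact h2 this

/-- An adapted basis at `P`. -/
theorem exists_adapted {n : ℕ} (φ : Fin (n + 1) → K) (hφ : LinearIndependent k φ)
    (heff : (1 : K) ∈ Submodule.span k (Set.range φ)) (hnorm : ∀ i, P.1 (φ i) ≤ 1)
    (J' : Fin n → ℕ)
    (hJ' : IsOrders (IsLocalRing.ResidueField P.O) (hcolAt P H φ) J') :
    ∃ φ' : Fin (n + 1) → K, LinearIndependent k φ' ∧
      Submodule.span k (Set.range φ') = Submodule.span k (Set.range φ) ∧ φ' 0 = 1 ∧
      ∀ l : Fin n, 0 < J' l ∧ P.1 (φ' l.succ) = exp (-(J' l : ℤ)) ∧
        evalP P (φ' l.succ / t ^ J' l) = 1 := by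
  classical
  have ht0 := t_ne_zero hK P ht
  have hex : ∀ l : Fin n, ∃ f : K, f ∈ Submodule.span k (Set.range φ) ∧ 0 < J' l ∧
      P.1 f = exp (-(J' l : ℤ)) ∧ evalP P (f / t ^ J' l) = 1 := by
    intro l
    have hjump := (hJ'.2 (J' l)).mp ⟨l, rfl⟩
    obtain ⟨hpos, f, hfV, hfval⟩ :=
      (isJump_hcolAt_succ_iff hK P ht hH φ hnorm (J' l)).mp hjump
    have hu : P.1 (f / t ^ J' l) = 1 := by
      rw [map_div₀, map_pow, ht, ← exp_nsmul, hfval]
      simp only [nsmul_eq_mul, mul_neg, mul_one]
      exact div_self exp_ne_zero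
    obtain ⟨a, ha⟩ := exists_const_evalP hK P (evalP P (f / t ^ J' l))
    have ha0 : a ≠ 0 := by
      rintro rfl
      rw [map_zero, evalP_zero, evalP_eq_zero_iff P hu.le, hu] at ha
      exact lt_irrefl _ ha
    refine ⟨a⁻¹ • f, Submodule.smul_mem _ _ hfV, hpos, ?_, ?_⟩
    · rw [val_smul P (inv_ne_zero ha0), hfval]
    · rw [smul_div_assoc, evalP_smul P _ hu.le, ha, ← evalP_smul P _ (P.2.1 a),
        Algebra.smul_def, ← map_mul, inv_mul_cancel₀ ha0, map_one, evalP_one]
  choose f hfV hpos hfval hfev using hex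
  let φ' : Fin (n + 1) → K := Fin.cases 1 f
  have hφ'V : ∀ i, φ' i ∈ Submodule.span k (Set.range φ) := by
    intro i
    induction i using Fin.cases with
    | zero => exact heff
    | succ l => exact hfV l
  let e : Fin (n + 1) → ℕ := Fin.cases 0 J'
  have he : StrictMono e := by
    intro a b hab
    induction a using Fin.cases with
    | zero =>
      induction b using Fin.cases with
      | zero => exact absurd hab (lt_irrefl _)
      | succ b => exact hpos b
    | succ a =>
      induction b using Fin.cases with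
      | zero => exact absurd hab (by simp)
      | succ b => exact hJ'.1 (Fin.succ_lt_succ_iff.mp hab)
  have hval : ∀ i, P.1 (φ' i) = exp (-(e i : ℤ)) := by
    intro i
    induction i using Fin.cases with
    | zero =>
      change P.1 (1 : K) = exp (-((0 : ℕ) : ℤ))
      rw [map_one, Nat.cast_zero, neg_zero, exp_zero]
    | succ l => exact hfval l
  have hli : LinearIndependent k φ' := by
    refine linearIndependent_of_val_injective P φ' (fun i h => ?_) fun a b hab => ?_
    · have := hval i
      rw [h, map_zero] at this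
      exact exp_ne_zero this.symm
    · simp only [hval] at hab
      have := exp_injective hab
      exact he.injective (by omega)
  refine ⟨φ', hli, ?_, rfl, fun l => ⟨hpos l, hfval l, hfev l⟩⟩
  have hle : Submodule.span k (Set.range φ') ≤ Submodule.span k (Set.range φ) := by
    rw [Submodule.span_le]
    rintro _ ⟨i, rfl⟩
    exact hφ'V i
  haveI : FiniteDimensional k (Submodule.span k (Set.range φ)) :=
    FiniteDimensional.span_of_finite k (Set.finite_range φ)
  refine Submodule.eq_of_le_of_finrank_eq hle ?_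
  rw [finrank_span_eq_card hli, finrank_span_eq_card hφ]

end main

end Groth.Agent.Lib.Helper18.Hasse
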