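import Groth.Agent.Lib.Helper18.Hasse.StrongBound
import Groth.Agent.Lib.Helper18.Hasse.Exists
import Groth.Agent.Lib.Helper24.FFExt.Separating
import Groth.Agent.Lib.Helper24.FFExt.SepConst
import Groth.Agent.Lib.Helper18.FF.Embedding
import Groth.Agent.Lib.Helper18.FF.RiemannRoch
import Groth.Agent.S12600
import Groth.Agent.S12607
import Mathlib.Data.Fintype.Fin

/-! # The bound for the number of strong fixed points in terms of the genus -/

set_option autoImplicit false
set_option linter.style.haveILetI false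

namespace Groth.Agent.Lib.Helper18.Hasse

open FunFld WithZero LocRes Groth.Agent.Lib.Helper18.FF

universe u v

section comb

theorem strictMono_add_le {n : ℕ} (J : Fin n → ℕ) (h : StrictMono J) (a : Fin n) :
    ∀ (d : ℕ) (hd : (a : ℕ) + d < n), J a + d ≤ J ⟨a + d, hd⟩ := by
  intro d
  induction d with
  | zero => intro hd; simp
  | succ d ih =>
    intro hd
    have h1 := ih (by omega)
    have h2 : J ⟨a + d, by omega⟩ < J ⟨a + (d + 1), hd⟩ := h (by
      rw [Fin.lt_def]; simp)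
    omega

theorem strictMono_add_le' {n : ℕ} (J : Fin n → ℕ) (h : StrictMono J) (a b : Fin n) (hab : a ≤ b) :
    J a + ((b : ℕ) - a) ≤ J b := by
  have := strictMono_add_le J h a ((b : ℕ) - a) (by have := b.2; have : (a:ℕ) ≤ b := hab; omega)
  have hb : (⟨(a : ℕ) + ((b : ℕ) - a), by have := b.2; have : (a:ℕ) ≤ b := hab; omega⟩ : Fin n) = b := by
    apply Fin.ext
    have : (a:ℕ) ≤ b := hab
    simp; omega
  rw [hb] at this
  exact this

theorem sum_fin_val_two (n : ℕ) : 2 * ∑ l : Fin n, (l : ℕ) = n * (n - 1) := by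
  rw [Fin.sum_univ_eq_sum_range (fun i => i) n, mul_comm 2, Finset.sum_range_id_mul_two]

theorem sum_orders_ge {n : ℕ} (J : Fin n → ℕ) (h : StrictMono J) :
    n * (n - 1) ≤ 2 * ∑ l, J l := by
  rw [← sum_fin_val_two]
  refine Nat.mul_le_mul_left 2 (Finset.sum_le_sum fun l _ => ?_)
  by_cases hn : 0 < n
  · have := strictMono_add_le' J h ⟨0, hn⟩ l (Fin.mk_le_of_le_val (by simp))
    simp at this
    omega
  · exact absurd l.2 (by omega)

theorem sum_orders_le {n g : ℕ} (hng : g < n) (J' : Fin n → ℕ) (hmono : StrictMono J')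
    (hle : ∀ l, J' l ≤ n + g) (hpos : ∀ l, 1 ≤ J' l)
    (hmem : ∀ m, 1 ≤ m → m ≤ n - g → m ∈ Set.range J') :
    2 * ∑ l, (J' l - 1) ≤ n * (n - 1) + 2 * (g * g) := by
  have hn : 0 < n := by omega
  have hlow : ∀ l : Fin n, (l : ℕ) + 1 ≤ J' l := by
    intro l
    have := strictMono_add_le' J' hmono ⟨0, hn⟩ l (Fin.mk_le_of_le_val (by simp))
    have h0 := hpos ⟨0, hn⟩
    simp at this
    omega
  have heq : ∀ (l : ℕ) (hl : l < n - g), J' ⟨l, by omega⟩ = l + 1 := by
    intro l
    induction l using Nat.strong_induction_on with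
    | _ l ih =>
      intro hl
      obtain ⟨l', hl'⟩ := hmem (l + 1) (by omega) (by omega)
      have h1 := hlow l'
      have h2 : (l' : ℕ) ≤ l := by omega
      rcases Nat.lt_or_ge (l' : ℕ) l with h3 | h3
      · have h4 := ih l' h3 (by omega)
        have h5 : (⟨(l' : ℕ), by omega⟩ : Fin n) = l' := Fin.ext rfl
        rw [h5] at h4
        omega
      · have h5 : (⟨l, by omega⟩ : Fin n) = l' := Fin.ext (by simp; omega)
        rw [h5, hl']
  have hup : ∀ l : Fin n, J' l ≤ (l : ℕ) + g + 1 := by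
    intro l
    have := strictMono_add_le' J' hmono l ⟨n - 1, by omega⟩ (by
      rw [Fin.le_def]; simp; have := l.2; omega)
    have h0 := hle ⟨n - 1, by omega⟩
    simp at this
    have := l.2
    omega
  have hb : ∀ l : Fin n, J' l - 1 ≤ (l : ℕ) + (if (l : ℕ) < n - g then 0 else g) := by
    intro l
    split_ifs with h
    · have := heq l h
      have h5 : (⟨(l : ℕ), by omega⟩ : Fin n) = l := Fin.ext rfl
      rw [h5] at this
      omega
    · have := hup l
      omega
  have hsum : ∑ l : Fin n, (if (l : ℕ) < n - g then 0 else g) = g * g := by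
    rw [Finset.sum_ite, Finset.sum_const_zero, zero_add, Finset.sum_const, smul_eq_mul]
    congr 1
    have h1 := Finset.card_filter_add_card_filter_not (s := (Finset.univ : Finset (Fin n)))
      (fun l : Fin n => (l : ℕ) < n - g)
    rw [Fin.card_filter_val_lt, Finset.card_univ, Fintype.card_fin] at h1
    have : min n (n - g) = n - g := by omega
    omega
  calc 2 * ∑ l, (J' l - 1) ≤ 2 * ∑ l : Fin n, ((l : ℕ) + (if (l : ℕ) < n - g then 0 else g)) :=
        Nat.mul_le_mul_left 2 (Finset.sum_le_sum fun l _ => hb l)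
    _ = n * (n - 1) + 2 * (g * g) := by
        rw [Finset.sum_add_distrib, hsum, mul_add, sum_fin_val_two]

end comb

variable {k : Type u} {K : Type v} [Field k] [Field K] [Algebra k K]

/-- Over an algebraically closed field every function field has a Hasse family. -/
theorem exists_hasse [IsAlgClosed k] (hK : IsFunctionField k K) :
    ∃ (s : K) (H : K →ₐ[k] PowerSeries K), IsHasseFamily s H := by
  obtain ⟨t, ht, _, hsep⟩ := Groth.Agent.Lib.Helper24.FFExt.exists_separating hK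
    (Groth.Agent.Lib.Helper24.FFExt.isGeometric_of_perfectField hK)
  obtain ⟨H, hH⟩ := exists_isHasseFamily_of_separating ht
  exact ⟨t, H, hH⟩

theorem mul_mem_span_smul {n : ℕ} (φ : Fin (n + 1) → K) (y : K) {a : K}
    (ha : a ∈ Submodule.span k (Set.range φ)) :
    y * a ∈ Submodule.span k (Set.range (y • φ)) := by
  induction ha using Submodule.span_induction with
  | mem x hx =>
    obtain ⟨i, rfl⟩ := hx
    exact Submodule.subset_span ⟨i, rfl⟩
  | zero => rw [mul_zero]; exact Submodule.zero_mem _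
  | add x z _ _ hx hz => rw [mul_add]; exact Submodule.add_mem _ hx hz
  | smul c x _ hx => rw [mul_smul_comm]; exact Submodule.smul_mem _ c hx

theorem mapDiv_le_of_mem_L (hK : IsFunctionField k K) {n : ℕ} (φ : Fin (n + 1) → K)
    (hφ0 : ∀ i, φ i ≠ 0) (D : Divisor k K) (hD : ∀ i, φ i ∈ L D) : mapDiv k φ ≤ D := by
  intro P
  obtain ⟨i, hi⟩ := exists_mapDiv_eq hK φ P
  rw [hi]
  have := (val_le_exp_iff P (hφ0 i) (D P)).mp (hD i P)
  omega

/-- The bound for the number of strong fixed points, in integers. -/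
theorem strong_bound_genus [IsAlgClosed k] (hK : IsFunctionField k K) (τ : K →ₐ[k] K) (n : ℕ)
    (hn : genus k K < n) :
    {P : Place k K | IsStrongFixedPt τ P}.Finite ∧
    (n : ℤ) * (Set.ncard {P : Place k K | IsStrongFixedPt τ P} : ℤ) ≤
      ((n : ℤ) + Module.finrank τ.fieldRange K) * ((n : ℤ) + genus k K) +
        ((genus k K : ℤ) - 1) * ((n : ℤ) * ((n : ℤ) - 1) + 2 * ((genus k K : ℤ) * genus k K)) := by
  classical
  obtain ⟨g, hg⟩ : ∃ g : ℕ, g = genus k K := ⟨_, rfl⟩
  rw [← hg] at hn ⊢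
  have hn1 : (1 : ℤ) ≤ n := by exact_mod_cast (by omega : 1 ≤ n)
  have hd0 : (0 : ℤ) ≤ (Module.finrank τ.fieldRange K : ℤ) := Int.natCast_nonneg _
  have hg0 : (0 : ℤ) ≤ (g : ℤ) := Int.natCast_nonneg _
  by_cases hemp : {P : Place k K | IsStrongFixedPt τ P} = ∅
  · rw [hemp]
    refine ⟨Set.finite_empty, ?_⟩
    rw [Set.ncard_empty, Nat.cast_zero, mul_zero]
    rcases Nat.eq_zero_or_pos g with h0 | h0
    · rw [h0]
      push_cast
      nlinarith
    · have h1 : (1 : ℤ) ≤ g := by exact_mod_cast h0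
      have h2 : (0 : ℤ) ≤ (n : ℤ) * ((n : ℤ) - 1) := mul_nonneg (by omega) (by omega)
      have h3 : (0 : ℤ) ≤ (g : ℤ) * g := mul_nonneg hg0 hg0
      have h4 : (0 : ℤ) ≤ ((g : ℤ) - 1) * ((n : ℤ) * ((n : ℤ) - 1) + 2 * ((g : ℤ) * g)) :=
        mul_nonneg (by omega) (by omega)
      have h5 : (0 : ℤ) ≤ ((n : ℤ) + Module.finrank τ.fieldRange K) * ((n : ℤ) + g) :=
        mul_nonneg (by omega) (by omega)
      omega
  obtain ⟨P₀, hP₀⟩ := Set.nonempty_iff_ne_empty.mpr hemp
  have hP₀' : IsStrongFixedPt τ P₀ := hP₀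
  obtain ⟨s, H, hH⟩ := exists_hasse hK
  have hdeg1 : ∀ P : Place k K, P.deg = 1 := deg_eq_one_of_isAlgClosed hK
  -- sections
  have hsec : ∀ m : ℕ, m ≤ n - g → ∃ x ∈ L (Finsupp.single P₀ ((n + g : ℕ) : ℤ) : Divisor k K),
      x ≠ 0 ∧ P₀.1 x = exp (((n + g : ℕ) : ℤ) - m) := by
    intro m hm
    obtain ⟨E, hE⟩ : ∃ E : Divisor k K, E = Finsupp.single P₀ (((n + g - m : ℕ)) : ℤ) := ⟨_, rfl⟩
    have hEdeg : E.deg = ((n + g - m : ℕ) : ℤ) := by
      rw [hE, deg_single, hdeg1]
      simp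
    have h1 := ell_eq_of_deg_ge hK E (by rw [hEdeg, ← hg]; omega)
    have h2 := ell_eq_of_deg_ge hK (E - Finsupp.single P₀ 1) (by
      rw [deg_sub, deg_single, hdeg1, hEdeg, ← hg]
      push_cast
      omega)
    rw [deg_sub, deg_single, hdeg1] at h2
    obtain ⟨x, hx, hx0, hxv⟩ := exists_section_val hK P₀
      (by push_cast at h2; omega : ell (E - Finsupp.single P₀ 1) < ell E)
    refine ⟨x, L_mono ?_ hx, hx0, ?_⟩
    · rw [hE]
      intro P
      rw [Finsupp.single_apply, Finsupp.single_apply]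
      split_ifs
      · push_cast; omega
      · exact le_refl _
    · rw [hxv, hE, Finsupp.single_eq_same]
      congr 1
      push_cast
      omega
  obtain ⟨D, hD⟩ : ∃ D : Divisor k K, D = Finsupp.single P₀ ((n + g : ℕ) : ℤ) := ⟨_, rfl⟩
  rw [← hD] at hsec
  have hDdeg : D.deg = ((n + g : ℕ) : ℤ) := by
    rw [hD, deg_single, hdeg1]
    simp
  have hDP : D P₀ = ((n + g : ℕ) : ℤ) := by rw [hD, Finsupp.single_eq_same]
  have hell : ell D = n + 1 := by
    have := ell_eq_of_deg_ge hK D (by rw [hDdeg, ← hg]; push_cast; omega)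
    rw [hDdeg, ← hg] at this
    push_cast at this
    omega
  -- a basis of L(D)
  haveI := finiteDimensional_L hK D
  let b := Module.finBasisOfFinrankEq k (L D) hell
  obtain ⟨φ, hφdef⟩ : ∃ φ : Fin (n + 1) → K, φ = fun i => ((b i : L D) : K) := ⟨_, rfl⟩
  have hφ : LinearIndependent k φ := by
    rw [hφdef]
    exact b.linearIndependent.map' (L D).subtype (Submodule.ker_subtype _)
  have hspan : Submodule.span k (Set.range φ) = L D := by
    have h1 : Set.range φ = (L D).subtype '' Set.range b := by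
      rw [hφdef, ← Set.range_comp]
      rfl
    rw [h1, Submodule.span_image, b.span_eq, Submodule.map_subtype_top]
  have hφL : ∀ i, φ i ∈ L D := fun i => hspan ▸ Submodule.subset_span ⟨i, rfl⟩
  have hφ0 : ∀ i, φ i ≠ 0 := fun i => hφ.ne_zero i
  -- the map is not fixed up to scalars
  obtain ⟨a1, ha1, ha10, ha1v⟩ := hsec 1 (by omega)
  obtain ⟨b0, hb0, hb00, hb0v⟩ := hsec 0 (by omega)
  have hτφ : ¬ ∃ y : K, ∀ i, τ (φ i) = y * φ i := by
    rintro ⟨z, hz⟩
    have hall : ∀ a ∈ L D, τ a = z * a := by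
      intro a ha
      rw [← hspan] at ha
      induction ha using Submodule.span_induction with
      | mem x hx =>
        obtain ⟨i, rfl⟩ := hx
        exact hz i
      | zero => rw [map_zero, mul_zero]
      | add x y _ _ hx hy => rw [map_add, hx, hy, mul_add]
      | smul c x _ hx => rw [map_smul, hx, mul_smul_comm]
    have hz0 : z ≠ 0 := by
      rintro rfl
      have := hall b0 hb0
      rw [zero_mul] at this
      exact hb00 ((map_eq_zero_iff τ τ.toRingHom.injective).mp this)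
    have hu : P₀.1 (a1 / b0) = exp (-1 : ℤ) := by
      rw [map_div₀, ha1v, hb0v, ← exp_sub]
      congr 1
      push_cast
      ring
    have hτu : τ (a1 / b0) = a1 / b0 := by
      rw [map_div₀, hall a1 ha1, hall b0 hb0]
      field_simp
    have h1 := hP₀' (a1 / b0) (by rw [hu, ← exp_zero, exp_lt_exp]; norm_num)
    rw [hτu, hu, exp_le_exp] at h1
    omega
  -- orders and the basic bound
  obtain ⟨J, hJ, -⟩ := Groth.Agent.S12600.result k K hK φ hφ τ s H hH
  obtain ⟨hfin, hb⟩ := strong_bound hK τ φ hφ hτφ hH J hJ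
  refine ⟨hfin, ?_⟩
  rw [← hg] at hb
  -- degree of the map
  have hdegφ : (mapDiv k φ).deg ≤ (n : ℤ) + g := by
    have h1 := mapDiv_le_of_mem_L hK φ hφ0 D hφL
    have h2 : 0 ≤ (D - mapDiv k φ).deg := deg_nonneg_of_nonneg (sub_nonneg.mpr h1)
    rw [deg_sub, hDdeg] at h2
    push_cast at h2
    omega
  -- the normalized map at `P₀`
  have hn0 : 0 < n := by omega
  obtain ⟨y, hydef⟩ : ∃ y : K, y = b0⁻¹ := ⟨_, rfl⟩
  have hy : y ≠ 0 := by rw [hydef]; exact inv_ne_zero hb00
  have hyv : P₀.1 y = exp (-((n + g : ℕ) : ℤ)) := by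
    rw [hydef, map_inv₀, hb0v, ← exp_neg]
    congr 1
    all_goals (push_cast; ring)
  have hli : LinearIndependent k (y • φ) :=
    hφ.map' (LinearMap.mulLeft k y) (by
      rw [LinearMap.ker_eq_bot]
      intro a b hab
      exact mul_left_cancel₀ hy hab)
  have heff : (1 : K) ∈ Submodule.span k (Set.range (y • φ)) := by
    have h1 : (1 : K) = y * b0 := by rw [hydef, inv_mul_cancel₀ hb00]
    rw [h1]
    exact mul_mem_span_smul φ y (hspan ▸ hb0)
  have hnorm : ∀ i, P₀.1 ((y • φ) i) ≤ 1 := by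
    intro i
    rw [Pi.smul_apply, smul_eq_mul, map_mul, hyv]
    have h1 := hφL i P₀
    rw [hDP] at h1
    calc exp (-((n + g : ℕ) : ℤ)) * P₀.1 (φ i) ≤ exp (-((n + g : ℕ) : ℤ)) * exp (((n + g : ℕ) : ℤ)) :=
        mul_le_mul' le_rfl h1
      _ = 1 := by rw [← exp_add, neg_add_cancel, exp_zero]
  obtain ⟨t, Ht, ht, hHt⟩ := exists_local_hasse hK hH P₀
  have hJψ : IsOrders K (hcol τ Ht (y • φ)) J :=
    ((scale_main φ τ Ht hHt.2 y hy).1 J).mpr (((change_main hK hH hHt φ τ).1 J).mpr hJ)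
  obtain ⟨J', hJ'⟩ := exists_isOrders_hcolAt hK P₀ ht hHt (y • φ) hli heff hnorm
  have hτψ : ¬ ∃ z : K, ∀ i, τ ((y • φ) i) = z * (y • φ) i := by
    rintro ⟨z, hz⟩
    apply hτφ
    have hτy : τ y ≠ 0 := (map_ne_zero τ).mpr hy
    refine ⟨z * y / τ y, fun i => ?_⟩
    have := hz i
    rw [Pi.smul_apply, smul_eq_mul, map_mul] at this
    field_simp
    rw [mul_comm, this]
    ring
  have h606 := Groth.Agent.S12606.result k K hK τ P₀ hP₀' hn0 (y • φ) hli heff hnorm hτψ t ht Ht hHt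
    J hJψ J' hJ'
  have h607 := (Groth.Agent.S12607.result k K hK P₀ (y • φ) hli heff hnorm t ht Ht hHt J' hJ').2
  have hpos : ∀ l, 1 ≤ J' l := fun l => orders_at_pos P₀ hHt (y • φ) J' hJ' l
  have hle : ∀ l, J' l ≤ n + g := by
    intro l
    obtain ⟨f, hf, hfv⟩ := (h607 (J' l)).mp (Or.inr ⟨l, rfl⟩)
    have hf0 : f ≠ 0 := by
      rintro rfl
      rw [map_zero] at hfv
      exact exp_ne_zero hfv.symm
    have h1 := ord_le_deg_mapDiv hK P₀ (y • φ) heff hnorm hf hf0
    rw [deg_mapDiv_smul hK hy φ hφ0, ord_eq_of_val_eq_exp P₀ hfv, neg_neg] at h1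
    have : (J' l : ℤ) ≤ (n : ℤ) + g := h1.trans hdegφ
    exact_mod_cast this
  have hmem : ∀ m, 1 ≤ m → m ≤ n - g → m ∈ Set.range J' := by
    intro m hm1 hm2
    obtain ⟨a, ha, -, hav⟩ := hsec m hm2
    have h1 : ∃ f ∈ Submodule.span k (Set.range (y • φ)), P₀.1 f = exp (-(m : ℤ)) := by
      refine ⟨y * a, mul_mem_span_smul φ y (hspan ▸ ha), ?_⟩
      rw [map_mul, hyv, hav, ← exp_add]
      congr 1
      ring
    rcases (h607 m).mpr h1 with h | h
    · omega
    · exact h
  have hsumle := sum_orders_le hn J' hJ'.1 hle hpos hmem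
  have hsumge := sum_orders_ge J hJ.1
  have hJle : ∀ l, J l ≤ J' l - 1 := by
    intro l
    have h1 := h606 l
    have h2 := hpos ⟨0, hn0⟩
    omega
  have hS : 2 * ∑ l, J l ≤ n * (n - 1) + 2 * (g * g) :=
    (Nat.mul_le_mul_left 2 (Finset.sum_le_sum fun l _ => hJle l)).trans hsumle
  -- conclusion
  have hcast : ((n * (n - 1) : ℕ) : ℤ) = (n : ℤ) * ((n : ℤ) - 1) := by
    rw [Nat.cast_mul, Nat.cast_sub (by omega)]
    simp
  have hS' : 2 * ∑ l, (J l : ℤ) ≤ (n : ℤ) * ((n : ℤ) - 1) + 2 * ((g : ℤ) * g) := by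
    have := (Nat.cast_le (α := ℤ)).mpr hS
    push_cast at this
    rw [← hcast]
    push_cast
    exact this
  have hS'' : (n : ℤ) * ((n : ℤ) - 1) ≤ 2 * ∑ l, (J l : ℤ) := by
    have := (Nat.cast_le (α := ℤ)).mpr hsumge
    rw [hcast] at this
    push_cast at this
    exact this
  have hA : ((n : ℤ) + Module.finrank τ.fieldRange K) * (mapDiv k φ).deg ≤
      ((n : ℤ) + Module.finrank τ.fieldRange K) * ((n : ℤ) + g) :=
    mul_le_mul_of_nonneg_left hdegφ (by omega)
  have hB : (2 * (g : ℤ) - 2) * ∑ l, (J l : ℤ) ≤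
      ((g : ℤ) - 1) * ((n : ℤ) * ((n : ℤ) - 1) + 2 * ((g : ℤ) * g)) := by
    rcases Nat.eq_zero_or_pos g with h0 | h0
    · rw [h0]
      push_cast
      nlinarith
    · have h1 : (1 : ℤ) ≤ g := by exact_mod_cast h0
      have h2 : (0 : ℤ) ≤ (g : ℤ) - 1 := by omega
      nlinarith
  linarith

end Groth.Agent.Lib.Helper18.Hasse
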