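import Groth.Agent.Lib.Helper18.Hasse.ChangeVar
import Groth.Agent.Lib.Helper18.Hasse.Span

/-! # Existence of a Hasse family in a local parameter at any place -/

set_option autoImplicit false
set_option linter.style.haveILetI false

namespace Groth.Agent.Lib.Helper18.Hasse

open FunFld WithZero LocRes Groth.Agent.Lib.Helper18.FF

universe u v

variable {k : Type u} {K : Type v} [Field k] [Field K] [Algebra k K]

/-- A Hasse family for any element with nonzero first derivative. -/
theorem exists_isHasseFamily_of_ne_zero {s t : K} {Hs : K →ₐ[k] PowerSeries K}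
    (hHs : IsHasseFamily s Hs) (h : hasseD Hs 1 t ≠ 0) :
    ∃ Ht : K →ₐ[k] PowerSeries K, IsHasseFamily t Ht := by
  obtain ⟨v, hv⟩ : ∃ v, v = Hs t - PowerSeries.C t := ⟨_, rfl⟩
  have hvcc : PowerSeries.constantCoeff v = 0 := by
    rw [hv, map_sub, hHs.2 t, PowerSeries.constantCoeff_C, sub_self]
  have hv1 : PowerSeries.coeff 1 v = hasseD Hs 1 t := by
    rw [hv, map_sub, PowerSeries.coeff_C, if_neg one_ne_zero, sub_zero]
    rfl
  have hunit : IsUnit (PowerSeries.coeff 1 v) := by
    rw [hv1]
    exact isUnit_iff_ne_zero.mpr h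
  obtain ⟨w, hw⟩ : ∃ w, w = v.substInvOfIsUnit hunit := ⟨_, rfl⟩
  have hwcc : PowerSeries.constantCoeff w = 0 := by
    rw [hw]
    exact PowerSeries.constantCoeff_substInvOfIsUnit v hunit
  have hws : PowerSeries.HasSubst w := PowerSeries.HasSubst.of_constantCoeff_zero' hwcc
  have hvw : v.subst w = PowerSeries.X := by
    rw [hw]
    exact PowerSeries.subst_substInvOfIsUnit_right v hvcc hunit
  let A : K →ₐ[k] PowerSeries K :=
    ((PowerSeries.substAlgHom (R := K) hws).restrictScalars k).comp Hs
  have hA : ∀ z, A z = (Hs z).subst w := by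
    intro z
    change (PowerSeries.substAlgHom (R := K) hws) (Hs z) = _
    rw [PowerSeries.coe_substAlgHom]
  refine ⟨A, ?_, ?_⟩
  · have h1 : Hs t = PowerSeries.C t + v := by
      rw [hv]
      ring
    rw [hA, h1, PowerSeries.subst_add hws, hvw]
    have : (PowerSeries.C t : PowerSeries K).subst w = PowerSeries.C t := PowerSeries.subst_C t
    rw [this]
  · intro z
    rw [hA, ← PowerSeries.coeff_zero_eq_constantCoeff_apply, coeff_subst_eq_sum hwcc]
    simp [hHs.2 z]

/-- At every place there is a local parameter carrying a Hasse family. -/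
theorem exists_local_hasse [IsAlgClosed k] (hK : IsFunctionField k K) {s : K}
    {Hs : K →ₐ[k] PowerSeries K} (hHs : IsHasseFamily s Hs) (P : Place k K) :
    ∃ (t : K) (Ht : K →ₐ[k] PowerSeries K), P.1 t = exp (-1 : ℤ) ∧ IsHasseFamily t Ht := by
  obtain ⟨t0, ht0⟩ := exists_uniformizer P
  have ht00 : t0 ≠ 0 := by
    rintro rfl
    rw [map_zero] at ht0
    exact exp_ne_zero ht0.symm
  by_cases hD : hasseD Hs 1 t0 = 0
  · -- an element of positive order with nonzero derivative
    have hs0 : s ≠ 0 := by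
      have := ne_algebraMap_of_isHasseFamily hHs 0
      rwa [map_zero] at this
    obtain ⟨w, hw1, hw2⟩ : ∃ w : K, P.1 w < 1 ∧ hasseDer hHs w ≠ 0 := by
      by_cases hs : P.1 s ≤ 1
      · obtain ⟨c, hc⟩ := exists_const_sub_lt_one hK (deg_eq_one_of_isAlgClosed hK P) hs
        refine ⟨s - algebraMap k K c, hc, ?_⟩
        rw [map_sub, hasseDer_self hHs, Derivation.map_algebraMap, sub_zero]
        exact one_ne_zero
      · push Not at hs
        refine ⟨s⁻¹, ?_, ?_⟩
        · rw [map_inv₀]
          exact inv_lt_one_of_one_lt₀ hs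
        · rw [Derivation.leibniz_inv, hasseDer_self hHs]
          simp [hs0]
    refine ⟨t0 * (1 + w), ?_⟩
    have hval : P.1 (t0 * (1 + w)) = exp (-1 : ℤ) := by
      rw [map_mul, ht0]
      have : P.1 (1 + w) = 1 := by
        have h1 : P.1 w < P.1 (1 : K) := by rwa [map_one]
        rw [Valuation.map_add_eq_of_lt_left _ h1, map_one]
      rw [this, mul_one]
    have hDt : hasseD Hs 1 (t0 * (1 + w)) ≠ 0 := by
      have h1 : hasseDer hHs (t0 * (1 + w)) = t0 * hasseDer hHs w := by
        rw [Derivation.leibniz, map_add, Derivation.map_one_eq_zero, zero_add, hasseDer_apply hHs t0,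
          hD, smul_zero, add_zero, smul_eq_mul]
      rw [← hasseDer_apply hHs, h1]
      exact mul_ne_zero ht00 hw2
    obtain ⟨Ht, hHt⟩ := exists_isHasseFamily_of_ne_zero hHs hDt
    exact ⟨Ht, hval, hHt⟩
  · obtain ⟨Ht, hHt⟩ := exists_isHasseFamily_of_ne_zero hHs hD
    exact ⟨t0, Ht, ht0, hHt⟩

end Groth.Agent.Lib.Helper18.Hasse
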