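import Groth.Agent.Lib.Helper18.Hasse.Adapted
import Groth.Agent.Lib.Helper18.Hasse.LocalHasse
import Groth.Agent.Lib.Helper18.FF.Weights

/-! # Existence of Laurent expansions at the places of a function field over an algebraically
closed field: the Taylor expansion through a local Hasse family -/

set_option autoImplicit false
set_option linter.style.haveILetI false

namespace Groth.Agent.Lib.Helper18.Hasse

open FunFld WithZero LocRes Groth.Agent.Lib.Helper18.FF

universe u v

variable {k : Type u} {K : Type v} [Field k] [Field K] [Algebra k K]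

section cst

variable [IsAlgClosed k] (hK : IsFunctionField k K) (P : Place k K)

include hK in
theorem algebraMap_residue_bijective :
    Function.Bijective (algebraMap k (IsLocalRing.ResidueField P.O)) := by
  have h1 := finiteDimensional_residueField hK P
  have h2 : Algebra.IsIntegral k (IsLocalRing.ResidueField P.O) :=
    @Algebra.IsIntegral.of_finite k (IsLocalRing.ResidueField P.O) _ _ _ h1
  exact IsAlgClosed.algebraMap_bijective_of_isIntegral

/-- The residue field of a place over an algebraically closed field is the constant field. -/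
noncomputable def resEquiv : k ≃+* IsLocalRing.ResidueField P.O :=
  RingEquiv.ofBijective (algebraMap k (IsLocalRing.ResidueField P.O))
    (algebraMap_residue_bijective hK P)

/-- The value of a function at a place, as a constant. -/
noncomputable def cst (z : K) : k := (resEquiv hK P).symm (evalP P z)

theorem resEquiv_cst (z : K) : algebraMap k _ (cst hK P z) = evalP P z :=
  (resEquiv hK P).apply_symm_apply _

theorem cst_add {a b : K} (ha : P.1 a ≤ 1) (hb : P.1 b ≤ 1) :
    cst hK P (a + b) = cst hK P a + cst hK P b := by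
  unfold cst
  rw [evalP_add P ha hb, map_add]

theorem cst_mul {a b : K} (ha : P.1 a ≤ 1) (hb : P.1 b ≤ 1) :
    cst hK P (a * b) = cst hK P a * cst hK P b := by
  unfold cst
  rw [evalP_mul P ha hb, map_mul]

theorem cst_sum {ι : Type*} (s : Finset ι) (f : ι → K) (hf : ∀ i, P.1 (f i) ≤ 1) :
    cst hK P (∑ i ∈ s, f i) = ∑ i ∈ s, cst hK P (f i) := by
  unfold cst
  rw [evalP_sum P s f hf, map_sum]

theorem cst_zero : cst hK P 0 = 0 := by
  unfold cst
  rw [evalP_zero, map_zero]

theorem cst_algebraMap (c : k) : cst hK P (algebraMap k K c) = c := by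
  unfold cst
  rw [RingEquiv.symm_apply_eq, evalP_of_le P (P.2.1 c)]
  rfl

theorem cst_one : cst hK P 1 = 1 := by
  rw [← map_one (algebraMap k K), cst_algebraMap]

theorem cst_eq_zero_iff {z : K} (hz : P.1 z ≤ 1) : cst hK P z = 0 ↔ P.1 z < 1 := by
  unfold cst
  rw [map_eq_zero_iff _ (resEquiv hK P).symm.injective, evalP_eq_zero_iff P hz]

end cst

section taylor

variable [IsAlgClosed k] (hK : IsFunctionField k K) (P : Place k K) {t : K}
  (ht : P.1 t = exp (-1 : ℤ)) {H : K →ₐ[k] PowerSeries K} (hH : IsHasseFamily t H)

/-- The Taylor expansion of a function regular at `P`, as a power series over the constants. -/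
noncomputable def taylorO : P.O →+* PowerSeries k where
  toFun y := PowerSeries.mk fun j => cst hK P (hasseD H j (y : K))
  map_one' := by
    ext j
    rw [PowerSeries.coeff_mk, PowerSeries.coeff_one]
    have : ((1 : P.O) : K) = algebraMap k K 1 := by rw [map_one]; rfl
    rw [this, hasseD_algebraMap]
    split_ifs with h
    · rw [cst_algebraMap]
    · rw [cst_zero]
  map_mul' y z := by
    ext j
    rw [PowerSeries.coeff_mk, PowerSeries.coeff_mul]
    have hy : P.1 (y : K) ≤ 1 := y.2
    have hz : P.1 (z : K) ≤ 1 := z.2
    have : ((y * z : P.O) : K) = (y : K) * (z : K) := rfl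
    rw [this, hasseD_mul, cst_sum hK P _ _ (fun p => by
      rw [map_mul]
      exact mul_le_one' (hasseD_val_le_one hK P ht hH hy _) (hasseD_val_le_one hK P ht hH hz _))]
    refine Finset.sum_congr rfl fun p _ => ?_
    rw [PowerSeries.coeff_mk, PowerSeries.coeff_mk,
      cst_mul hK P (hasseD_val_le_one hK P ht hH hy _) (hasseD_val_le_one hK P ht hH hz _)]
  map_zero' := by
    ext j
    rw [PowerSeries.coeff_mk, map_zero]
    have : ((0 : P.O) : K) = 0 := rfl
    rw [this, hasseD_map_zero, cst_zero]
  map_add' y z := by
    ext j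
    rw [PowerSeries.coeff_mk, map_add, PowerSeries.coeff_mk, PowerSeries.coeff_mk]
    have hy : P.1 (y : K) ≤ 1 := y.2
    have hz : P.1 (z : K) ≤ 1 := z.2
    have : ((y + z : P.O) : K) = (y : K) + (z : K) := rfl
    rw [this, hasseD_add,
      cst_add hK P (hasseD_val_le_one hK P ht hH hy _) (hasseD_val_le_one hK P ht hH hz _)]

theorem coeff_taylorO (y : P.O) (j : ℕ) :
    PowerSeries.coeff j (taylorO hK P ht hH y) = cst hK P (hasseD H j (y : K)) := by
  change PowerSeries.coeff j (PowerSeries.mk fun j => cst hK P (hasseD H j (y : K))) = _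
  rw [PowerSeries.coeff_mk]

theorem taylorO_injective : Function.Injective (taylorO hK P ht hH) := by
  rw [injective_iff_map_eq_zero]
  intro y hy
  have hy1 : P.1 (y : K) ≤ 1 := y.2
  have : (y : K) = 0 := by
    refine eq_zero_of_forall_hasseD_lt hK P ht hH hy1 fun j => ?_
    rw [← cst_eq_zero_iff hK P (hasseD_val_le_one hK P ht hH hy1 j), ← coeff_taylorO hK P ht hH, hy,
      map_zero]
  exact Subtype.ext this

theorem taylorO_algebraMap (c : k) :
    taylorO hK P ht hH (algebraMap k P.O c) = PowerSeries.C c := by
  ext j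
  rw [coeff_taylorO, PowerSeries.coeff_C]
  have : ((algebraMap k P.O c : P.O) : K) = algebraMap k K c := rfl
  rw [this, hasseD_algebraMap]
  split_ifs with h
  · rw [cst_algebraMap]
  · rw [cst_zero]

/-- The Taylor expansion on regular functions, into Laurent series. -/
noncomputable def taylorL : P.O →+* LaurentSeries k :=
  (HahnSeries.ofPowerSeries ℤ k).comp (taylorO hK P ht hH)

theorem taylorL_injective : Function.Injective (taylorL hK P ht hH) :=
  HahnSeries.ofPowerSeries_injective.comp (taylorO_injective hK P ht hH)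

/-- The Taylor expansion of a function at a place, as a Laurent series over the constants. -/
noncomputable def taylorK : K →+* LaurentSeries k :=
  IsFractionRing.lift (A := P.O) (K := K) (taylorL_injective hK P ht hH)

theorem taylorK_coe (y : P.O) : taylorK hK P ht hH (y : K) = taylorL hK P ht hH y :=
  IsFractionRing.lift_algebraMap (taylorL_injective hK P ht hH) y

/-- The Taylor expansion at a place as a homomorphism of algebras over the constants. -/
noncomputable def taylorA : K →ₐ[k] LaurentSeries k :=
  { taylorK hK P ht hH with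
    commutes' := fun c => by
      have h1 : algebraMap k K c = ((algebraMap k P.O c : P.O) : K) := rfl
      change taylorK hK P ht hH (algebraMap k K c) = _
      rw [h1, taylorK_coe]
      change HahnSeries.ofPowerSeries ℤ k (taylorO hK P ht hH (algebraMap k P.O c)) = _
      rw [taylorO_algebraMap, HahnSeries.ofPowerSeries_C, HahnSeries.algebraMap_apply',
        PowerSeries.algebraMap_apply, HahnSeries.ofPowerSeries_C]
      rfl }

theorem taylorA_coe (y : P.O) :
    taylorA hK P ht hH (y : K) = HahnSeries.ofPowerSeries ℤ k (taylorO hK P ht hH y) :=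
  taylorK_coe hK P ht hH y

theorem coeff_taylorA_coe (y : P.O) (i : ℤ) :
    (taylorA hK P ht hH (y : K)).coeff i =
      if i < 0 then 0 else cst hK P (hasseD H i.natAbs (y : K)) := by
  rw [taylorA_coe]
  erw [PowerSeries.coeff_coe]
  rw [coeff_taylorO]

theorem val_taylorA_of_le {y : K} (hy : P.1 y ≤ 1) :
    Valued.v (taylorA hK P ht hH y) = P.1 y := by
  by_cases hy0 : y = 0
  · rw [hy0, map_zero, map_zero, map_zero]
  have h0 : P.1 y ≠ 0 := (Valuation.ne_zero_iff _).mpr hy0
  obtain ⟨m, hm⟩ : ∃ m : ℕ, P.1 y = exp (-(m : ℤ)) := by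
    refine ⟨(-log (P.1 y)).toNat, ?_⟩
    have h1 : log (P.1 y) ≤ 0 := by
      rw [← exp_le_exp, exp_log h0, exp_zero]
      exact hy
    rw [Int.toNat_of_nonneg (by omega), neg_neg, exp_log h0]
  have hD : ∀ j, P.1 (hasseD H j y) ≤ 1 := fun j => hasseD_val_le_one hK P ht hH hy j
  have hcoe := coeff_taylorA_coe hK P ht hH ⟨y, hy⟩
  simp only at hcoe
  have hne : taylorA hK P ht hH y ≠ 0 := fun h => hy0 ((map_eq_zero _).mp h)
  have hv0 : Valued.v (taylorA hK P ht hH y) ≠ 0 := (Valuation.ne_zero_iff _).mpr hne
  have hle : Valued.v (taylorA hK P ht hH y) ≤ exp (-(m : ℤ)) := by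
    rw [LaurentSeries.valuation_le_iff_coeff_lt_eq_zero]
    intro n hn
    rw [hcoe]
    split_ifs with h
    · rfl
    · rw [cst_eq_zero_iff hK P (hD _)]
      have hlt : n.natAbs < m := by omega
      refine lt_of_le_of_lt (hasseD_val_le hK P ht hH hm.le hlt.le) ?_
      rw [← exp_zero, exp_lt_exp]
      omega
  have hnle : ¬ Valued.v (taylorA hK P ht hH y) ≤ exp (-((m : ℤ) + 1)) := by
    rw [LaurentSeries.valuation_le_iff_coeff_lt_eq_zero]
    intro h
    have h1 := h (m : ℤ) (by omega)
    rw [hcoe, if_neg (by omega), Int.natAbs_natCast, cst_eq_zero_iff hK P (hD _),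
      hasseD_val_eq_one hK P ht hH hm] at h1
    exact lt_irrefl _ h1
  rw [hm]
  rw [← exp_log hv0] at hle hnle ⊢
  rw [exp_le_exp] at hle hnle
  congr 1
  omega

theorem val_taylorA (y : K) : Valued.v (taylorA hK P ht hH y) = P.1 y := by
  rcases le_total (P.1 y) 1 with h | h
  · exact val_taylorA_of_le hK P ht hH h
  · have hy0 : y ≠ 0 := by
      rintro rfl
      rw [map_zero] at h
      exact absurd h (not_le.mpr zero_lt_one)
    have h1 : P.1 y⁻¹ ≤ 1 := by
      rw [map_inv₀]
      exact inv_le_one_of_one_le₀ h
    have h2 := val_taylorA_of_le hK P ht hH h1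
    rw [map_inv₀, map_inv₀, map_inv₀] at h2
    exact inv_injective h2

/-- Over an algebraically closed constant field, every place of a function field carrying a Hasse
family has a Laurent expansion in a local parameter. -/
theorem isExpansionAt_taylorA : IsExpansionAt P.1 (taylorA hK P ht hH) := by
  refine ⟨val_taylorA hK P ht hH, fun a => ⟨algebraMap k K a, P.2.1 a, ?_⟩, t, ht⟩
  rw [map_algebraMap, HahnSeries.C_apply, HahnSeries.coeff_single_same]
  rfl

end taylor

/-- Over an algebraically closed constant field, a function field with a Hasse family has a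
Laurent expansion at every place. -/
theorem exists_expansion [IsAlgClosed k] (hK : IsFunctionField k K) {s : K}
    {H : K →ₐ[k] PowerSeries K} (hH : IsHasseFamily s H) (P : Place k K) :
    ∃ Φ : K →ₐ[k] LaurentSeries k, IsExpansionAt P.1 Φ := by
  obtain ⟨t, Ht, ht, hHt⟩ := exists_local_hasse hK hH P
  exact ⟨taylorA hK P ht hHt, isExpansionAt_taylorA hK P ht hHt⟩

end Groth.Agent.Lib.Helper18.Hasse
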