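import Groth.Prelude.Def_W4bk4goldsch45p2
import Mathlib.RingTheory.Derivation.Basic

/-! # Hasse families: basic algebra of the coefficient maps -/

set_option autoImplicit false
set_option linter.style.haveILetI false

namespace Groth.Agent.Lib.Helper18.Hasse

open LocRes

universe u v

variable {k : Type u} {K : Type v} [Field k] [Field K] [Algebra k K]

theorem hasseD_zero {s : K} {H : K →ₐ[k] PowerSeries K} (hH : IsHasseFamily s H) (y : K) :
    hasseD H 0 y = y := by
  rw [hasseD_apply, PowerSeries.coeff_zero_eq_constantCoeff_apply]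
  exact hH.2 y

theorem hasseD_mul (H : K →ₐ[k] PowerSeries K) (j : ℕ) (a b : K) :
    hasseD H j (a * b) = ∑ p ∈ Finset.HasAntidiagonal.antidiagonal j, hasseD H p.1 a * hasseD H p.2 b := by
  rw [hasseD_apply, map_mul, PowerSeries.coeff_mul]
  rfl

theorem hasseD_add (H : K →ₐ[k] PowerSeries K) (j : ℕ) (a b : K) :
    hasseD H j (a + b) = hasseD H j a + hasseD H j b := by
  rw [hasseD_apply, map_add, map_add]
  rfl

theorem hasseD_sub (H : K →ₐ[k] PowerSeries K) (j : ℕ) (a b : K) :
    hasseD H j (a - b) = hasseD H j a - hasseD H j b := by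
  rw [hasseD_apply, map_sub, map_sub]
  rfl

theorem hasseD_map_zero (H : K →ₐ[k] PowerSeries K) (j : ℕ) : hasseD H j 0 = 0 := by
  rw [hasseD_apply, map_zero, map_zero]

theorem hasseD_sum (H : K →ₐ[k] PowerSeries K) (j : ℕ) {ι : Type*} (S : Finset ι) (f : ι → K) :
    hasseD H j (∑ i ∈ S, f i) = ∑ i ∈ S, hasseD H j (f i) := by
  rw [hasseD_apply, map_sum, map_sum]
  rfl

theorem H_algebraMap (H : K →ₐ[k] PowerSeries K) (c : k) :
    H (algebraMap k K c) = PowerSeries.C (algebraMap k K c) := by
  rw [H.commutes, PowerSeries.algebraMap_apply]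

theorem hasseD_smul (H : K →ₐ[k] PowerSeries K) (j : ℕ) (c : k) (a : K) :
    hasseD H j (c • a) = c • hasseD H j a := by
  rw [Algebra.smul_def, hasseD_apply, map_mul, H_algebraMap, PowerSeries.coeff_C_mul,
    ← Algebra.smul_def]
  rfl

theorem hasseD_algebraMap (H : K →ₐ[k] PowerSeries K) (j : ℕ) (c : k) :
    hasseD H j (algebraMap k K c) = if j = 0 then algebraMap k K c else 0 := by
  rw [hasseD_apply, H_algebraMap, PowerSeries.coeff_C]

theorem hasseD_self {s : K} {H : K →ₐ[k] PowerSeries K} (hH : IsHasseFamily s H) (j : ℕ) :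
    hasseD H j s = if j = 0 then s else if j = 1 then 1 else 0 := by
  rw [hasseD_apply, hH.1, map_add, PowerSeries.coeff_C, PowerSeries.coeff_X]
  by_cases h0 : j = 0
  · subst h0
    simp
  · rw [if_neg h0, if_neg h0, zero_add]

theorem H_self_pow {s : K} {H : K →ₐ[k] PowerSeries K} (hH : IsHasseFamily s H) (m : ℕ) :
    H (s ^ m) = (PowerSeries.C s + PowerSeries.X) ^ m := by
  rw [map_pow, hH.1]

theorem hasseD_self_pow {s : K} {H : K →ₐ[k] PowerSeries K} (hH : IsHasseFamily s H) (m j : ℕ) :
    hasseD H j (s ^ m) = (m.choose j : K) * s ^ (m - j) := by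
  classical
  rw [hasseD_apply, H_self_pow hH, add_comm, add_pow, map_sum]
  have hterm : ∀ e ∈ Finset.range (m + 1),
      PowerSeries.coeff j ((PowerSeries.X : PowerSeries K) ^ e * PowerSeries.C s ^ (m - e) *
        ((m.choose e : ℕ) : PowerSeries K)) =
      if j = e then s ^ (m - e) * (m.choose e : K) else 0 := by
    intro e _
    have : (PowerSeries.X : PowerSeries K) ^ e * PowerSeries.C s ^ (m - e) *
        ((m.choose e : ℕ) : PowerSeries K) =
        PowerSeries.C (s ^ (m - e) * (m.choose e : K)) * PowerSeries.X ^ e := by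
      rw [map_mul, map_pow, map_natCast]
      ring
    rw [this, PowerSeries.coeff_C_mul_X_pow]
  rw [Finset.sum_congr rfl hterm, Finset.sum_ite_eq]
  by_cases hj : j ∈ Finset.range (m + 1)
  · rw [if_pos hj, mul_comm]
  · rw [if_neg hj]
    have : m < j := by
      rw [Finset.mem_range] at hj
      omega
    rw [Nat.choose_eq_zero_of_lt this]
    simp

/-- The first coefficient map of a Hasse family is a derivation. -/
noncomputable def hasseDer {s : K} {H : K →ₐ[k] PowerSeries K} (hH : IsHasseFamily s H) :
    Derivation k K K :=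
  Derivation.mk'
    { toFun := fun y => hasseD H 1 y
      map_add' := fun a b => hasseD_add H 1 a b
      map_smul' := fun c a => by
        simp only [RingHom.id_apply]
        exact hasseD_smul H 1 c a }
    (fun a b => by
      change hasseD H 1 (a * b) = a • hasseD H 1 b + b • hasseD H 1 a
      rw [hasseD_mul, Finset.Nat.sum_antidiagonal_eq_sum_range_succ_mk, Finset.sum_range_succ,
        Finset.sum_range_one]
      simp only [Nat.sub_zero, Nat.sub_self]
      rw [hasseD_zero hH, hasseD_zero hH, smul_eq_mul, smul_eq_mul]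
      ring)

theorem hasseDer_apply {s : K} {H : K →ₐ[k] PowerSeries K} (hH : IsHasseFamily s H) (y : K) :
    hasseDer hH y = hasseD H 1 y := rfl

theorem hasseDer_self {s : K} {H : K →ₐ[k] PowerSeries K} (hH : IsHasseFamily s H) :
    hasseDer hH s = 1 := by
  rw [hasseDer_apply, hasseD_self hH]
  simp

theorem isHasseFamily_sub_const {s : K} {H : K →ₐ[k] PowerSeries K} (hH : IsHasseFamily s H)
    (c : k) : IsHasseFamily (s - algebraMap k K c) H := by
  refine ⟨?_, hH.2⟩
  rw [map_sub, hH.1, H_algebraMap, map_sub]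
  ring

end Groth.Agent.Lib.Helper18.Hasse
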