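import Mathlib.Algebra.Polynomial.Coeff
import Mathlib.Algebra.Polynomial.Div
import Mathlib.Algebra.Polynomial.Degree.Lemmas
import Mathlib.RingTheory.Coprime.Lemmas
import Mathlib.RingTheory.Polynomial.Basic

/-! # Independence of rows of truncated binomial matrices -/

set_option autoImplicit false

namespace Groth.Agent.Lib.Helper18.Hasse

open Polynomial

/-- Rows `(e r choose i)`, `i ≤ m`, with distinct exponents `e r` in a window `[d, d + m]` are
linearly independent over any field. -/
theorem binom_rows_independent {F : Type*} [Field F] {ι : Type*} [Fintype ι] (e : ι → ℕ)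
    (he : Function.Injective e) (x : ι → F) (d m : ℕ)
    (hsupp : ∀ r, x r ≠ 0 → d ≤ e r ∧ e r ≤ d + m)
    (hrel : ∀ i ≤ m, ∑ r, x r * (((e r).choose i : ℕ) : F) = 0) : ∀ r, x r = 0 := by
  classical
  obtain ⟨G, hG⟩ : ∃ G : F[X], G = ∑ r, C (x r) * (1 + X) ^ (e r - d) := ⟨_, rfl⟩
  have hGcoeff : ∀ i, G.coeff i = ∑ r, x r * (((e r - d).choose i : ℕ) : F) := by
    intro i
    rw [hG, finset_sum_coeff]
    refine Finset.sum_congr rfl fun r _ => ?_
    rw [coeff_C_mul, coeff_one_add_X_pow]
  have hmul : (1 + X) ^ d * G = ∑ r, C (x r) * (1 + X) ^ (e r) := by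
    rw [hG, Finset.mul_sum]
    refine Finset.sum_congr rfl fun r _ => ?_
    by_cases hx : x r = 0
    · rw [hx, map_zero, zero_mul, zero_mul, mul_zero]
    · have := (hsupp r hx).1
      calc (1 + X) ^ d * (C (x r) * (1 + X) ^ (e r - d))
          = C (x r) * ((1 + X) ^ d * (1 + X) ^ (e r - d)) := by ring
        _ = _ := by rw [← pow_add, Nat.add_sub_cancel' this]
  have hdvd : X ^ (m + 1) ∣ (1 + X) ^ d * G := by
    rw [X_pow_dvd_iff]
    intro i hi
    rw [hmul, finset_sum_coeff]
    have := hrel i (by omega)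
    rw [← this]
    refine Finset.sum_congr rfl fun r _ => ?_
    rw [coeff_C_mul, coeff_one_add_X_pow]
  have hcop : IsCoprime (X ^ (m + 1) : F[X]) ((1 + X) ^ d) := by
    apply IsCoprime.pow
    refine ⟨-1, 1, ?_⟩
    ring
  have hdvdG : X ^ (m + 1) ∣ G := hcop.dvd_of_dvd_mul_left hdvd
  have hdeg : G.natDegree < (X ^ (m + 1) : F[X]).natDegree := by
    rw [natDegree_X_pow, hG]
    refine lt_of_le_of_lt (natDegree_sum_le_of_forall_le _ _ (n := m) fun r _ => ?_) (by omega)
    by_cases hx : x r = 0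
    · rw [hx, map_zero, zero_mul, natDegree_zero]
      omega
    · refine (natDegree_C_mul_le _ _).trans ?_
      refine natDegree_pow_le.trans ?_
      have h1 : (1 + X : F[X]).natDegree ≤ 1 := by
        rw [add_comm]
        exact (natDegree_X_add_C (1 : F)).le
      have h2 := (hsupp r hx).2
      calc (e r - d) * (1 + X : F[X]).natDegree ≤ (e r - d) * 1 := Nat.mul_le_mul_left _ h1
        _ ≤ m := by omega
  have hG0 : G = 0 := eq_zero_of_dvd_of_natDegree_lt hdvdG hdeg
  by_contra hne
  push Not at hne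
  obtain ⟨r1, hr1⟩ := hne
  let s := Finset.univ.filter (fun r => x r ≠ 0)
  have hs : s.Nonempty := ⟨r1, Finset.mem_filter.mpr ⟨Finset.mem_univ _, hr1⟩⟩
  obtain ⟨r0, hr0, hmax⟩ := Finset.exists_max_image s e hs
  have hx0 : x r0 ≠ 0 := (Finset.mem_filter.mp hr0).2
  have hc := hGcoeff (e r0 - d)
  rw [hG0, coeff_zero] at hc
  rw [Finset.sum_eq_single r0] at hc
  · rw [Nat.choose_self, Nat.cast_one, mul_one] at hc
    exact hx0 hc.symm
  · intro r _ hr
    by_cases hx : x r = 0
    · rw [hx, zero_mul]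
    · have h1 := hmax r (Finset.mem_filter.mpr ⟨Finset.mem_univ _, hx⟩)
      have h2 : e r ≠ e r0 := fun h => hr (he h)
      have h3 := (hsupp r hx).1
      have h4 := (hsupp r0 hx0).1
      rw [Nat.choose_eq_zero_of_lt (by omega), Nat.cast_zero, mul_zero]
  · intro h
    exact absurd (Finset.mem_univ _) h

end Groth.Agent.Lib.Helper18.Hasse
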