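import Mathlib.LinearAlgebra.Vandermonde
import Mathlib.RingTheory.Polynomial.Pochhammer

/-! # Determinants of matrices of binomial coefficients -/

set_option autoImplicit false

namespace Groth.Agent.Lib.Helper18.Hasse

open Matrix Polynomial Finset

theorem det_descPochhammer_eq {m : ℕ} (v : Fin m → ℕ) :
    (Matrix.of fun i j : Fin m => (descPochhammer ℤ j).eval (v i : ℤ)).det =
    (∏ i : Fin m, (Nat.factorial i : ℤ)) *
      (Matrix.of fun i j : Fin m => ((Nat.choose (v i) j : ℕ) : ℤ)).det := by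
  rw [← Matrix.det_mul_row (fun (i : Fin m) => ((Nat.factorial (i : ℕ)) : ℤ))]
  congr 1
  ext i j
  rw [Matrix.of_apply, Matrix.of_apply, Matrix.of_apply, descPochhammer_eval_eq_descFactorial ℤ _ _,
    Nat.descFactorial_eq_factorial_mul_choose]
  push_cast
  ring

/-- `(∏ j!) det (e_i choose j) = ∏_{i<j} (e_j - e_i)` over the integers. -/
theorem factorial_mul_det_choose {m : ℕ} (e : Fin m → ℕ) :
    (∏ i : Fin m, (Nat.factorial i : ℤ)) *
      (Matrix.of fun i j : Fin m => ((Nat.choose (e i) j : ℕ) : ℤ)).det =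
    ∏ i : Fin m, ∏ j ∈ Finset.Ioi i, ((e j : ℤ) - e i) := by
  rw [← det_descPochhammer_eq, ← Matrix.det_vandermonde]
  exact (Matrix.det_eval_matrixOfPolynomials_eq_det_vandermonde (fun i => (e i : ℤ))
    (fun i => descPochhammer ℤ i) (fun i => descPochhammer_natDegree ℤ i)
    (fun i => monic_descPochhammer ℤ i)).symm

/-- Over a field in which the positive integers up to `N` are nonzero, the matrix of binomial
coefficients `(e_i choose j)` with strictly increasing `e_i ≤ N` is nonsingular. -/
theorem det_choose_ne_zero {F : Type*} [Field F] {m N : ℕ} (e : Fin m → ℕ) (he : StrictMono e)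
    (heN : ∀ i, e i ≤ N) (hN : ∀ d : ℕ, 0 < d → d ≤ N → (d : F) ≠ 0) :
    (Matrix.of fun i j : Fin m => ((Nat.choose (e i) j : ℕ) : F)).det ≠ 0 := by
  have h1 := congrArg (Int.castRingHom F) (factorial_mul_det_choose e)
  rw [map_mul, RingHom.map_det, map_prod] at h1
  have h2 : (Int.castRingHom F).mapMatrix
      (Matrix.of fun i j : Fin m => ((Nat.choose (e i) j : ℕ) : ℤ)) =
      Matrix.of fun i j : Fin m => ((Nat.choose (e i) j : ℕ) : F) := by
    ext i j
    simp
  rw [h2] at h1
  intro hdet
  rw [hdet, mul_zero] at h1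
  have h3 : (Int.castRingHom F) (∏ i : Fin m, ∏ j ∈ Finset.Ioi i, ((e j : ℤ) - e i)) ≠ 0 := by
    rw [map_prod]
    refine Finset.prod_ne_zero_iff.mpr fun i _ => ?_
    rw [map_prod]
    refine Finset.prod_ne_zero_iff.mpr fun j hj => ?_
    have hij : i < j := Finset.mem_Ioi.mp hj
    have hlt := he hij
    have h4 : ((e j : ℤ) - e i) = ((e j - e i : ℕ) : ℤ) := by
      rw [Nat.cast_sub hlt.le]
    rw [h4]
    simp only [eq_intCast, Int.cast_natCast]
    refine hN _ (by omega) ?_
    have := heN j
    omega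
  exact h3 h1.symm

end Groth.Agent.Lib.Helper18.Hasse
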