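import Groth.Agent.Lib.Helper18.Hasse.Jumps
import Mathlib.LinearAlgebra.Matrix.Block
import Mathlib.LinearAlgebra.Finsupp.LinearCombination
import Mathlib.LinearAlgebra.Finsupp.Supported
import Mathlib.LinearAlgebra.Finsupp.Span

/-! # Triangular relations between sequences of vectors

The abstract part is adapted from `Lib/Helper20/WronskScale.lean` (helper20), copied here so that
this library does not depend on another seat's files. -/

namespace Groth.Agent.Lib.Helper18.Hasse

open FunFld

section abstract

variable {K M : Type*} [Field K] [AddCommGroup M] [Module K M]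

/-- triangular relation between two sequences of vectors -/
structure Tri (c c' : ℕ → M) (a : ℕ → K) : Prop where
  ne : ∀ j, a j ≠ 0
  rel : ∀ j, c' j - a j • c j ∈ Submodule.span K (c '' Set.Iio j)

theorem dec1 (c c' : ℕ → M) (a : ℕ → K) (j : ℕ) :
    c' j = a j • c j + (c' j - a j • c j) := by abel

theorem dec2 (c c' : ℕ → M) (a : ℕ → K) (h : Tri c c' a) (j : ℕ) :
    c j = (a j)⁻¹ • c' j - (a j)⁻¹ • (c' j - a j • c j) := by
  rw [smul_sub, smul_smul, inv_mul_cancel₀ (h.ne j), one_smul]; abel

theorem span_eq (c c' : ℕ → M) (a : ℕ → K) (h : Tri c c' a) (j : ℕ) :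
    Submodule.span K (c' '' Set.Iio j) = Submodule.span K (c '' Set.Iio j) := by
  induction j with
  | zero => simp
  | succ j ih =>
    rw [Iio_succ_eq, Set.image_insert_eq, Set.image_insert_eq, Submodule.span_insert,
      Submodule.span_insert, ih]
    apply le_antisymm
    · apply sup_le _ le_sup_right
      rw [Submodule.span_singleton_le_iff_mem, dec1 c c' a j]
      exact Submodule.add_mem _
        (Submodule.mem_sup_left (Submodule.smul_mem _ _ (Submodule.mem_span_singleton_self _)))
        (Submodule.mem_sup_right (h.rel j))
    · apply sup_le _ le_sup_right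
      rw [Submodule.span_singleton_le_iff_mem]
      have e := dec2 c c' a h j
      rw [e]
      exact Submodule.sub_mem _
        (Submodule.mem_sup_left (Submodule.smul_mem _ _ (Submodule.mem_span_singleton_self _)))
        (Submodule.mem_sup_right (Submodule.smul_mem _ _ (h.rel j)))

theorem isJump_iff (c c' : ℕ → M) (a : ℕ → K) (h : Tri c c' a) (j : ℕ) :
    IsJump K c' j ↔ IsJump K c j := by
  unfold IsJump
  rw [span_eq c c' a h j]
  have h1 := h.rel j
  constructor
  · intro h2 h3
    apply h2
    rw [dec1 c c' a j]
    exact Submodule.add_mem _ (Submodule.smul_mem _ _ h3) h1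
  · intro h2 h3
    apply h2
    have e := dec2 c c' a h j
    rw [e]
    exact Submodule.sub_mem _ (Submodule.smul_mem _ _ h3) (Submodule.smul_mem _ _ h1)

theorem isOrders_iff (c c' : ℕ → M) (a : ℕ → K) (h : Tri c c' a) {n : ℕ} (J : Fin n → ℕ) :
    IsOrders K c' J ↔ IsOrders K c J := by
  unfold IsOrders
  simp only [isJump_iff c c' a h]

theorem span_sub (c : ℕ → M) {m : ℕ} (idx : Fin m → ℕ) (hidx : StrictMono idx)
    (hc : ∀ j, j ∉ Set.range idx → c j ∈ Submodule.span K (c '' Set.Iio j)) (j : ℕ) :
    Submodule.span K (c '' Set.Iio j) =
      Submodule.span K ((fun col => c (idx col)) '' {col | idx col < j}) := by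
  induction j with
  | zero => simp
  | succ j ih =>
    rw [Iio_succ_eq, Set.image_insert_eq, Submodule.span_insert, ih]
    by_cases hj : j ∈ Set.range idx
    · obtain ⟨col₀, rfl⟩ := hj
      have : {col | idx col < idx col₀ + 1} = insert col₀ {col | idx col < idx col₀} := by
        ext x
        simp only [Set.mem_setOf_eq, Set.mem_insert_iff]
        constructor
        · intro hx
          rcases Nat.lt_succ_iff_lt_or_eq.mp hx with h | h
          · right; exact h
          · left; exact hidx.injective h
        · rintro (rfl | h) <;> omega
      rw [this, Set.image_insert_eq, Submodule.span_insert]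
    · have : {col | idx col < j + 1} = {col | idx col < j} := by
        ext x
        simp only [Set.mem_setOf_eq]
        constructor
        · intro hx
          rcases Nat.lt_succ_iff_lt_or_eq.mp hx with h | h
          · exact h
          · exact absurd ⟨x, h⟩ hj
        · intro; omega
      rw [this]
      have h2 := hc j hj
      rw [ih] at h2
      rw [sup_eq_right, Submodule.span_singleton_le_iff_mem]
      exact h2

theorem det_tri {m : ℕ} (A A' : Matrix (Fin m) (Fin m) K) (a : Fin m → K)
    (h : ∀ col, (fun i => A' i col) - a col • (fun i => A i col) ∈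
      Submodule.span K ((fun col' i => A i col') '' Set.Iio col)) :
    A'.det = (∏ col, a col) * A.det := by
  have h' : ∀ col, ∃ l ∈ Finsupp.supported K K (Set.Iio col),
      Finsupp.linearCombination K (fun col' i => A i col') l =
        (fun i => A' i col) - a col • (fun i => A i col) := by
    intro col
    exact (Finsupp.mem_span_image_iff_linearCombination K).mp (h col)
  choose u hu1 hu2 using h'
  let U : Matrix (Fin m) (Fin m) K :=
    Matrix.of fun col' col => (if col' = col then a col else 0) + u col col'
  have hU : A' = A * U := by
    ext i col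
    rw [Matrix.mul_apply]
    have h3 := congrFun (hu2 col) i
    rw [Finsupp.linearCombination_apply, Finsupp.sum_fintype _ _ (by simp)] at h3
    simp only [Finset.sum_apply, Pi.smul_apply, Pi.sub_apply, smul_eq_mul] at h3
    simp only [U, Matrix.of_apply, mul_add, Finset.sum_add_distrib, mul_ite, mul_zero,
      Finset.sum_ite_eq', Finset.mem_univ, if_true]
    have e : ∑ x, A i x * u col x = ∑ x, u col x * A i x :=
      Finset.sum_congr rfl (fun _ _ => mul_comm _ _)
    rw [e, h3]; ring
  have hT : U.BlockTriangular id := by
    intro col' col hlt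
    simp only [id] at hlt
    simp only [U, Matrix.of_apply]
    rw [if_neg (ne_of_gt hlt), zero_add]
    have h4 := hu1 col
    rw [Finsupp.mem_supported'] at h4
    exact h4 col' (by simp [hlt.le])
  rw [hU, Matrix.det_mul, Matrix.det_of_upperTriangular hT, mul_comm]
  congr 1
  apply Finset.prod_congr rfl
  intro col _
  simp only [U, Matrix.of_apply, if_true]
  have h4 := hu1 col
  rw [Finsupp.mem_supported'] at h4
  rw [h4 col (by simp), add_zero]

end abstract

end Groth.Agent.Lib.Helper18.Hasse
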