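import Mathlib.FieldTheory.Separable
import Mathlib.FieldTheory.IntermediateField.Adjoin.Basic
import Mathlib.RingTheory.PowerSeries.Basic
import Mathlib.RingTheory.PowerSeries.NoZeroDivisors
import Mathlib.Algebra.Polynomial.Identities

/-! # Uniqueness of lifts of the identity to power series over a separable extension -/

set_option autoImplicit false

namespace Groth.Agent.Lib.Helper18.Hasse

open Polynomial IntermediateField

variable {k K : Type*} [Field k] [Field K] [Algebra k K]

/-- The equalizer of two algebra homomorphisms out of a field, as an intermediate field. -/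
def eqField {R : Type*} [CommRing R] [Algebra k R] (A B : K →ₐ[k] R) : IntermediateField k K :=
  (AlgHom.equalizer A B).toIntermediateField (by
    intro y hy
    rw [AlgHom.mem_equalizer] at hy ⊢
    by_cases h0 : y = 0
    · rw [h0, inv_zero, map_zero, map_zero]
    · have h1 : A y⁻¹ * A y = 1 := by rw [← map_mul, inv_mul_cancel₀ h0, map_one]
      have h2 : B y⁻¹ * B y = 1 := by rw [← map_mul, inv_mul_cancel₀ h0, map_one]
      calc A y⁻¹ = A y⁻¹ * (B y⁻¹ * B y) := by rw [h2, mul_one]
        _ = (A y⁻¹ * A y) * B y⁻¹ := by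
          rw [← hy]
          ring
        _ = B y⁻¹ := by rw [h1, one_mul])

theorem mem_eqField {R : Type*} [CommRing R] [Algebra k R] (A B : K →ₐ[k] R) (y : K) :
    y ∈ eqField A B ↔ A y = B y := Iff.rfl

/-- Two algebra homomorphisms into power series lifting the identity and agreeing on a separating
element coincide. -/
theorem algHom_powerSeries_unique (s : K) (hsep : Algebra.IsSeparable k⟮s⟯ K)
    (A B : K →ₐ[k] PowerSeries K) (hA : ∀ y, PowerSeries.constantCoeff (A y) = y)
    (hB : ∀ y, PowerSeries.constantCoeff (B y) = y) (hs : A s = B s) : A = B := by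
  have hle : k⟮s⟯ ≤ eqField A B := adjoin_simple_le_iff.mpr ((mem_eqField A B s).mpr hs)
  refine AlgHom.ext fun y => ?_
  obtain ⟨f, hf⟩ : ∃ f : (k⟮s⟯)[X], f = minpoly k⟮s⟯ y := ⟨_, rfl⟩
  let Ares : k⟮s⟯ →+* PowerSeries K := A.toRingHom.comp (algebraMap k⟮s⟯ K)
  let Bres : k⟮s⟯ →+* PowerSeries K := B.toRingHom.comp (algebraMap k⟮s⟯ K)
  have hAB : Ares = Bres := by
    refine RingHom.ext fun c => ?_
    exact (mem_eqField A B _).mp (hle c.2)
  have hfy : aeval y f = 0 := by rw [hf, minpoly.aeval]
  have hgA : (f.map Bres).eval (A y) = 0 := by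
    rw [← hAB, eval_map]
    have := Polynomial.hom_eval₂ f (algebraMap k⟮s⟯ K) A.toRingHom y
    rw [← aeval_def, hfy, map_zero] at this
    exact this.symm
  have hgB : (f.map Bres).eval (B y) = 0 := by
    rw [eval_map]
    have := Polynomial.hom_eval₂ f (algebraMap k⟮s⟯ K) B.toRingHom y
    rw [← aeval_def, hfy, map_zero] at this
    exact this.symm
  obtain ⟨δ, hδ⟩ : ∃ δ, δ = A y - B y := ⟨_, rfl⟩
  have hAy : A y = B y + δ := by rw [hδ]; ring
  obtain ⟨c, hc⟩ := (f.map Bres).binomExpansion (B y) δ
  rw [← hAy, hgA, hgB, zero_add] at hc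
  have hfac : δ * ((f.map Bres).derivative.eval (B y) + c * δ) = 0 := by
    rw [hc]
    ring
  have hccδ : PowerSeries.constantCoeff δ = 0 := by
    rw [hδ, map_sub, hA, hB, sub_self]
  have hne : (f.map Bres).derivative.eval (B y) + c * δ ≠ 0 := by
    intro h
    have h1 := congrArg PowerSeries.constantCoeff h
    rw [map_add, map_mul, hccδ, mul_zero, add_zero, map_zero, derivative_map, eval_map] at h1
    have h2 := Polynomial.hom_eval₂ (derivative f) Bres
      (PowerSeries.constantCoeff (R := K)) (B y)
    rw [h1, hB] at h2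
    have h3 : (PowerSeries.constantCoeff (R := K)).comp Bres = algebraMap k⟮s⟯ K := by
      refine RingHom.ext fun c => ?_
      exact hB _
    rw [h3, ← aeval_def] at h2
    have hsepy : IsSeparable k⟮s⟯ y := Algebra.IsSeparable.isSeparable k⟮s⟯ y
    have hsepf : f.Separable := by
      rw [hf]
      exact hsepy
    exact hsepf.aeval_derivative_ne_zero hfy h2.symm
  rcases mul_eq_zero.mp hfac with h | h
  · rw [hAy, h, add_zero]
  · exact absurd h hne

end Groth.Agent.Lib.Helper18.Hasse
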