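import Groth.Agent.Lib.Helper18.Hasse.Basic
import Groth.Agent.Lib.Helper18.Hasse.Unique
import Groth.Agent.Lib.Helper18.Hasse.Tri
import Groth.Agent.Lib.Helper24.FFExt.Kaehler
import Groth.Agent.Lib.Helper24.FFExt.SepConst
import Mathlib.RingTheory.PowerSeries.Substitution

/-! # Change of the separating variable of a Hasse family -/

set_option autoImplicit false
set_option linter.style.haveILetI false

namespace Groth.Agent.Lib.Helper18.Hasse

open FunFld LocRes IntermediateField

universe u v

variable {k : Type u} {K : Type v} [Field k] [Field K] [Algebra k K]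

/-- The variable of a Hasse family is a separating element. -/
theorem isSeparable_of_isHasseFamily [IsAlgClosed k] (hK : IsFunctionField k K) {s : K}
    {H : K →ₐ[k] PowerSeries K} (hH : IsHasseFamily s H) : Algebra.IsSeparable k⟮s⟯ K := by
  have hg := Groth.Agent.Lib.Helper24.FFExt.isGeometric_of_perfectField hK
  have hdt : KaehlerDifferential.D k K s ≠ 0 := by
    intro h
    have h1 := (hasseDer hH).liftKaehlerDifferential_comp_D s
    rw [h, map_zero, hasseDer_self hH] at h1
    exact zero_ne_one h1
  exact (Groth.Agent.Lib.Helper24.FFExt.isSeparable_of_D_ne_zero' hK hg hdt).2.2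

section series

variable {R : Type*} [CommRing R]

theorem coeff_pow_of_lt {u : PowerSeries R} (hu : PowerSeries.constantCoeff u = 0) {j d : ℕ}
    (h : j < d) : PowerSeries.coeff j (u ^ d) = 0 := by
  have h1 : (PowerSeries.X : PowerSeries R) ∣ u := PowerSeries.X_dvd_iff.mpr hu
  have h2 : (PowerSeries.X : PowerSeries R) ^ d ∣ u ^ d := pow_dvd_pow_of_dvd h1 d
  exact PowerSeries.X_pow_dvd_iff.mp h2 j h

theorem coeff_pow_self {u : PowerSeries R} (hu : PowerSeries.constantCoeff u = 0) (j : ℕ) :
    PowerSeries.coeff j (u ^ j) = (PowerSeries.coeff 1 u) ^ j := by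
  obtain ⟨w, rfl⟩ : (PowerSeries.X : PowerSeries R) ∣ u := PowerSeries.X_dvd_iff.mpr hu
  rw [mul_pow, PowerSeries.coeff_X_pow_mul', if_pos le_rfl, Nat.sub_self,
    PowerSeries.coeff_zero_eq_constantCoeff_apply, map_pow]
  congr 1
  rw [show (1 : ℕ) = 0 + 1 from rfl, PowerSeries.coeff_succ_X_mul,
    PowerSeries.coeff_zero_eq_constantCoeff_apply]

/-- Coefficients of a substitution as a finite sum. -/
theorem coeff_subst_eq_sum {u : PowerSeries R} (hu : PowerSeries.constantCoeff u = 0)
    (f : PowerSeries R) (j : ℕ) :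
    PowerSeries.coeff j (f.subst u) =
      ∑ d ∈ Finset.range (j + 1), PowerSeries.coeff d f * PowerSeries.coeff j (u ^ d) := by
  have hs : PowerSeries.HasSubst u := PowerSeries.HasSubst.of_constantCoeff_zero' hu
  rw [PowerSeries.coeff_subst' hs]
  rw [finsum_eq_sum_of_support_subset]
  · rfl
  · intro d hd
    rw [Function.mem_support] at hd
    rw [Finset.coe_range, Set.mem_Iio]
    by_contra hlt
    apply hd
    rw [coeff_pow_of_lt hu (by omega), smul_zero]

end series

theorem wrMat_eq_hcol {n : ℕ} (τ : K →ₐ[k] K) (H : K →ₐ[k] PowerSeries K)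
    (φ : Fin (n + 1) → K) (J : Fin n → ℕ) (i col : Fin (n + 1)) :
    wrMat τ H φ J i col = hcol τ H φ (idx J col) i := by
  induction col using Fin.cases with
  | zero => rfl
  | succ l => rfl

section main

variable [IsAlgClosed k] (hK : IsFunctionField k K) {s t : K}
  {Hs Ht : K →ₐ[k] PowerSeries K} (hHs : IsHasseFamily s Hs) (hHt : IsHasseFamily t Ht)

include hK hHs hHt

/-- The chain rule: the total Hasse derivative in `t` is obtained from that in `s` by substituting
`T ↦ H_t(s) - s`. -/
theorem Ht_eq_subst (y : K) :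
    Ht y = (Hs y).subst (Ht s - PowerSeries.C s) := by
  have hu : PowerSeries.constantCoeff (Ht s - PowerSeries.C s) = 0 := by
    rw [map_sub, hHt.2 s, PowerSeries.constantCoeff_C, sub_self]
  have hs : PowerSeries.HasSubst (Ht s - PowerSeries.C s) :=
    PowerSeries.HasSubst.of_constantCoeff_zero' hu
  let A : K →ₐ[k] PowerSeries K :=
    ((PowerSeries.substAlgHom (R := K) hs).restrictScalars k).comp Hs
  have hA : ∀ z, A z = (Hs z).subst (Ht s - PowerSeries.C s) := by
    intro z
    change (PowerSeries.substAlgHom (R := K) hs) (Hs z) = _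
    rw [PowerSeries.coe_substAlgHom]
  have hAcc : ∀ z, PowerSeries.constantCoeff (A z) = z := by
    intro z
    rw [hA, ← PowerSeries.coeff_zero_eq_constantCoeff_apply, coeff_subst_eq_sum hu]
    simp [hHs.2 z]
  have hAs : A s = Ht s := by
    rw [hA, hHs.1, PowerSeries.subst_add hs, PowerSeries.subst_X hs]
    have : (PowerSeries.C s : PowerSeries K).subst (Ht s - PowerSeries.C s) =
        PowerSeries.C s := PowerSeries.subst_C s
    rw [this]
    ring
  have hsep := isSeparable_of_isHasseFamily hK hHs
  have := algHom_powerSeries_unique s hsep A Ht hAcc hHt.2 hAs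
  rw [← hA, this]

/-- Hasse derivatives in `t` in terms of those in `s`. -/
theorem hasseD_change (y : K) (j : ℕ) :
    hasseD Ht j y = ∑ d ∈ Finset.range (j + 1),
      hasseD Hs d y * PowerSeries.coeff j ((Ht s - PowerSeries.C s) ^ d) := by
  have hu : PowerSeries.constantCoeff (Ht s - PowerSeries.C s) = 0 := by
    rw [map_sub, hHt.2 s, PowerSeries.constantCoeff_C, sub_self]
  rw [hasseD_apply, Ht_eq_subst hK hHs hHt y, coeff_subst_eq_sum hu]
  rfl

theorem coeff_one_u : PowerSeries.coeff 1 (Ht s - PowerSeries.C s) = hasseD Ht 1 s := by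
  rw [map_sub, PowerSeries.coeff_C, if_neg one_ne_zero, sub_zero]
  rfl

/-- `ds/dt ≠ 0`. -/
theorem hasseD_one_ne_zero : hasseD Ht 1 s ≠ 0 := by
  intro h
  have hu : PowerSeries.constantCoeff (Ht s - PowerSeries.C s) = 0 := by
    rw [map_sub, hHt.2 s, PowerSeries.constantCoeff_C, sub_self]
  have h1 := hasseD_change hK hHs hHt t 1
  rw [hasseD_self hHt, if_neg one_ne_zero, if_pos rfl, Finset.sum_range_succ,
    Finset.sum_range_one, pow_zero, pow_one, coeff_one_u hK hHs hHt, h, mul_zero,
    PowerSeries.coeff_one, if_neg one_ne_zero, mul_zero, add_zero] at h1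
  exact one_ne_zero h1

/-- The triangular relation between the column sequences in the two variables. -/
theorem hcol_tri_change {ι : Type*} (τ : K →ₐ[k] K) (φ : ι → K) :
    Tri (hcol τ Hs φ) (hcol τ Ht φ) (fun j => if j = 0 then 1 else hasseD Ht 1 s ^ (j - 1)) := by
  have hu : PowerSeries.constantCoeff (Ht s - PowerSeries.C s) = 0 := by
    rw [map_sub, hHt.2 s, PowerSeries.constantCoeff_C, sub_self]
  constructor
  · intro j
    show (if j = 0 then (1 : K) else hasseD Ht 1 s ^ (j - 1)) ≠ 0
    split_ifs
    · exact one_ne_zero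
    · exact pow_ne_zero _ (hasseD_one_ne_zero hK hHs hHt)
  · intro j
    cases j with
    | zero =>
      have e : hcol τ Ht φ 0 - (1 : K) • hcol τ Hs φ 0 = 0 := by
        ext i
        simp [hcol]
      simp only [if_true]
      rw [e]
      exact Submodule.zero_mem _
    | succ j =>
      have e : hcol τ Ht φ (j + 1) - (hasseD Ht 1 s ^ j) • hcol τ Hs φ (j + 1) =
          ∑ d ∈ Finset.range j,
            PowerSeries.coeff j ((Ht s - PowerSeries.C s) ^ d) • hcol τ Hs φ (d + 1) := by
        ext i
        simp only [hcol, Pi.sub_apply, Pi.smul_apply, smul_eq_mul, Finset.sum_apply]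
        rw [hasseD_change hK hHs hHt (φ i) j, Finset.sum_range_succ, coeff_pow_self hu,
          coeff_one_u hK hHs hHt, mul_comm (hasseD Hs j (φ i)), add_sub_cancel_right]
        exact Finset.sum_congr rfl fun _ _ => mul_comm _ _
      simp only [Nat.succ_ne_zero, if_false, Nat.add_sub_cancel]
      rw [e]
      apply Submodule.sum_mem
      intro b hb
      apply Submodule.smul_mem
      apply Submodule.subset_span
      refine ⟨b + 1, ?_, rfl⟩
      simp only [Set.mem_Iio]
      have := Finset.mem_range.mp hb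
      omega

/-- Change of the separating variable: orders are unchanged and the Wronskian is multiplied by
`(ds/dt) ^ (sum of the orders)`. -/
theorem change_main {n : ℕ} (φ : Fin (n + 1) → K) (τ : K →ₐ[k] K) :
    (∀ J : Fin n → ℕ, IsOrders K (hcol τ Ht φ) J ↔ IsOrders K (hcol τ Hs φ) J) ∧
    ∀ J : Fin n → ℕ, IsOrders K (hcol τ Hs φ) J →
      (wrMat τ Ht φ J).det = hasseD Ht 1 s ^ (∑ l, J l) * (wrMat τ Hs φ J).det := by
  have hT := hcol_tri_change hK hHs hHt τ φ
  refine ⟨fun J => isOrders_iff _ _ _ hT J, ?_⟩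
  intro J hJ
  have hidx := idx_strictMono J hJ.1
  have hc : ∀ j, j ∉ Set.range (idx J) →
      hcol τ Hs φ j ∈ Submodule.span K (hcol τ Hs φ '' Set.Iio j) := by
    intro j hj
    cases j with
    | zero => exact absurd ⟨0, rfl⟩ hj
    | succ j =>
      by_contra hcon
      have h1 : IsJump K (hcol τ Hs φ) (j + 1) := hcon
      obtain ⟨l, hl⟩ := (hJ.2 j).mpr h1
      apply hj
      exact ⟨Fin.succ l, by simp [idx, hl]⟩
  have key := det_tri (wrMat τ Hs φ J) (wrMat τ Ht φ J)
    (fun col => if idx J col = 0 then 1 else hasseD Ht 1 s ^ (idx J col - 1)) ?_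
  · rw [key]
    congr 1
    rw [Fin.prod_univ_succ]
    simp only [idx_zero, if_true, one_mul, idx_succ, Nat.succ_ne_zero, if_false,
      Nat.add_sub_cancel]
    exact Finset.prod_pow_eq_pow_sum _ _ _
  · intro col
    have h1 := hT.rel (idx J col)
    rw [span_sub (hcol τ Hs φ) (idx J) hidx hc (idx J col)] at h1
    have e1 : {col' | idx J col' < idx J col} = Set.Iio col := by
      ext x
      simp only [Set.mem_setOf_eq, Set.mem_Iio]
      exact hidx.lt_iff_lt
    rw [e1] at h1
    have e2 : (fun col' i => wrMat τ Hs φ J i col') = fun col' => hcol τ Hs φ (idx J col') := by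
      funext col' i
      exact wrMat_eq_hcol τ Hs φ J i col'
    have e3 : ((fun i => wrMat τ Ht φ J i col) -
        (if idx J col = 0 then 1 else hasseD Ht 1 s ^ (idx J col - 1)) •
          fun i => wrMat τ Hs φ J i col) =
        hcol τ Ht φ (idx J col) -
          (if idx J col = 0 then 1 else hasseD Ht 1 s ^ (idx J col - 1)) •
            hcol τ Hs φ (idx J col) := by
      funext i
      simp only [Pi.sub_apply, Pi.smul_apply, wrMat_eq_hcol]
    rw [e2, e3]
    exact h1

end main

end Groth.Agent.Lib.Helper18.Hasse
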