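import Groth.Agent.Lib.Helper18.Hasse.ChangeVar

/-! # Scaling a projective map by a nonzero function

Adapted from `Lib/Helper20/WronskScale.lean` (helper20), copied so that this library does not
depend on another seat's files. -/

namespace Groth.Agent.Lib.Helper18.Hasse

open FunFld

variable {k K : Type*} [Field k] [Field K] [Algebra k K]

theorem hcol_tri_scale {ι : Type*} (τ : K →ₐ[k] K) (H : K →ₐ[k] PowerSeries K) (φ : ι → K) (y : K)
    (hy : y ≠ 0) (hH : ∀ z : K, PowerSeries.constantCoeff (H z) = z) :
    Tri (hcol τ H φ) (hcol τ H (y • φ)) (fun j => if j = 0 then τ y else y) := by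
  constructor
  · intro j
    show (if j = 0 then τ y else y) ≠ 0
    split_ifs
    · exact (map_ne_zero τ).mpr hy
    · exact hy
  · intro j
    cases j with
    | zero =>
      have e : hcol τ H (y • φ) 0 - (τ y) • hcol τ H φ 0 = 0 := by
        ext i; simp [hcol]
      simp only [if_true]
      rw [e]; exact Submodule.zero_mem _
    | succ j =>
      have e : hcol τ H (y • φ) (j+1) - y • hcol τ H φ (j+1) =
          ∑ b ∈ Finset.range j, LocRes.hasseD H (j - b) y • hcol τ H φ (b+1) := by
        ext i
        simp only [hcol, Pi.sub_apply, Pi.smul_apply, smul_eq_mul, Finset.sum_apply,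
          LocRes.hasseD_apply, map_mul]
        rw [mul_comm (H y) (H (φ i)), PowerSeries.coeff_mul,
          Finset.Nat.sum_antidiagonal_eq_sum_range_succ
            (fun a b => PowerSeries.coeff a (H (φ i)) * PowerSeries.coeff b (H y)),
          Finset.sum_range_succ, Nat.sub_self, PowerSeries.coeff_zero_eq_constantCoeff_apply, hH y]
        rw [mul_comm (PowerSeries.coeff j (H (φ i))) y, add_sub_cancel_right]
        exact Finset.sum_congr rfl (fun _ _ => mul_comm _ _)
      simp only [Nat.succ_ne_zero, if_false]
      rw [e]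
      apply Submodule.sum_mem
      intro b hb
      apply Submodule.smul_mem
      apply Submodule.subset_span
      refine ⟨b + 1, ?_, rfl⟩
      simp only [Set.mem_Iio]
      have := Finset.mem_range.mp hb
      omega

theorem scale_main {n : ℕ} (φ : Fin (n + 1) → K)
    (τ : K →ₐ[k] K) (H : K →ₐ[k] PowerSeries K)
    (hH : ∀ z : K, PowerSeries.constantCoeff (H z) = z) (y : K) (hy : y ≠ 0) :
    (∀ J : Fin n → ℕ, IsOrders K (hcol τ H (y • φ)) J ↔ IsOrders K (hcol τ H φ) J) ∧
    ∀ J : Fin n → ℕ, IsOrders K (hcol τ H φ) J →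
      (wrMat τ H (y • φ) J).det = τ y * y ^ n * (wrMat τ H φ J).det := by
  have hT := hcol_tri_scale τ H φ y hy hH
  refine ⟨fun J => isOrders_iff _ _ _ hT J, ?_⟩
  intro J hJ
  have hidx := idx_strictMono J hJ.1
  have hc : ∀ j, j ∉ Set.range (idx J) →
      hcol τ H φ j ∈ Submodule.span K (hcol τ H φ '' Set.Iio j) := by
    intro j hj
    cases j with
    | zero => exact absurd ⟨0, rfl⟩ hj
    | succ j =>
      by_contra hcon
      have h1 : IsJump K (hcol τ H φ) (j + 1) := hcon
      obtain ⟨l, hl⟩ := (hJ.2 j).mpr h1
      apply hj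
      exact ⟨Fin.succ l, by simp [idx, hl]⟩
  have key := det_tri (wrMat τ H φ J) (wrMat τ H (y • φ) J)
    (fun col => if idx J col = 0 then τ y else y) ?_
  · rw [key]
    congr 1
    rw [Fin.prod_univ_succ]
    simp [idx]
  · intro col
    have h1 := hT.rel (idx J col)
    rw [span_sub (hcol τ H φ) (idx J) hidx hc (idx J col)] at h1
    have e1 : {col' | idx J col' < idx J col} = Set.Iio col := by
      ext x
      simp only [Set.mem_setOf_eq, Set.mem_Iio]
      exact hidx.lt_iff_lt
    rw [e1] at h1
    have e2 : (fun col' i => wrMat τ H φ J i col') = fun col' => hcol τ H φ (idx J col') := by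
      funext col' i
      exact wrMat_eq_hcol τ H φ J i col'
    have e3 : ((fun i => wrMat τ H (y • φ) J i col) -
        (if idx J col = 0 then τ y else y) • fun i => wrMat τ H φ J i col) =
        hcol τ H (y • φ) (idx J col) - (if idx J col = 0 then τ y else y) • hcol τ H φ (idx J col) := by
      funext i
      simp only [Pi.sub_apply, Pi.smul_apply, wrMat_eq_hcol]
    rw [e2, e3]
    exact h1


end Groth.Agent.Lib.Helper18.Hasse
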