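import Groth.Agent.Lib.Helper18.Hasse.WrLocal
import Groth.Agent.Lib.Helper18.Hasse.Binom

/-! # Orders at a strong fixed point -/

set_option autoImplicit false
set_option linter.style.haveILetI false

namespace Groth.Agent.Lib.Helper18.Hasse

open FunFld WithZero LocRes Groth.Agent.Lib.Helper18.FF

universe u v

variable {k : Type u} {K : Type v} [Field k] [Field K] [Algebra k K]

/-- The exponent sequence `0, J 0, J 1, …` of an adapted basis. -/
def expo {n : ℕ} (J : Fin n → ℕ) : Fin (n + 1) → ℕ := Fin.cases 0 J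

@[simp] theorem expo_zero {n : ℕ} (J : Fin n → ℕ) : expo J 0 = 0 := rfl

@[simp] theorem expo_succ {n : ℕ} (J : Fin n → ℕ) (l : Fin n) : expo J l.succ = J l := rfl

theorem expo_strictMono {n : ℕ} (J : Fin n → ℕ) (hJ : StrictMono J) (hpos : ∀ l, 0 < J l) :
    StrictMono (expo J) := by
  intro a b hab
  induction a using Fin.cases with
  | zero =>
    induction b using Fin.cases with
    | zero => exact absurd hab (lt_irrefl _)
    | succ b => exact hpos b
  | succ a =>
    induction b using Fin.cases with
    | zero => exact absurd hab (by simp)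
    | succ b => exact hJ (Fin.succ_lt_succ_iff.mp hab)

section main

variable [IsAlgClosed k] (hK : IsFunctionField k K) (P : Place k K) {t : K}
  (ht : P.1 t = exp (-1 : ℤ)) {H : K →ₐ[k] PowerSeries K} (hH : IsHasseFamily t H)

include hK ht in
theorem adapted_decomp {n : ℕ} (φ' : Fin (n + 1) → K) (J : Fin n → ℕ) (h0 : φ' 0 = 1)
    (hl : ∀ l : Fin n, 0 < J l ∧ P.1 (φ' l.succ) = exp (-(J l : ℤ)) ∧
      evalP P (φ' l.succ / t ^ J l) = 1) (r : Fin (n + 1)) :
    ∃ u : K, φ' r = t ^ expo J r * u ∧ P.1 u = 1 ∧ evalP P u = 1 := by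
  have ht0 := t_ne_zero hK P ht
  induction r using Fin.cases with
  | zero =>
    refine ⟨1, ?_, map_one _, evalP_one P⟩
    rw [expo_zero, pow_zero, h0, mul_one]
  | succ l =>
    refine ⟨φ' l.succ / t ^ J l, ?_, ?_, (hl l).2.2⟩
    · rw [expo_succ]
      field_simp
    · rw [map_div₀, map_pow, ht, ← exp_nsmul, (hl l).2.1]
      simp only [nsmul_eq_mul, mul_neg, mul_one]
      exact div_self exp_ne_zero

include hK ht hH in
/-- At a strong fixed point, the leading column and the first `m + 1` columns of Hasse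
derivatives span at least `l + 2` dimensions, when `l + 1` orders at `P` lie in a window of
length `m`. -/
theorem finrank_span_ge_of_strong (τ : K →ₐ[k] K) (hP : IsStrongFixedPt τ P) {n : ℕ}
    (φ φ' : Fin (n + 1) → K) (hmem : ∀ r, φ' r ∈ Submodule.span k (Set.range φ))
    (J' : Fin n → ℕ) (hJ'mono : StrictMono J') (h0 : φ' 0 = 1)
    (hl : ∀ l : Fin n, 0 < J' l ∧ P.1 (φ' l.succ) = exp (-(J' l : ℤ)) ∧
      evalP P (φ' l.succ / t ^ J' l) = 1)
    (l : Fin n) (d m : ℕ) (hd : ∀ s, d ≤ J' s) (hm : J' l ≤ d + m) :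
    l.val + 2 ≤ Module.finrank K (Submodule.span K (hcol τ H φ '' Set.Iio (m + 2))) := by
  classical
  have ht0 := t_ne_zero hK P ht
  have hex : ∀ r, ∃ a : Fin (n + 1) → k, ∑ j, a j • φ j = φ' r := fun r =>
    (Submodule.mem_span_range_iff_exists_fun k).mp (hmem r)
  choose A hA using hex
  obtain ⟨q, hq⟩ : ∃ q : ℕ, q = l.val + 2 := ⟨_, rfl⟩
  have hqn : q ≤ n + 1 := by
    have := l.2
    omega
  let ι : Fin q → Fin (n + 1) := fun r => ⟨r.val, lt_of_lt_of_le r.2 hqn⟩
  have hιinj : Function.Injective ι := by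
    intro a b hab
    exact Fin.ext (Fin.mk.inj hab)
  let M' : Matrix (Fin q) (Fin (n + 1)) K := Matrix.of fun r i => algebraMap k K (A (ι r) i)
  let g := M'.mulVecLin
  have hg0 : ∀ r, g (hcol τ H φ 0) r = τ (φ' (ι r)) := by
    intro r
    rw [← hA (ι r), tau_comb]
    rfl
  have hgj : ∀ j r, g (hcol τ H φ (j + 1)) r = hasseD H j (φ' (ι r)) := by
    intro j r
    rw [← hA (ι r), hasseD_comb]
    rfl
  obtain ⟨W, hW⟩ : ∃ W, W = Submodule.span K (hcol τ H φ '' Set.Iio (m + 2)) := ⟨_, rfl⟩
  rw [← hW]
  have hmap : Submodule.map g W = ⊤ := by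
    by_contra hne
    obtain ⟨f, hf0, hfker⟩ := Submodule.exists_le_ker_of_lt_top _ (lt_top_iff_ne_top.mpr hne)
    obtain ⟨y, hy⟩ : ∃ y : Fin q → K, y = fun r => f (Pi.single r 1) := ⟨_, rfl⟩
    have hfy : ∀ v : Fin q → K, f v = ∑ r, v r * y r := by
      intro v
      conv_lhs => rw [← Finset.univ_sum_single v]
      rw [map_sum]
      refine Finset.sum_congr rfl fun i _ => ?_
      have : (Pi.single i (v i) : Fin q → K) = v i • Pi.single i 1 := by
        rw [← Pi.single_smul, smul_eq_mul, mul_one]
      rw [this, map_smul, smul_eq_mul, hy]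
    have hyne : ∃ r1, y r1 ≠ 0 := by
      by_contra hall
      push Not at hall
      apply hf0
      refine LinearMap.ext fun v => ?_
      rw [hfy]
      simp [hall]
    obtain ⟨r1, hr1⟩ := hyne
    have hτrel : ∑ r, τ (φ' (ι r)) * y r = 0 := by
      have h1 : f (g (hcol τ H φ 0)) = 0 := hfker (Submodule.mem_map_of_mem (by
        rw [hW]
        exact Submodule.subset_span ⟨0, by simp, rfl⟩))
      rw [hfy] at h1
      rw [← h1]
      exact Finset.sum_congr rfl fun r _ => by rw [hg0]
    have hDrel : ∀ i ≤ m, ∑ r, hasseD H i (φ' (ι r)) * y r = 0 := by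
      intro i hi
      have h1 : f (g (hcol τ H φ (i + 1))) = 0 := hfker (Submodule.mem_map_of_mem (by
        rw [hW]
        exact Submodule.subset_span ⟨i + 1, by simp only [Set.mem_Iio]; omega, rfl⟩))
      rw [hfy] at h1
      rw [← h1]
      exact Finset.sum_congr rfl fun r _ => by rw [hgj]
    have hdec := fun r => adapted_decomp hK P ht φ' J' h0 hl (ι r)
    choose u hu1 hu2 hu3 using hdec
    let e' : Fin q → ℕ := fun r => expo J' (ι r)
    let z : Fin q → K := fun r => y r * t ^ e' r
    obtain ⟨r0, -, hmax⟩ := Finset.exists_max_image Finset.univ (fun r => P.1 (z r))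
      ⟨r1, Finset.mem_univ _⟩
    have hz0 : z r0 ≠ 0 := by
      have h1 : z r1 ≠ 0 := mul_ne_zero hr1 (pow_ne_zero _ ht0)
      have h2 := hmax r1 (Finset.mem_univ _)
      intro h
      rw [h, map_zero] at h2
      exact h1 ((Valuation.zero_iff _).mp (le_antisymm h2 zero_le'))
    let w : Fin q → K := fun r => z r / z r0
    have hw : ∀ r, P.1 (w r) ≤ 1 := by
      intro r
      simp only [w]
      rw [map_div₀]
      exact div_le_one_of_le₀ (hmax r (Finset.mem_univ _)) zero_le'
    have hw0 : w r0 = 1 := div_self hz0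
    let T : Fin q → K := fun r => τ (φ' (ι r)) * t ^ (-(e' r : ℤ))
    have hT : ∀ r, P.1 (T r) ≤ 1 ∧
        evalP P (T r) = if ι r = 0 then 1 else 0 := by
      intro r
      by_cases hr : ι r = 0
      · have h1 : T r = 1 := by
          simp only [T, e', hr, h0, expo_zero, map_one, Nat.cast_zero, neg_zero, zpow_zero,
            mul_one]
        rw [h1, map_one, evalP_one, if_pos hr]
        exact ⟨le_rfl, rfl⟩
      · obtain ⟨s, hs⟩ := Fin.exists_succ_eq_of_ne_zero hr
        have he's : e' r = J' s := by
          simp only [e', ← hs, expo_succ]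
        have hpos : 0 < e' r := he's ▸ (hl s).1
        have h1 : P.1 (φ' (ι r)) ≤ exp (-(e' r : ℤ)) := by
          rw [hu1 r, map_mul, map_pow, ht, ← exp_nsmul, hu2 r, mul_one]
          simp [e']
        have h2 := val_tau_le_exp_two hK P ht hP h1
        have hlt : P.1 (T r) < 1 := by
          simp only [T]
          rw [map_mul, val_zpow P ht, neg_neg]
          calc P.1 (τ (φ' (ι r))) * exp (e' r : ℤ)
              ≤ exp (-(2 * (e' r : ℤ))) * exp (e' r : ℤ) := mul_le_mul' h2 le_rfl
            _ < 1 := by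
              rw [← exp_add, ← exp_zero, exp_lt_exp]
              have : (0 : ℤ) < e' r := by exact_mod_cast hpos
              linarith
        rw [if_neg hr]
        exact ⟨hlt.le, (evalP_eq_zero_iff P hlt.le).mpr hlt⟩
    let N : ℕ → Fin q → K := fun i r => hasseD H i (φ' (ι r)) * t ^ ((i : ℤ) - e' r)
    have hN : ∀ i r, P.1 (N i r) ≤ 1 ∧ evalP P (N i r) =
        (((e' r).choose i : ℕ) : IsLocalRing.ResidueField P.O) := by
      intro i r
      have := hasseD_scaled hK P ht hH (hu2 r).le i (e' r)
      rw [hu3 r, mul_one] at this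
      simp only [N]
      rw [hu1 r]
      exact this
    have hwT : ∑ r, w r * T r = 0 := by
      have : ∀ r, w r * T r = (τ (φ' (ι r)) * y r) / z r0 := by
        intro r
        simp only [w, z, T]
        rw [zpow_neg, zpow_natCast]
        field_simp
      simp only [this]
      rw [← Finset.sum_div, hτrel, zero_div]
    have hwN : ∀ i ≤ m, ∑ r, w r * N i r = 0 := by
      intro i hi
      have : ∀ r, w r * N i r = (hasseD H i (φ' (ι r)) * y r) * (t ^ i / z r0) := by
        intro r
        simp only [w, z, N]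
        rw [zpow_sub₀ ht0, zpow_natCast, zpow_natCast]
        field_simp
      simp only [this]
      rw [← Finset.sum_mul, hDrel i hi, zero_mul]
    let x : Fin q → IsLocalRing.ResidueField P.O := fun r => evalP P (w r)
    have hxT : ∑ r, x r * evalP P (T r) = 0 := by
      have h1 : ∀ r, P.1 (w r * T r) ≤ 1 := fun r => by
        rw [map_mul]
        exact mul_le_one' (hw r) (hT r).1
      have h2 := evalP_sum P Finset.univ (fun r => w r * T r) h1
      rw [hwT, evalP_zero] at h2
      rw [h2]
      exact Finset.sum_congr rfl fun r _ => (evalP_mul P (hw r) (hT r).1).symm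
    have hxN : ∀ i ≤ m, ∑ r, x r * (((e' r).choose i : ℕ) : IsLocalRing.ResidueField P.O) = 0 := by
      intro i hi
      have h1 : ∀ r, P.1 (w r * N i r) ≤ 1 := fun r => by
        rw [map_mul]
        exact mul_le_one' (hw r) (hN i r).1
      have h2 := evalP_sum P Finset.univ (fun r => w r * N i r) h1
      rw [hwN i hi, evalP_zero] at h2
      rw [h2]
      refine Finset.sum_congr rfl fun r _ => ?_
      rw [evalP_mul P (hw r) (hN i r).1, (hN i r).2]
    have hx0 : ∀ r, ι r = 0 → x r = 0 := by
      intro r hr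
      have h1 := hxT
      rw [Finset.sum_eq_single r] at h1
      · rw [(hT r).2, if_pos hr, mul_one] at h1
        exact h1
      · intro r' _ hr'
        have : ι r' ≠ 0 := fun h => hr' (hιinj (h.trans hr.symm))
        rw [(hT r').2, if_neg this, mul_zero]
      · intro h
        exact absurd (Finset.mem_univ _) h
    have hposJ : ∀ s, 0 < J' s := fun s => (hl s).1
    have he'inj : Function.Injective e' :=
      (expo_strictMono J' hJ'mono hposJ).injective.comp hιinj
    have hsupp : ∀ r, x r ≠ 0 → d ≤ e' r ∧ e' r ≤ d + m := by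
      intro r hxr
      have hιr : ι r ≠ 0 := fun h => hxr (hx0 r h)
      obtain ⟨s, hs⟩ := Fin.exists_succ_eq_of_ne_zero hιr
      have he's : e' r = J' s := by
        simp only [e', ← hs, expo_succ]
      have hsl : s ≤ l := by
        have h1 : (ι r).val = s.val + 1 := by rw [← hs, Fin.val_succ]
        have h2 : (ι r).val = r.val := rfl
        have h3 := r.2
        rw [Fin.le_def]
        omega
      rw [he's]
      exact ⟨hd s, (hJ'mono.monotone hsl).trans hm⟩
    have hx := binom_rows_independent e' he'inj x d m hsupp hxN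
    have h1 : x r0 = 1 := by
      simp only [x]
      rw [hw0, evalP_one]
    rw [hx r0] at h1
    exact zero_ne_one h1
  have h1 := Submodule.finrank_map_le g W
  rw [hmap, finrank_top, Module.finrank_fin_fun] at h1
  rw [← hq]
  exact h1

end main

end Groth.Agent.Lib.Helper18.Hasse
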