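import Groth.Agent.Lib.Helper18.Hasse.Normalize
import Groth.Agent.Lib.Helper18.Hasse.LocalHasse
import Groth.Agent.Lib.Helper18.Hasse.Scale
import Groth.Agent.Lib.Helper18.Hasse.BinomDet
import Groth.Agent.Lib.Helper18.Hasse.StrongFixed

/-! # Classical order sequences in large characteristic -/

set_option autoImplicit false
set_option linter.style.haveILetI false

namespace Groth.Agent.Lib.Helper18.Hasse

open FunFld WithZero LocRes Groth.Agent.Lib.Helper18.FF

universe u v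

variable {k : Type u} {K : Type v} [Field k] [Field K] [Algebra k K]

theorem strictMono_fin_add_le {n : ℕ} (J : Fin n → ℕ) (hJ : StrictMono J) (c : ℕ)
    (hc : ∀ l, c ≤ J l) : ∀ l : Fin n, c + l.val ≤ J l := by
  intro l
  obtain ⟨v, hv⟩ := l
  induction v with
  | zero => exact hc _
  | succ v ih =>
    have h1 := ih (by omega)
    have h2 : J ⟨v, by omega⟩ < J ⟨v + 1, hv⟩ := hJ (by
      rw [Fin.lt_def]
      exact Nat.lt_succ_self v)
    simp only at h1 ⊢
    omega

/-- Existence of the `τ`-order sequence. -/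
theorem exists_isOrders_hcol [IsAlgClosed k] (hK : IsFunctionField k K) {n : ℕ}
    (φ : Fin (n + 1) → K) (hφ : LinearIndependent k φ) (τ : K →ₐ[k] K) {s : K}
    {H : K →ₐ[k] PowerSeries K} (hH : IsHasseFamily s H) :
    ∃ J : Fin n → ℕ, IsOrders K (hcol τ H φ) J := by
  have hrank : Module.finrank K (Fin (n + 1) → K) = n + 1 := Module.finrank_fin_fun K
  have hspan : Submodule.span K (Set.range (hcol τ H φ)) = ⊤ := by
    rw [eq_top_iff, ← span_hasseD_eq_top hK φ hφ hH]
    apply Submodule.span_mono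
    rintro _ ⟨j, rfl⟩
    exact ⟨j + 1, rfl⟩
  obtain ⟨J, hJ, -⟩ := exists_isOrders_of_span_eq_top hrank _ (hcol_zero_ne_zero τ H φ hφ) hspan
  exact ⟨J, hJ⟩

section main

variable [IsAlgClosed k] (hK : IsFunctionField k K)

include hK

/-- Bounding the `τ`-orders through the local computation at a fixed point. -/
theorem orders_le_of_local (τ : K →ₐ[k] K) (P : Place k K) (hP : IsFixedPt τ P)
    {s : K} {H : K →ₐ[k] PowerSeries K} (hH : IsHasseFamily s H) {n : ℕ}
    (φ : Fin (n + 1) → K) (hφ : LinearIndependent k φ) (I : Fin n → ℕ) (hI : StrictMono I)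
    (hcase : (∀ l, 0 < I l) ∨ IsStrongFixedPt τ P)
    (hbin : ∀ J' : Fin n → ℕ, StrictMono J' → (∀ l, 0 < J' l) →
      (∀ l, (J' l : ℤ) ≤ (mapDiv k φ).deg) → (binomMat k J' I).det ≠ 0)
    (J : Fin n → ℕ) (hJ : IsOrders K (hcol τ H φ) J) : ∀ l, J l ≤ I l := by
  obtain ⟨t, Ht, ht, hHt⟩ := exists_local_hasse hK hH P
  obtain ⟨y, hy0, hψli, hψeff, hψnorm⟩ := exists_normalize P φ hφ
  obtain ⟨J', hJ'⟩ := exists_isOrders_hcolAt hK P ht hHt (y • φ) hψli hψeff hψnorm
  have hJ'pos : ∀ l, 0 < J' l := fun l =>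
    ((isJump_hcolAt_succ_iff hK P ht hHt (y • φ) hψnorm _).mp ((hJ'.2 _).mp ⟨l, rfl⟩)).1
  have hJ'le : ∀ l, (J' l : ℤ) ≤ (mapDiv k φ).deg := by
    intro l
    obtain ⟨-, f, hfV, hfval⟩ :=
      (isJump_hcolAt_succ_iff hK P ht hHt (y • φ) hψnorm _).mp ((hJ'.2 _).mp ⟨l, rfl⟩)
    have hf0 : f ≠ 0 := by
      rintro rfl
      rw [map_zero] at hfval
      exact exp_ne_zero hfval.symm
    have h1 := ord_le_deg_mapDiv hK P (y • φ) hψeff hψnorm hfV hf0
    rw [deg_mapDiv_smul hK hy0 φ (fun i => hφ.ne_zero i)] at h1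
    have h2 : P.ord f = J' l := by
      rw [ord_eq_of_val_eq_exp P hfval, neg_neg]
    rw [← h2]
    exact h1
  have hW := wr_local hK P ht hHt τ hP (y • φ) hψli hψeff hψnorm J' hJ' I
  have hdet : (wrMat τ Ht (y • φ) I).det ≠ 0 := by
    intro h
    have h1 := (hW.2 hcase).mpr (hbin J' hJ'.1 hJ'pos hJ'le)
    rw [h, map_zero] at h1
    exact exp_ne_zero h1.symm
  have hJ1 : IsOrders K (hcol τ Ht φ) J := ((change_main hK hH hHt φ τ).1 J).mpr hJ
  have hJ2 : IsOrders K (hcol τ Ht (y • φ)) J :=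
    ((scale_main φ τ Ht hHt.2 y hy0).1 J).mpr hJ1
  exact orders_le_of_linearIndependent _ J hJ2 I hI
    (linearIndependent_of_det_wrMat_ne_zero τ Ht (y • φ) I hdet)

end main

end Groth.Agent.Lib.Helper18.Hasse
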