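import Groth.Agent.Lib.Helper18.Hasse.Normalize
import Mathlib.Algebra.Module.Submodule.Union
import Mathlib.FieldTheory.Relrank

/-! # The degree of the pull-back of a projective map along an endomorphism -/

set_option autoImplicit false
set_option linter.style.haveILetI false

namespace Groth.Agent.Lib.Helper18.Hasse

open FunFld WithZero Groth.Agent.Lib.Helper18.FF

universe u v

variable {k : Type u} {K : Type v} [Field k] [Field K] [Algebra k K]

section Generic

variable {ι : Type*} [Fintype ι] [Nonempty ι]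

/-- The linear combination with coefficients `c`. -/
def comb (ψ : ι → K) (c : ι → k) : K := ∑ i, c i • ψ i

theorem comb_add (ψ : ι → K) (c d : ι → k) : comb ψ (c + d) = comb ψ c + comb ψ d := by
  unfold comb
  rw [← Finset.sum_add_distrib]
  exact Finset.sum_congr rfl fun i _ => by rw [Pi.add_apply, add_smul]

theorem comb_smul (ψ : ι → K) (a : k) (c : ι → k) : comb ψ (a • c) = a • comb ψ c := by
  unfold comb
  rw [Finset.smul_sum]
  exact Finset.sum_congr rfl fun i _ => by rw [Pi.smul_apply, smul_eq_mul, mul_smul]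

theorem comb_zero (ψ : ι → K) : comb ψ (0 : ι → k) = 0 := by
  unfold comb
  exact Finset.sum_eq_zero fun i _ => by rw [Pi.zero_apply, zero_smul]

theorem comb_single [DecidableEq ι] (ψ : ι → K) (i : ι) :
    comb ψ (Pi.single i (1 : k)) = ψ i := by
  unfold comb
  rw [Finset.sum_eq_single i]
  · rw [Pi.single_eq_same, one_smul]
  · intro j _ hj
    rw [Pi.single_eq_of_ne hj, zero_smul]
  · intro h; exact absurd (Finset.mem_univ i) h

theorem comb_mem_L (hK : IsFunctionField k K) (ψ : ι → K) (c : ι → k) :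
    comb ψ c ∈ L (mapDiv k ψ) :=
  Submodule.sum_mem _ fun i _ => Submodule.smul_mem _ _ (mem_L_mapDiv hK ψ i)

/-- Coefficient vectors whose combination has larger order at `P` than forced. -/
def badSub (ψ : ι → K) (P : Place k K) : Submodule k (ι → k) where
  carrier := {c | P.1 (comb ψ c) ≤ exp (mapDiv k ψ P - 1)}
  add_mem' {c d} hc hd := by
    show P.1 (comb ψ (c + d)) ≤ _
    rw [comb_add]
    exact (P.1.map_add _ _).trans (max_le hc hd)
  zero_mem' := by
    show P.1 (comb ψ 0) ≤ _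
    rw [comb_zero, map_zero]
    exact zero_le'
  smul_mem' a c hc := by
    show P.1 (comb ψ (a • c)) ≤ _
    rw [comb_smul]
    exact (val_smul_le P a _).trans hc

theorem badSub_ne_top (hK : IsFunctionField k K) (ψ : ι → K) (hψ : ∀ i, ψ i ≠ 0)
    (P : Place k K) : badSub ψ P ≠ ⊤ := by
  classical
  obtain ⟨i, hi⟩ := exists_mapDiv_eq hK ψ P
  intro htop
  have : (Pi.single i (1 : k) : ι → k) ∈ badSub ψ P := by rw [htop]; trivial
  have h1 : P.1 (ψ i) ≤ exp (mapDiv k ψ P - 1) := by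
    have h2 : P.1 (comb ψ (Pi.single i (1 : k))) ≤ exp (mapDiv k ψ P - 1) := this
    rwa [comb_single] at h2
  rw [val_eq_exp_neg_ord P (hψ i), exp_le_exp, hi] at h1
  omega

theorem ord_comb_of_not_mem (hK : IsFunctionField k K) (ψ : ι → K) (P : Place k K)
    {c : ι → k} (hc : c ∉ badSub ψ P) :
    comb ψ c ≠ 0 ∧ P.ord (comb ψ c) = -mapDiv k ψ P := by
  have h1 : ¬ P.1 (comb ψ c) ≤ exp (mapDiv k ψ P - 1) := hc
  have h0 : comb ψ c ≠ 0 := by
    intro h
    apply h1
    rw [h, map_zero]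
    exact zero_le'
  refine ⟨h0, ?_⟩
  have h2 := comb_mem_L hK ψ c P
  rw [val_eq_exp_neg_ord P h0, exp_le_exp] at h1 h2
  omega

theorem exists_generic [Infinite k] (hK : IsFunctionField k K) (ψ ψ' : ι → K)
    (hψ : ∀ i, ψ i ≠ 0) (hψ' : ∀ i, ψ' i ≠ 0) (S : Finset (Place k K)) :
    ∃ c : ι → k, ∀ P ∈ S, P.ord (comb ψ c) = -mapDiv k ψ P ∧
      P.ord (comb ψ' c) = -mapDiv k ψ' P := by
  let p : ({P // P ∈ S} ⊕ {P // P ∈ S}) → Submodule k (ι → k) :=
    Sum.elim (fun P => badSub ψ P.1) (fun P => badSub ψ' P.1)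
  have hp : ∀ j, p j ≠ ⊤ := by
    rintro (P | P)
    · exact badSub_ne_top hK ψ hψ P.1
    · exact badSub_ne_top hK ψ' hψ' P.1
  obtain ⟨c, hc⟩ := Submodule.exists_forall_notMem_of_forall_ne_top p hp
  refine ⟨c, fun P hP => ⟨?_, ?_⟩⟩
  · exact (ord_comb_of_not_mem hK ψ P (hc (Sum.inl ⟨P, hP⟩))).2
  · exact (ord_comb_of_not_mem hK ψ' P (hc (Sum.inr ⟨P, hP⟩))).2

/-- For a tuple containing `1`, a combination generic on the support of the divisor of the tuple
has that divisor as its pole divisor. -/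
theorem poleDiv_comb_eq (hK : IsFunctionField k K) (ψ : ι → K) (i₀ : ι) (h1 : ψ i₀ = 1)
    (c : ι → k) (hc : ∀ P ∈ (mapDiv k ψ).support, P.ord (comb ψ c) = -mapDiv k ψ P) :
    poleDiv (k := k) (comb ψ c) = mapDiv k ψ := by
  ext P
  rw [poleDiv_apply hK]
  have hnn : 0 ≤ mapDiv k ψ P := by
    have := neg_mapDiv_le hK ψ P i₀
    rw [h1, ← map_one (algebraMap k K), ord_algebraMap] at this
    omega
  by_cases hP : P ∈ (mapDiv k ψ).support
  · rw [hc P hP, neg_neg, Int.toNat_of_nonneg hnn]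
  · have h0 : mapDiv k ψ P = 0 := by simpa using hP
    rw [h0]
    rcases eq_or_ne (comb ψ c) 0 with h | h
    · rw [h, ord_zero]; rfl
    · have := comb_mem_L hK ψ c P
      rw [h0, val_le_exp_iff P h] at this
      have h2 : (-P.ord (comb ψ c)).toNat = 0 := by omega
      rw [h2]; rfl

end Generic

/-- **Degree of the pull-back**: `deg [τ φ] = [K : τ K] · deg [φ]`. -/
theorem deg_mapDiv_comp [IsAlgClosed k] (hK : IsFunctionField k K) (τ : K →ₐ[k] K) {n : ℕ}
    (φ : Fin (n + 1) → K) (hφ : LinearIndependent k φ) :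
    (mapDiv k (τ ∘ φ)).deg = (Module.finrank τ.fieldRange K : ℤ) * (mapDiv k φ).deg := by
  classical
  have hτinj : Function.Injective τ := τ.toRingHom.injective
  have hφ0 : ∀ i, φ i ≠ 0 := fun i => hφ.ne_zero i
  have hτφ0 : ∀ i, (τ ∘ φ) i ≠ 0 := fun i => by
    rw [Function.comp_apply]
    exact (map_ne_zero_iff τ hτinj).mpr (hφ0 i)
  set y : K := (φ 0)⁻¹ with hy
  have hy0 : y ≠ 0 := inv_ne_zero (hφ0 0)
  have hτy0 : τ y ≠ 0 := (map_ne_zero_iff τ hτinj).mpr hy0
  set ψ : Fin (n + 1) → K := y • φ with hψ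
  set ψ' : Fin (n + 1) → K := τ y • (τ ∘ φ) with hψ'
  have hψ'eq : ∀ i, ψ' i = τ (ψ i) := fun i => by
    simp only [hψ, hψ', Pi.smul_apply, Function.comp_apply, smul_eq_mul, map_mul]
  have hψ0 : ∀ i, ψ i ≠ 0 := fun i => by
    rw [hψ, Pi.smul_apply, smul_eq_mul]; exact mul_ne_zero hy0 (hφ0 i)
  have hψ'0 : ∀ i, ψ' i ≠ 0 := fun i => by
    rw [hψ'eq]; exact (map_ne_zero_iff τ hτinj).mpr (hψ0 i)
  have h1 : ψ 0 = 1 := by
    rw [hψ, Pi.smul_apply, smul_eq_mul, hy, inv_mul_cancel₀ (hφ0 0)]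
  have h1' : ψ' 0 = 1 := by rw [hψ'eq, h1, map_one]
  rw [← deg_mapDiv_smul hK hy0 φ hφ0, ← deg_mapDiv_smul hK hτy0 (τ ∘ φ) hτφ0, ← hψ, ← hψ']
  haveI : Infinite k := IsAlgClosed.instInfinite
  obtain ⟨c, hc⟩ := exists_generic hK ψ ψ' hψ0 hψ'0
    ((mapDiv k ψ).support ∪ (mapDiv k ψ').support)
  have e1 := poleDiv_comb_eq hK ψ 0 h1 c
    (fun P hP => (hc P (Finset.mem_union_left _ hP)).1)
  have e2 := poleDiv_comb_eq hK ψ' 0 h1' c
    (fun P hP => (hc P (Finset.mem_union_right _ hP)).2)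
  set x := comb ψ c with hx
  have hτx : comb ψ' c = τ x := by
    rw [hx]
    unfold comb
    rw [map_sum]
    exact Finset.sum_congr rfl fun i _ => by rw [map_smul, hψ'eq]
  rw [hτx] at e2
  rw [← e1, ← e2]
  by_cases halg : IsAlgebraic k x
  · obtain ⟨a, ha⟩ := hK.2 x halg
    have hp : ∀ z : K, z ∈ Set.range (algebraMap k K) → (poleDiv (k := k) z).deg = 0 := by
      rintro _ ⟨b, rfl⟩
      have : poleDiv (k := k) (algebraMap k K b) = 0 := by
        ext P
        rw [poleDiv_apply hK, ord_algebraMap]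
        rfl
      rw [this, deg_zero]
    rw [hp x ⟨a, ha⟩, hp (τ x) ⟨a, by rw [← ha, AlgHom.commutes]⟩, mul_zero]
  · have htr : Transcendental k x := halg
    have htr' : Transcendental k (τ x) := fun h => halg ((isAlgebraic_algHom_iff τ hτinj).mp h)
    rw [deg_poleDiv_eq hK htr, deg_poleDiv_eq hK htr']
    have hmap : (IntermediateField.adjoin k ({x} : Set K)).map τ =
        IntermediateField.adjoin k ({τ x} : Set K) := by
      rw [IntermediateField.adjoin_map, Set.image_singleton]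
    have hle : IntermediateField.adjoin k ({τ x} : Set K) ≤ τ.fieldRange := by
      rw [IntermediateField.adjoin_le_iff]
      rintro _ rfl
      exact ⟨x, rfl⟩
    have h2 := IntermediateField.relfinrank_mul_finrank_top hle
    have h3 : IntermediateField.relfinrank (IntermediateField.adjoin k ({τ x} : Set K)) τ.fieldRange =
        Module.finrank (IntermediateField.adjoin k ({x} : Set K)) K := by
      rw [← hmap, AlgHom.fieldRange_eq_map, IntermediateField.relfinrank_map_map,
        IntermediateField.relfinrank_top_right]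
    rw [← h2, h3]
    push_cast
    ring

end Groth.Agent.Lib.Helper18.Hasse
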