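import Mathlib.FieldTheory.Separable
import Mathlib.FieldTheory.IntermediateField.Adjoin.Basic
import Mathlib.Algebra.Polynomial.Derivative
import Mathlib.Algebra.Polynomial.AlgebraMap

/-! # A derivation along a ring homomorphism vanishing on a separating element vanishes -/

set_option autoImplicit false

namespace Groth.Agent.Lib.Helper18.Hasse

open Polynomial IntermediateField

variable {k K L : Type*} [Field k] [Field K] [Algebra k K] [Field L]

/-- `δ` is a derivation along the ring homomorphism `Φ`. -/
structure IsDer (Φ : K →+* L) (δ : K → L) : Prop where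
  add : ∀ a b, δ (a + b) = δ a + δ b
  mul : ∀ a b, δ (a * b) = Φ a * δ b + Φ b * δ a

namespace IsDer

variable {Φ : K →+* L} {δ : K → L} (h : IsDer Φ δ)

include h

theorem map_one : δ 1 = 0 := by
  have h1 := h.mul 1 1
  rw [mul_one, _root_.map_one, one_mul] at h1
  exact left_eq_add.mp h1

theorem map_zero : δ 0 = 0 := by
  have h1 := h.add 0 0
  rw [add_zero] at h1
  exact left_eq_add.mp h1

theorem map_pow (y : K) (n : ℕ) : δ (y ^ n) = (n : L) * Φ y ^ (n - 1) * δ y := by
  induction n with
  | zero => rw [pow_zero, h.map_one, Nat.cast_zero, zero_mul, zero_mul]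
  | succ n ih =>
    rw [pow_succ, h.mul, ih, _root_.map_pow]
    rcases Nat.eq_zero_or_pos n with rfl | hn
    · simp
    · have : Φ y ^ n = Φ y ^ (n - 1) * Φ y := by
        rw [← pow_succ, Nat.sub_add_cancel hn]
      rw [Nat.add_sub_cancel, Nat.cast_succ, this]
      ring

theorem map_sum {ι : Type*} (s : Finset ι) (f : ι → K) : δ (∑ i ∈ s, f i) = ∑ i ∈ s, δ (f i) := by
  classical
  induction s using Finset.induction_on with
  | empty => simp [h.map_zero]
  | insert a s ha ih => rw [Finset.sum_insert ha, Finset.sum_insert ha, h.add, ih]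

/-- The vanishing locus of a derivation along `Φ` that kills the constants. -/
def kerField (hk : ∀ c : k, δ (algebraMap k K c) = 0) : IntermediateField k K :=
  Subalgebra.toIntermediateField
    { carrier := {y | δ y = 0}
      mul_mem' := fun {a b} ha hb => by
        simp only [Set.mem_setOf_eq] at ha hb ⊢
        rw [h.mul, ha, hb, mul_zero, mul_zero, add_zero]
      add_mem' := fun {a b} ha hb => by
        simp only [Set.mem_setOf_eq] at ha hb ⊢
        rw [h.add, ha, hb, add_zero]
      algebraMap_mem' := hk } (by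
    intro y hy
    change δ y = 0 at hy
    change δ y⁻¹ = 0
    by_cases h0 : y = 0
    · rw [h0, inv_zero, h.map_zero]
    · have h1 := h.mul y y⁻¹
      rw [mul_inv_cancel₀ h0, h.map_one, hy, mul_zero, add_zero] at h1
      have h2 : Φ y ≠ 0 := (map_ne_zero Φ).mpr h0
      exact (mul_eq_zero.mp h1.symm).resolve_left h2)

theorem mem_kerField (hk : ∀ c : k, δ (algebraMap k K c) = 0) (y : K) :
    y ∈ h.kerField hk ↔ δ y = 0 := Iff.rfl

/-- A derivation along `Φ` killing the constants and a separating element is zero. -/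
theorem eq_zero_of_separable (hk : ∀ c : k, δ (algebraMap k K c) = 0) (s : K)
    (hsep : Algebra.IsSeparable k⟮s⟯ K) (hs : δ s = 0) (y : K) : δ y = 0 := by
  have hle : k⟮s⟯ ≤ h.kerField hk := adjoin_simple_le_iff.mpr ((h.mem_kerField hk s).mpr hs)
  have hcoef : ∀ c : k⟮s⟯, δ (algebraMap k⟮s⟯ K c) = 0 := fun c =>
    (h.mem_kerField hk _).mp (hle c.2)
  have key : ∀ p : (k⟮s⟯)[X], δ (aeval y p) = Φ (aeval y (derivative p)) * δ y := by
    intro p
    induction p using Polynomial.induction_on' with
    | add p q hp hq => rw [map_add, h.add, hp, hq, map_add, map_add, _root_.map_add, add_mul]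
    | monomial n c =>
      rw [aeval_monomial, h.mul, hcoef, mul_zero, add_zero, h.map_pow, derivative_monomial,
        aeval_monomial, _root_.map_mul, _root_.map_mul, _root_.map_pow, _root_.map_mul,
        _root_.map_natCast]
      simp only [IntermediateField.algebraMap_apply, map_natCast]
      ring
  have hsepy : IsSeparable k⟮s⟯ y := Algebra.IsSeparable.isSeparable k⟮s⟯ y
  have hfy : aeval y (minpoly k⟮s⟯ y) = 0 := minpoly.aeval _ _
  have h1 := key (minpoly k⟮s⟯ y)
  rw [hfy, h.map_zero] at h1
  have h2 : aeval y (derivative (minpoly k⟮s⟯ y)) ≠ 0 :=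
    Polynomial.Separable.aeval_derivative_ne_zero hsepy hfy
  have h3 : Φ (aeval y (derivative (minpoly k⟮s⟯ y))) ≠ 0 := (map_ne_zero Φ).mpr h2
  exact (mul_eq_zero.mp h1.symm).resolve_left h3

end IsDer

end Groth.Agent.Lib.Helper18.Hasse
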