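import Groth.Agent.Lib.Helper18.Hasse.Lead
import Groth.Agent.Lib.Helper18.FF.Approx

/-! # Entries of Wronskian matrices of an adapted basis, scaled by powers of a local parameter -/

set_option autoImplicit false
set_option linter.style.haveILetI false

namespace Groth.Agent.Lib.Helper18.Hasse

open FunFld WithZero LocRes Groth.Agent.Lib.Helper18.FF

universe u v

variable {k : Type u} {K : Type v} [Field k] [Field K] [Algebra k K]

theorem evalP_natCast (P : Place k K) (n : ℕ) :
    evalP P ((n : ℕ) : K) = ((n : ℕ) : IsLocalRing.ResidueField P.O) := by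
  induction n with
  | zero => rw [Nat.cast_zero, Nat.cast_zero, evalP_zero]
  | succ n ih =>
    rw [Nat.cast_succ, Nat.cast_succ, evalP_add P (val_natCast_le_one P n) (by rw [map_one]), ih,
      evalP_one]

theorem isFixedPt_of_isStrongFixedPt {τ : K →ₐ[k] K} {P : Place k K}
    (hP : IsStrongFixedPt τ P) : IsFixedPt τ P := by
  intro z hz
  refine lt_of_le_of_lt (hP z hz) ?_
  rw [← exp_zero, exp_lt_exp]
  norm_num

section main

variable [IsAlgClosed k] (hK : IsFunctionField k K) (P : Place k K)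

include hK in
/-- An endomorphism fixing the place `P` maps its valuation ring into itself and induces the
identity on the residue field. -/
theorem val_tau_sub_lt_one {τ : K →ₐ[k] K} (hP : IsFixedPt τ P) {z : K} (hz : P.1 z ≤ 1) :
    P.1 (τ z) ≤ 1 ∧ P.1 (τ z - z) < 1 := by
  have hdeg := deg_eq_one_of_isAlgClosed hK P
  obtain ⟨c, hc⟩ := exists_const_sub_lt_one hK hdeg hz
  have h1 : P.1 (τ (z - algebraMap k K c)) < 1 := hP _ hc
  have h2 : τ z - z = τ (z - algebraMap k K c) - (z - algebraMap k K c) := by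
    rw [map_sub, AlgHom.commutes]
    ring
  have h3 : P.1 (τ z - z) < 1 := by
    rw [h2]
    exact lt_of_le_of_lt (Valuation.map_sub _ _ _) (max_lt h1 hc)
  refine ⟨?_, h3⟩
  have : τ z = (τ z - z) + z := by ring
  rw [this]
  exact (Valuation.map_add _ _ _).trans (max_le h3.le hz)

variable {t : K} (ht : P.1 t = exp (-1 : ℤ))

include hK ht in
/-- A fixed point: `τ` does not lower orders. -/
theorem val_tau_le_exp {τ : K →ₐ[k] K} (hP : IsFixedPt τ P) {z : K} {j : ℕ}
    (hz : P.1 z ≤ exp (-(j : ℤ))) : P.1 (τ z) ≤ exp (-(j : ℤ)) := by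
  have ht0 := t_ne_zero hK P ht
  obtain ⟨w, hw⟩ : ∃ w : K, w = z / t ^ j := ⟨_, rfl⟩
  have hwle : P.1 w ≤ 1 := by
    rw [hw, map_div₀, map_pow, ht, ← exp_nsmul, div_le_iff₀ (zero_lt_iff.mpr exp_ne_zero), one_mul]
    simpa using hz
  have hzw : z = t ^ j * w := by
    rw [hw]
    field_simp
  have h1 : P.1 (τ t) ≤ exp (-1 : ℤ) := by
    rw [← zm0_lt_one_iff]
    refine hP t ?_
    rw [ht, ← exp_zero, exp_lt_exp]
    norm_num
  rw [hzw, map_mul, map_pow, map_mul, map_pow]
  calc P.1 (τ t) ^ j * P.1 (τ w) ≤ exp (-1 : ℤ) ^ j * 1 :=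
        mul_le_mul' (pow_le_pow_left₀ zero_le' h1 j) (val_tau_sub_lt_one hK P hP hwle).1
    _ = exp (-(j : ℤ)) := by
      rw [mul_one, ← exp_nsmul]
      simp

include hK ht in
/-- A strong fixed point: `τ` doubles orders. -/
theorem val_tau_le_exp_two {τ : K →ₐ[k] K} (hP : IsStrongFixedPt τ P) {z : K} {j : ℕ}
    (hz : P.1 z ≤ exp (-(j : ℤ))) : P.1 (τ z) ≤ exp (-(2 * j : ℤ)) := by
  have ht0 := t_ne_zero hK P ht
  obtain ⟨w, hw⟩ : ∃ w : K, w = z / t ^ j := ⟨_, rfl⟩
  have hwle : P.1 w ≤ 1 := by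
    rw [hw, map_div₀, map_pow, ht, ← exp_nsmul, div_le_iff₀ (zero_lt_iff.mpr exp_ne_zero), one_mul]
    simpa using hz
  have hzw : z = t ^ j * w := by
    rw [hw]
    field_simp
  have h1 : P.1 (τ t) ≤ exp (-2 : ℤ) := by
    refine hP t ?_
    rw [ht, ← exp_zero, exp_lt_exp]
    norm_num
  rw [hzw, map_mul, map_pow, map_mul, map_pow]
  calc P.1 (τ t) ^ j * P.1 (τ w) ≤ exp (-2 : ℤ) ^ j * 1 :=
        mul_le_mul' (pow_le_pow_left₀ zero_le' h1 j)
          (val_tau_sub_lt_one hK P (isFixedPt_of_isStrongFixedPt hP) hwle).1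
    _ = exp (-(2 * j : ℤ)) := by
      rw [mul_one, ← exp_nsmul]
      congr 1
      simp only [nsmul_eq_mul]
      ring

variable {H : K →ₐ[k] PowerSeries K} (hH : IsHasseFamily t H)

include hK ht hH in
/-- The scaled entries `D^i (t^j v) t^(i - j)` are regular with value `(j choose i) v(P)`. -/
theorem hasseD_scaled {v : K} (hv : P.1 v ≤ 1) (i j : ℕ) :
    P.1 (hasseD H i (t ^ j * v) * t ^ ((i : ℤ) - j)) ≤ 1 ∧
    evalP P (hasseD H i (t ^ j * v) * t ^ ((i : ℤ) - j)) =
      ((j.choose i : ℕ) : IsLocalRing.ResidueField P.O) * evalP P v := by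
  have ht0 := t_ne_zero hK P ht
  rcases le_or_gt i j with hij | hij
  · have h1 := hasseD_pow_mul_sub hK P ht hH hv hij
    obtain ⟨E, hE⟩ : ∃ E : K, E = hasseD H i (t ^ j * v) - (j.choose i : K) * t ^ (j - i) * v :=
      ⟨_, rfl⟩
    rw [← hE] at h1
    have hpow : t ^ (j - i) * t ^ ((i : ℤ) - j) = 1 := by
      rw [← zpow_natCast, ← zpow_add₀ ht0, Nat.cast_sub hij]
      have : (j : ℤ) - i + (i - j) = 0 := by ring
      rw [this, zpow_zero]
    have hdec : hasseD H i (t ^ j * v) * t ^ ((i : ℤ) - j) =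
        (j.choose i : K) * v + E * t ^ ((i : ℤ) - j) := by
      have : hasseD H i (t ^ j * v) = (j.choose i : K) * t ^ (j - i) * v + E := by
        rw [hE]
        ring
      rw [this, add_mul]
      congr 1
      calc (j.choose i : K) * t ^ (j - i) * v * t ^ ((i : ℤ) - j)
          = (j.choose i : K) * v * (t ^ (j - i) * t ^ ((i : ℤ) - j)) := by ring
        _ = _ := by rw [hpow, mul_one]
    have hEt : P.1 (E * t ^ ((i : ℤ) - j)) < 1 := by
      rw [map_mul, val_zpow P ht]
      calc P.1 E * exp (-((i : ℤ) - j)) ≤ exp (-((j - i : ℕ) : ℤ) - 1) * exp (-((i : ℤ) - j)) :=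
            mul_le_mul' h1 le_rfl
        _ < 1 := by
          rw [← exp_add, ← exp_zero, exp_lt_exp, Nat.cast_sub hij]
          linarith
    have hCv : P.1 ((j.choose i : K) * v) ≤ 1 := by
      rw [map_mul]
      exact mul_le_one' (val_natCast_le_one P _) hv
    have hle : P.1 (hasseD H i (t ^ j * v) * t ^ ((i : ℤ) - j)) ≤ 1 := by
      rw [hdec]
      exact (Valuation.map_add _ _ _).trans (max_le hCv hEt.le)
    refine ⟨hle, ?_⟩
    have hsub : P.1 (hasseD H i (t ^ j * v) * t ^ ((i : ℤ) - j) - (j.choose i : K) * v) < 1 := by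
      rw [hdec, add_sub_cancel_left]
      exact hEt
    rw [evalP_congr P hle hsub, evalP_mul P (val_natCast_le_one P _) hv, evalP_natCast]
  · have hX : P.1 (hasseD H i (t ^ j * v)) ≤ 1 := by
      refine hasseD_val_le_one hK P ht hH ?_ i
      rw [map_mul, map_pow]
      exact mul_le_one' (pow_le_one₀ zero_le' (val_t_le_one hK P ht hH)) hv
    have hlt : P.1 (hasseD H i (t ^ j * v) * t ^ ((i : ℤ) - j)) < 1 := by
      rw [map_mul, val_zpow P ht]
      calc P.1 (hasseD H i (t ^ j * v)) * exp (-((i : ℤ) - j)) ≤ 1 * exp (-((i : ℤ) - j)) :=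
            mul_le_mul' hX le_rfl
        _ < 1 := by
          rw [one_mul, ← exp_zero, exp_lt_exp]
          have : (j : ℤ) < i := by exact_mod_cast hij
          linarith
    refine ⟨hlt.le, ?_⟩
    rw [(evalP_eq_zero_iff P hlt.le).mpr hlt, Nat.choose_eq_zero_of_lt hij, Nat.cast_zero, zero_mul]

end main

end Groth.Agent.Lib.Helper18.Hasse
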