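import Groth.Agent.Lib.Helper18.Hasse.Jumps

/-! # Exchange of the leading column in a jump sequence (helper18) -/

set_option autoImplicit false

namespace Groth.Agent.Lib.Helper18.Hasse

open FunFld

section Exchange

variable {R : Type*} {M : Type*} [DivisionRing R] [AddCommGroup M] [Module R M]

theorem span_image_Iio_succ (c : ℕ → M) (N : ℕ) :
    Submodule.span R (c '' Set.Iio (N + 1)) =
      Submodule.span R {c N} ⊔ Submodule.span R (c '' Set.Iio N) := by
  rw [Iio_succ_eq, Set.image_insert_eq, Submodule.span_insert]

theorem span_image_Iio_mono (c : ℕ → M) {a b : ℕ} (h : a ≤ b) :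
    Submodule.span R (c '' Set.Iio a) ≤ Submodule.span R (c '' Set.Iio b) :=
  Submodule.span_mono (Set.image_mono (Set.Iio_subset_Iio h))

/-- **Exchange lemma.** Replacing the leading column of a full-rank column sequence whose first
two columns agree by a vector independent of it removes exactly one order and adds the order `0`. -/
theorem exchange_orders [Module.Finite R M] {n : ℕ} (hfin : Module.finrank R M = n + 1)
    (c d : ℕ → M) (hc01 : c 0 = c 1) (hd : ∀ j, d (j + 1) = c (j + 1))
    (hv : d 0 ∉ Submodule.span R {c 0}) (hw : c 0 ∉ Submodule.span R {d 0})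
    (J : Fin n → ℕ) (hJ : IsOrders R c J) :
    ∃ m : Fin n, ∀ j : ℕ, IsJump R d (j + 1) ↔ (j = 0 ∨ ∃ l, l ≠ m ∧ J l = j) := by
  classical
  have h0 : c 0 ≠ 0 := by
    intro h
    apply hw
    rw [h]
    exact Submodule.zero_mem _
  have hv0 : d 0 ≠ 0 := by
    intro h
    apply hv
    rw [h]
    exact Submodule.zero_mem _
  have hli := linearIndependent_of_isOrders c J hJ h0
  have htop : Submodule.span R (Set.range fun col : Fin (n + 1) => c (idx J col)) = ⊤ :=
    hli.span_eq_top_of_card_eq_finrank' (by rw [Fintype.card_fin, hfin])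
  -- the leading vector of `d` lies in some finite span
  have hex : ∃ N, d 0 ∈ Submodule.span R (c '' Set.Iio N) := by
    obtain ⟨N, hN⟩ : ∃ N, ∀ col, idx J col < N := by
      refine ⟨(Finset.univ.sup (idx J)) + 1, fun col => ?_⟩
      exact Nat.lt_succ_of_le (Finset.le_sup (f := idx J) (Finset.mem_univ col))
    refine ⟨N, ?_⟩
    have hle : Submodule.span R (Set.range fun col : Fin (n + 1) => c (idx J col)) ≤
        Submodule.span R (c '' Set.Iio N) := by
      apply Submodule.span_mono
      rintro _ ⟨col, rfl⟩
      exact ⟨idx J col, hN col, rfl⟩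
    rw [htop] at hle
    exact hle Submodule.mem_top
  have hW1 : Submodule.span R (c '' Set.Iio 1) = Submodule.span R {c 0} := by
    rw [span_image_Iio_succ]
    have : c '' Set.Iio 0 = ∅ := by
      ext x
      simp
    rw [this, Submodule.span_empty, sup_bot_eq]
  have hW2 : Submodule.span R (c '' Set.Iio 2) = Submodule.span R {c 0} := by
    rw [span_image_Iio_succ, hW1, ← hc01, sup_idem]
  have hfind := Nat.find_spec hex
  have hmin : ∀ N, N < Nat.find hex → d 0 ∉ Submodule.span R (c '' Set.Iio N) :=
    fun N hN => Nat.find_min hex hN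
  obtain ⟨q, hq⟩ : ∃ q, Nat.find hex = q + 3 := by
    refine ⟨Nat.find hex - 3, ?_⟩
    have h3 : 3 ≤ Nat.find hex := by
      by_contra hlt
      push Not at hlt
      have hle : Submodule.span R (c '' Set.Iio (Nat.find hex)) ≤
          Submodule.span R (c '' Set.Iio 2) := span_image_Iio_mono c (by omega)
      rw [hW2] at hle
      exact hv (hle hfind)
    omega
  rw [hq] at hfind hmin
  -- `q + 1` is an order of `c`
  have hnot : d 0 ∉ Submodule.span R (c '' Set.Iio (q + 2)) := hmin _ (by omega)
  have hjump : IsJump R c (q + 2) := by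
    intro hmem
    apply hnot
    rw [span_image_Iio_succ, sup_eq_right.mpr
      ((Submodule.span_singleton_le_iff_mem _ _).mpr hmem)] at hfind
    exact hfind
  obtain ⟨m, hm⟩ := (hJ.2 (q + 1)).mpr hjump
  refine ⟨m, fun j => ?_⟩
  -- spans of the `d`-columns
  have hD : ∀ j, Submodule.span R (d '' Set.Iio (j + 2)) =
      Submodule.span R {d 0} ⊔ Submodule.span R (c '' Set.Iio (j + 2)) := by
    intro j
    induction j with
    | zero =>
      have hD1 : Submodule.span R (d '' Set.Iio 1) = Submodule.span R {d 0} := by
        rw [span_image_Iio_succ]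
        have : d '' Set.Iio 0 = ∅ := by
          ext x
          simp
        rw [this, Submodule.span_empty, sup_bot_eq]
      rw [span_image_Iio_succ, hD1, hd 0, span_image_Iio_succ c 1, hW1, ← hc01, sup_idem, sup_comm]
    | succ j ih =>
      rw [span_image_Iio_succ, ih, hd (j + 1), span_image_Iio_succ c (j + 2)]
      rw [← sup_assoc, ← sup_assoc, sup_comm (Submodule.span R {c (j + 1 + 1)})]
  have hrange : ∀ j, IsJump R c (j + 1) → ∃ l, J l = j := fun j hj => (hJ.2 j).mpr hj
  rcases Nat.eq_zero_or_pos j with rfl | hjpos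
  · -- the order `0`
    constructor
    · intro _
      exact Or.inl rfl
    · intro _
      unfold IsJump
      have hD1 : Submodule.span R (d '' Set.Iio (0 + 1)) = Submodule.span R {d 0} := by
        rw [span_image_Iio_succ]
        have : d '' Set.Iio 0 = ∅ := by
          ext x
          simp
        rw [this, Submodule.span_empty, sup_bot_eq]
      rw [hD1, hd 0, ← hc01]
      exact hw
  obtain ⟨j', rfl⟩ : ∃ j', j = j' + 1 := ⟨j - 1, by omega⟩
  have hdj : IsJump R d (j' + 1 + 1) ↔
      c (j' + 2) ∉ Submodule.span R {d 0} ⊔ Submodule.span R (c '' Set.Iio (j' + 2)) := by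
    unfold IsJump
    rw [hD j', hd (j' + 1)]
  have hcj : IsJump R c (j' + 1 + 1) ↔ c (j' + 2) ∉ Submodule.span R (c '' Set.Iio (j' + 2)) :=
    Iff.rfl
  have hJinj := hJ.1.injective
  rcases lt_trichotomy j' q with hlt | heq | hgt
  · -- below the exchanged order
    have hiff : IsJump R d (j' + 1 + 1) ↔ IsJump R c (j' + 1 + 1) := by
      rw [hdj, hcj, not_iff_not]
      constructor
      · intro hmem
        obtain ⟨y, hy, z, hz, hyz⟩ := Submodule.mem_sup.mp hmem
        obtain ⟨a, rfl⟩ := Submodule.mem_span_singleton.mp hy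
        rcases eq_or_ne a 0 with rfl | ha
        · rw [zero_smul, zero_add] at hyz
          rw [← hyz]
          exact hz
        · exfalso
          apply hnot
          have h1 : d 0 = a⁻¹ • (c (j' + 2) - z) := by
            rw [← hyz, add_sub_cancel_right, smul_smul, inv_mul_cancel₀ ha, one_smul]
          have h2 : c (j' + 2) - z ∈ Submodule.span R (c '' Set.Iio (j' + 3)) := by
            refine Submodule.sub_mem _ (Submodule.subset_span ⟨j' + 2, by simp, rfl⟩) ?_
            exact span_image_Iio_mono c (by omega) hz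
          rw [h1]
          exact span_image_Iio_mono c (by omega) (Submodule.smul_mem _ _ h2)
      · intro hmem
        exact (le_sup_right : _ ≤ Submodule.span R {d 0} ⊔ _) hmem
    rw [hiff]
    constructor
    · intro hj
      obtain ⟨l, hl⟩ := hrange _ hj
      refine Or.inr ⟨l, ?_, hl⟩
      rintro rfl
      omega
    · rintro (h | ⟨l, -, hl⟩)
      · omega
      · exact (hJ.2 _).mp ⟨l, hl⟩
  · -- the exchanged order
    subst heq
    constructor
    · intro hj
      exfalso
      rw [hdj] at hj
      apply hj
      rw [span_image_Iio_succ] at hfind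
      obtain ⟨y, hy, z, hz, hyz⟩ := Submodule.mem_sup.mp hfind
      obtain ⟨a, rfl⟩ := Submodule.mem_span_singleton.mp hy
      have ha : a ≠ 0 := by
        rintro rfl
        rw [zero_smul, zero_add] at hyz
        exact hnot (hyz ▸ hz)
      have h1 : c (j' + 2) = a⁻¹ • d 0 + (-(a⁻¹ • z)) := by
        rw [← hyz, smul_add, smul_smul, inv_mul_cancel₀ ha, one_smul]
        abel
      rw [h1]
      exact Submodule.add_mem _
        ((le_sup_left : Submodule.span R {d 0} ≤ _)
          (Submodule.smul_mem _ _ (Submodule.mem_span_singleton_self _)))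
        ((le_sup_right : _ ≤ Submodule.span R {d 0} ⊔ _)
          (Submodule.neg_mem _ (Submodule.smul_mem _ _ hz)))
    · rintro (h | ⟨l, hl, hl'⟩)
      · omega
      · exact absurd (hJinj (hl'.trans hm.symm)) hl
  · -- above the exchanged order
    have hmem0 : d 0 ∈ Submodule.span R (c '' Set.Iio (j' + 2)) :=
      span_image_Iio_mono c (by omega) hfind
    have hiff : IsJump R d (j' + 1 + 1) ↔ IsJump R c (j' + 1 + 1) := by
      rw [hdj, hcj, sup_eq_right.mpr ((Submodule.span_singleton_le_iff_mem _ _).mpr hmem0)]
    rw [hiff]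
    constructor
    · intro hj
      obtain ⟨l, hl⟩ := hrange _ hj
      refine Or.inr ⟨l, ?_, hl⟩
      rintro rfl
      omega
    · rintro (h | ⟨l, -, hl⟩)
      · omega
      · exact (hJ.2 _).mp ⟨l, hl⟩

end Exchange

end Groth.Agent.Lib.Helper18.Hasse
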