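import Groth.Agent.Lib.Helper18.Hasse.WDiv
import Groth.Agent.Lib.Helper18.Hasse.ChangeVar
import Groth.Agent.Lib.Helper18.Hasse.DerUnique
import Groth.Agent.Lib.Helper18.Hasse.LocalHasse

/-! # Differentials read through expansions versus Hasse derivatives -/

set_option autoImplicit false
set_option linter.style.haveILetI false

namespace Groth.Agent.Lib.Helper18.Hasse

open FunFld WithZero LocRes Groth.Agent.Lib.Helper18.FF

universe u v

variable {k : Type u} {K : Type v} [Field k] [Field K] [Algebra k K]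

/-- The chain rule through an expansion: `d(Φ y)/dX = Φ(dy/dt) · d(Φ t)/dX`. -/
theorem D_expansion_eq [IsAlgClosed k] (hK : IsFunctionField k K) {F : Type*} [Field F]
    [Algebra k F] (Φ : K →ₐ[k] LaurentSeries F) {t : K} {Ht : K →ₐ[k] PowerSeries K}
    (hHt : IsHasseFamily t Ht) (y : K) :
    D F (Φ y) = Φ (hasseD Ht 1 y) * D F (Φ t) := by
  let δ : K → LaurentSeries F := fun y => D F (Φ y) - Φ (hasseD Ht 1 y) * D F (Φ t)
  have hδ : IsDer Φ.toRingHom δ := by
    constructor
    · intro a b
      simp only [δ]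
      rw [map_add, map_add, hasseD_add, map_add]
      ring
    · intro a b
      simp only [δ]
      have h1 : hasseD Ht 1 (a * b) = a * hasseD Ht 1 b + b * hasseD Ht 1 a := by
        have := (hasseDer hHt).leibniz a b
        rw [hasseDer_apply, hasseDer_apply, hasseDer_apply, smul_eq_mul, smul_eq_mul] at this
        exact this
      rw [map_mul, Derivation.leibniz, h1, map_add, map_mul, map_mul]
      simp only [smul_eq_mul, AlgHom.toRingHom_eq_coe, RingHom.coe_coe]
      ring
  have hk : ∀ c : k, δ (algebraMap k K c) = 0 := by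
    intro c
    simp only [δ]
    rw [LocRes.map_algebraMap, D_apply, LocRes.derivative_C, hasseD_algebraMap,
      if_neg one_ne_zero, map_zero, zero_mul, sub_zero]
  have hs : δ t = 0 := by
    simp only [δ]
    rw [hasseD_self hHt, if_neg one_ne_zero, if_pos rfl, map_one, one_mul, sub_self]
  have hsep := isSeparable_of_isHasseFamily hK hHt
  have := hδ.eq_zero_of_separable hk t hsep hs y
  exact sub_eq_zero.mp this

/-- The order of a differential read through an expansion at `P`, in terms of a Hasse family in a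
local parameter at `P`. -/
theorem ordDiff_eq_ord [IsAlgClosed k] (hK : IsFunctionField k K) (P : Place k K)
    (Φ : K →ₐ[k] LaurentSeries k) (hΦ : IsExpansionAt P.1 Φ) {t : K}
    (ht : P.1 t = exp (-1 : ℤ)) {Ht : K →ₐ[k] PowerSeries K} (hHt : IsHasseFamily t Ht)
    (u y : K) : ordDiff Φ u y = P.ord (u * hasseD Ht 1 y) := by
  have h1 : ordDiff Φ 1 t = 0 := ordDiff_uniformizer P.1 Φ hΦ ht
  have h2 : Valued.v (D k (Φ t)) = 1 := by
    unfold ordDiff vDiff at h1
    rw [map_one, one_mul, neg_eq_zero] at h1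
    have hne : Valued.v (D k (Φ t)) ≠ 0 := by
      intro h0
      -- then `D (Φ t) = 0`, but its constant coefficient is nonzero
      have hv : Valued.v (Φ t) = exp (-1 : ℤ) := by rw [hΦ.1 t, ht]
      have h3 : Valued.v (D k (Φ t)) ≤ exp (-(1 : ℤ)) := by
        rw [h0]
        exact zero_le'
      rw [LaurentSeries.valuation_le_iff_coeff_lt_eq_zero] at h3
      have h4 := h3 0 (by norm_num)
      rw [D_coeff, zero_add, one_smul] at h4
      have h5 : Valued.v (Φ t) ≤ exp (-(2 : ℤ)) := by
        rw [LaurentSeries.valuation_le_iff_coeff_lt_eq_zero]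
        intro n hn
        rcases lt_or_eq_of_le (by omega : n ≤ 1) with h' | h'
        · exact (LaurentSeries.valuation_le_iff_coeff_lt_eq_zero k).mp hv.le n h'
        · rw [h', h4]
      rw [hv, exp_le_exp] at h5
      omega
    rw [← exp_log hne, h1, exp_zero]
  unfold ordDiff vDiff Place.ord
  rw [D_expansion_eq hK Φ hHt y, ← mul_assoc, ← map_mul, map_mul, h2, mul_one, hΦ.1]

/-- Through every expansion at every place outside a finite set, `ds` has order `0`. -/
theorem finite_support_ordDiff [IsAlgClosed k] (hK : IsFunctionField k K) {s : K}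
    {H : K →ₐ[k] PowerSeries K} (hH : IsHasseFamily s H)
    (Φ : Place k K → (K →ₐ[k] LaurentSeries k))
    (hΦ : ∀ P : Place k K, IsExpansionAt P.1 (Φ P)) :
    (Function.support fun P : Place k K => ordDiff (Φ P) 1 s).Finite := by
  obtain ⟨S, hSfin, hS⟩ := exists_finite_local_param hK hH
  refine hSfin.subset fun Q hQ => ?_
  by_contra hQS
  obtain ⟨c, hc⟩ := hS Q hQS
  apply hQ
  have hHc := isHasseFamily_sub_const hH c
  change ordDiff (Φ Q) 1 s = 0
  rw [ordDiff_eq_ord hK Q (Φ Q) (hΦ Q) hc hHc 1 s, one_mul, hasseD_self hH, if_neg one_ne_zero,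
    if_pos rfl]
  unfold Place.ord
  rw [map_one, log_one, neg_zero]

theorem divDiff_one_apply [IsAlgClosed k] (hK : IsFunctionField k K) {s : K}
    {H : K →ₐ[k] PowerSeries K} (hH : IsHasseFamily s H)
    (Φ : Place k K → (K →ₐ[k] LaurentSeries k))
    (hΦ : ∀ P : Place k K, IsExpansionAt P.1 (Φ P)) (P : Place k K) :
    divDiff Φ 1 s P = ordDiff (Φ P) 1 s := by
  unfold divDiff
  rw [dif_pos (finite_support_ordDiff hK hH Φ hΦ)]
  rfl

/-- Change of variable for the divisor of a differential: `[ds] = [dt] + [ds/dt]`. -/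
theorem divDiff_change [IsAlgClosed k] (hK : IsFunctionField k K) {s t : K}
    {Hs Ht : K →ₐ[k] PowerSeries K} (hHs : IsHasseFamily s Hs) (hHt : IsHasseFamily t Ht)
    (Φ : Place k K → (K →ₐ[k] LaurentSeries k))
    (hΦ : ∀ P : Place k K, IsExpansionAt P.1 (Φ P)) :
    divDiff Φ 1 s = divDiff Φ 1 t + FunFld.div k (hasseD Ht 1 s) := by
  ext Q
  rw [Finsupp.add_apply, divDiff_one_apply hK hHs Φ hΦ, divDiff_one_apply hK hHt Φ hΦ,
    div_apply hK]
  obtain ⟨tQ, HQ, htQ, hHQ⟩ := exists_local_hasse hK hHs Q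
  rw [ordDiff_eq_ord hK Q (Φ Q) (hΦ Q) htQ hHQ 1 s, ordDiff_eq_ord hK Q (Φ Q) (hΦ Q) htQ hHQ 1 t,
    one_mul, one_mul]
  -- `D_Q s = D_Q t * D_t s`
  have h1 := hasseD_change hK hHt hHQ s 1
  rw [Finset.sum_range_succ, Finset.sum_range_one, pow_zero, pow_one, PowerSeries.coeff_one,
    if_neg one_ne_zero, mul_zero, zero_add, coeff_one_u hK hHt hHQ] at h1
  rw [h1, mul_comm]
  have hne1 : hasseD HQ 1 t ≠ 0 := hasseD_one_ne_zero hK hHt hHQ
  have hne2 : hasseD Ht 1 s ≠ 0 := hasseD_one_ne_zero hK hHs hHt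
  exact ord_mul Q hne1 hne2

end Groth.Agent.Lib.Helper18.Hasse
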