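import Groth.Agent.Lib.Helper18.Hasse.Adapted

/-! # Leading coefficients of determinants at a place -/

set_option autoImplicit false
set_option linter.style.haveILetI false

namespace Groth.Agent.Lib.Helper18.Hasse

open FunFld WithZero LocRes Groth.Agent.Lib.Helper18.FF

universe u v

variable {k : Type u} {K : Type v} [Field k] [Field K] [Algebra k K]

theorem prod_exp {ι : Type*} (s : Finset ι) (f : ι → ℤ) :
    ∏ i ∈ s, (exp (f i) : WithZero (Multiplicative ℤ)) = exp (∑ i ∈ s, f i) := by
  classical
  induction s using Finset.induction_on with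
  | empty => simp
  | insert a s ha ih => rw [Finset.prod_insert ha, Finset.sum_insert ha, ih, exp_add]

theorem val_zpow (P : Place k K) {t : K} (ht : P.1 t = exp (-1 : ℤ)) (z : ℤ) :
    P.1 (t ^ z) = exp (-z) := by
  rw [map_zpow₀, ht, ← exp_zsmul]
  simp

theorem evalP_coe (P : Place k K) (x : P.O) : evalP P (x : K) = IsLocalRing.residue P.O x := by
  have hx : P.1 (x : K) ≤ 1 := (Valuation.mem_valuationSubring_iff P.1 _).mp x.2
  rw [evalP_of_le P hx]
  rfl

/-- Determinant of a matrix over the valuation ring: its value is the determinant of the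
values. -/
theorem det_integral (P : Place k K) {m : ℕ} (N : Matrix (Fin m) (Fin m) K)
    (hle : ∀ r c, P.1 (N r c) ≤ 1) :
    P.1 N.det ≤ 1 ∧ evalP P N.det = (Matrix.of fun r c => evalP P (N r c)).det := by
  let N' : Matrix (Fin m) (Fin m) P.O := Matrix.of fun r c =>
    ⟨N r c, (Valuation.mem_valuationSubring_iff P.1 _).mpr (hle r c)⟩
  have hN : N = P.O.subtype.mapMatrix N' := by
    ext r c
    rfl
  have hdet : N.det = ((N'.det : P.O) : K) := by
    rw [hN, ← RingHom.map_det]
    rfl
  constructor
  · rw [hdet]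
    exact (Valuation.mem_valuationSubring_iff P.1 _).mp N'.det.2
  · rw [hdet, evalP_coe, RingHom.map_det]
    congr 1
    ext r c
    simp only [RingHom.mapMatrix_apply, Matrix.map_apply, Matrix.of_apply]
    rw [← evalP_coe]
    rfl

/-- Leading coefficient of a determinant with weighted rows and columns. -/
theorem det_lead (P : Place k K) {t : K} (ht : P.1 t = exp (-1 : ℤ)) {m : ℕ}
    (M : Matrix (Fin m) (Fin m) K) (a b : Fin m → ℤ)
    (L : Matrix (Fin m) (Fin m) (IsLocalRing.ResidueField P.O))
    (hle : ∀ r c, P.1 (M r c * t ^ (b c - a r)) ≤ 1)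
    (hev : ∀ r c, evalP P (M r c * t ^ (b c - a r)) = L r c) :
    P.1 M.det ≤ exp (-(∑ r, a r - ∑ c, b c)) ∧
    (P.1 M.det = exp (-(∑ r, a r - ∑ c, b c)) ↔ L.det ≠ 0) := by
  have ht0 : t ≠ 0 := by
    rintro rfl
    rw [map_zero] at ht
    exact exp_ne_zero ht.symm
  let N : Matrix (Fin m) (Fin m) K := Matrix.of fun r c => M r c * t ^ (b c - a r)
  obtain ⟨hN1, hN2⟩ := det_integral P N hle
  have hL : (Matrix.of fun r c => evalP P (N r c)) = L := by
    ext r c
    exact hev r c
  rw [hL] at hN2
  have hM : M = Matrix.of fun r c => t ^ (a r) *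
      (Matrix.of fun r c => t ^ (-(b c)) * N r c) r c := by
    ext r c
    simp only [Matrix.of_apply, N]
    have : t ^ a r * (t ^ (-b c) * (M r c * t ^ (b c - a r))) =
        M r c * (t ^ a r * t ^ (-b c) * t ^ (b c - a r)) := by ring
    rw [this, ← zpow_add₀ ht0, ← zpow_add₀ ht0]
    have : a r + -b c + (b c - a r) = 0 := by ring
    rw [this, zpow_zero, mul_one]
  have hdet : M.det = (∏ r, t ^ (a r)) * ((∏ c, t ^ (-(b c))) * N.det) := by
    conv_lhs => rw [hM]
    rw [Matrix.det_mul_column, Matrix.det_mul_row]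
  have hval : P.1 M.det = exp (-(∑ r, a r - ∑ c, b c)) * P.1 N.det := by
    rw [hdet, map_mul, map_mul, map_prod, map_prod]
    simp only [val_zpow P ht]
    rw [prod_exp, prod_exp, ← mul_assoc, ← exp_add]
    congr 2
    simp only [neg_neg, Finset.sum_neg_distrib]
    ring
  have hexp0 : (exp (-(∑ r, a r - ∑ c, b c)) : WithZero (Multiplicative ℤ)) ≠ 0 := exp_ne_zero
  constructor
  · rw [hval]
    calc exp (-(∑ r, a r - ∑ c, b c)) * P.1 N.det ≤ exp (-(∑ r, a r - ∑ c, b c)) * 1 :=
          mul_le_mul' le_rfl hN1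
      _ = _ := mul_one _
  · rw [hval, ← hN2, Ne, evalP_eq_zero_iff P hN1]
    constructor
    · intro h
      have h1 : P.1 N.det = 1 := by
        have := mul_left_cancel₀ hexp0 (h.trans (mul_one _).symm)
        exact this
      rw [h1]
      exact lt_irrefl _
    · intro h
      have h1 : P.1 N.det = 1 := le_antisymm hN1 (not_lt.mp h)
      rw [h1, mul_one]

end Groth.Agent.Lib.Helper18.Hasse
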