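import Groth.Agent.Lib.Helper18.Hasse.Basic
import Groth.Agent.Lib.Helper18.FF.Multiplier
import Groth.Agent.Lib.Helper18.FF.Semilocal
import Groth.Agent.Lib.Helper18.FF.RatPlaces2
import Groth.Agent.Lib.Helper18.FF.Weights
import Groth.Agent.Lib.Helper18.FF.Rational

/-! # A Hasse family with respect to a local parameter preserves the valuation ring -/

set_option autoImplicit false
set_option linter.style.haveILetI false

namespace Groth.Agent.Lib.Helper18.Hasse

open FunFld WithZero LocRes Groth.Agent.Lib.Helper18.FF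

universe u v

variable {k : Type u} {K : Type v} [Field k] [Field K] [Algebra k K]

theorem val_natCast_le_one (P : Place k K) (n : ℕ) : P.1 (n : K) ≤ 1 := by
  have : (n : K) = algebraMap k K (n : k) := by simp
  rw [this]
  exact val_algebraMap_le P _

theorem val_le_one_of_mem_adjoin_single (Q : Place k K) {x : K} (hx : Q.1 x ≤ 1) {a : K}
    (ha : a ∈ Algebra.adjoin k ({x} : Set K)) : Q.1 a ≤ 1 := by
  induction ha using Algebra.adjoin_induction with
  | mem y hy =>
    rw [Set.mem_singleton_iff] at hy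
    rw [hy]
    exact hx
  | algebraMap c => exact val_algebraMap_le Q c
  | add a b _ _ iha ihb => exact (Valuation.map_add _ _ _).trans (max_le iha ihb)
  | mul a b _ _ iha ihb =>
    rw [map_mul]
    exact mul_le_one' iha ihb

/-- The coefficient maps of a Hasse family with respect to `t` preserve `k[t]`. -/
theorem hasseD_mem_adjoin {t : K} {H : K →ₐ[k] PowerSeries K} (hH : IsHasseFamily t H) {a : K}
    (ha : a ∈ Algebra.adjoin k ({t} : Set K)) (j : ℕ) :
    hasseD H j a ∈ Algebra.adjoin k ({t} : Set K) := by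
  induction ha using Algebra.adjoin_induction generalizing j with
  | mem y hy =>
    rw [Set.mem_singleton_iff] at hy
    rw [hy, hasseD_self hH]
    split_ifs
    · exact Algebra.subset_adjoin rfl
    · exact Subalgebra.one_mem _
    · exact Subalgebra.zero_mem _
  | algebraMap c =>
    rw [hasseD_algebraMap]
    split_ifs
    · exact Subalgebra.algebraMap_mem _ c
    · exact Subalgebra.zero_mem _
  | add a b _ _ iha ihb =>
    rw [hasseD_add]
    exact Subalgebra.add_mem _ (iha j) (ihb j)
  | mul a b _ _ iha ihb =>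
    rw [hasseD_mul]
    exact Subalgebra.sum_mem _ fun p _ => Subalgebra.mul_mem _ (iha p.1) (ihb p.2)

/-- A finite family of functions has bounded poles at a place. -/
theorem exists_bound (P : Place k K) {ι : Type*} (S : Finset ι) (f : ι → K) :
    ∃ M : ℕ, ∀ i ∈ S, P.1 (f i) ≤ exp (M : ℤ) := by
  classical
  induction S using Finset.induction_on with
  | empty => exact ⟨0, fun i hi => absurd hi (Finset.notMem_empty i)⟩
  | insert a S _ ih =>
    obtain ⟨M, hM⟩ := ih
    obtain ⟨M₁, hM₁⟩ : ∃ M₁ : ℕ, P.1 (f a) ≤ exp (M₁ : ℤ) := by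
      rcases eq_or_ne (P.1 (f a)) 0 with h0 | h0
      · exact ⟨0, by rw [h0]; exact zero_le'⟩
      · refine ⟨(log (P.1 (f a))).toNat, ?_⟩
        rw [← exp_log h0, exp_le_exp, log_exp]
        exact Int.self_le_toNat _
    refine ⟨max M M₁, fun i hi => ?_⟩
    rcases Finset.mem_insert.mp hi with rfl | hi
    · refine hM₁.trans ?_
      rw [exp_le_exp]
      exact_mod_cast le_max_right M M₁
    · refine (hM i hi).trans ?_
      rw [exp_le_exp]
      exact_mod_cast le_max_left M M₁

section main

variable [IsAlgClosed k] (hK : IsFunctionField k K) (P : Place k K) {t : K}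
  (ht : P.1 t = exp (-1 : ℤ)) {H : K →ₐ[k] PowerSeries K} (hH : IsHasseFamily t H)

include hK ht hH

theorem val_t_le_one : P.1 t ≤ 1 := by
  rw [ht, ← exp_zero, exp_le_exp]
  norm_num

omit [IsAlgClosed k] hH in
theorem t_ne_zero : t ≠ 0 := by
  rintro rfl
  rw [map_zero] at ht
  exact exp_ne_zero ht.symm

omit [IsAlgClosed k] hH in
theorem t_transcendental : Transcendental k t :=
  transcendental_of_val_ne_one hK P (t_ne_zero hK P ht) (by
    rw [ht]
    intro h
    rw [← exp_zero, exp_injective.eq_iff] at h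
    omega)

/-- Uniform bound for the coefficient maps on the functions regular away from the poles of `t`. -/
theorem exists_uniform_bound_L (j : ℕ) :
    ∃ M : ℕ, ∀ (n : ℕ) (a : K), a ∈ L (n • poleDiv (k := k) t) →
      ∀ i ≤ j, P.1 (hasseD H i a) ≤ exp (M : ℤ) := by
  classical
  have htr := t_transcendental hK P ht
  have ht0 := t_ne_zero hK P ht
  obtain ⟨E, hEdef⟩ : ∃ E : Divisor k K, E = poleDiv t := ⟨_, rfl⟩
  rw [← hEdef]
  have hE : 0 ≤ E := hEdef ▸ poleDiv_nonneg t
  have hEdeg : 1 ≤ E.deg := by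
    rw [hEdef, deg_poleDiv_eq hK htr]
    haveI := finiteDimensional_adjoin_of_transcendental hK htr
    have : 0 < Module.finrank (IntermediateField.adjoin k ({t} : Set K)) K := Module.finrank_pos
    exact_mod_cast this
  have htE : t ∈ L E := by
    have := pow_mem_L_nsmul_poleDiv hK t (le_refl 1)
    rwa [pow_one, one_smul, ← hEdef] at this
  have htdiv : ∀ R, 0 < E R → (FunFld.div k t) R = - E R := by
    intro R hR
    rw [hEdef, poleDiv_apply hK] at hR ⊢
    rw [div_apply hK]
    omega
  obtain ⟨r, b, hb⟩ := exists_generators hK (Algebra.adjoin k ({t} : Set K)) hE hEdeg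
    (Algebra.subset_adjoin rfl) ht0 htE htdiv
  obtain ⟨M, hM⟩ := exists_bound P (Finset.univ ×ˢ Finset.range (j + 1))
    (fun p : Fin r × ℕ => hasseD H p.2 (b p.1))
  refine ⟨M, fun n a ha i hi => ?_⟩
  obtain ⟨c, hc⟩ := hb n a ha
  rw [hc, hasseD_sum]
  refine Valuation.map_sum_le _ (fun l _ => ?_)
  rw [hasseD_mul]
  refine Valuation.map_sum_le _ (fun p hp => ?_)
  rw [map_mul]
  have h1 : P.1 (hasseD H p.1 (c l : K)) ≤ 1 :=
    val_le_one_of_mem_adjoin_single P (val_t_le_one hK P ht hH) (hasseD_mem_adjoin hH (c l).2 p.1)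
  have hp2 : p.2 ≤ i := by
    have := Finset.HasAntidiagonal.mem_antidiagonal.mp hp
    omega
  have h2 : P.1 (hasseD H p.2 (b l)) ≤ exp (M : ℤ) :=
    hM (l, p.2) (Finset.mem_product.mpr ⟨Finset.mem_univ _, Finset.mem_range.mpr (by omega)⟩)
  calc P.1 (hasseD H p.1 (c l : K)) * P.1 (hasseD H p.2 (b l)) ≤ 1 * exp (M : ℤ) :=
        mul_le_mul' h1 h2
    _ = exp (M : ℤ) := one_mul _

/-- Uniform bound for the coefficient maps on the valuation ring. -/
theorem exists_uniform_bound (j : ℕ) :
    ∃ M : ℕ, ∀ y : K, P.1 y ≤ 1 → ∀ i ≤ j, P.1 (hasseD H i y) ≤ exp (M : ℤ) := by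
  classical
  have htr := t_transcendental hK P ht
  induction j with
  | zero =>
    refine ⟨0, fun y hy i hi => ?_⟩
    have : i = 0 := by omega
    subst this
    rw [hasseD_zero hH]
    simpa using hy
  | succ j ih =>
    obtain ⟨M₁, hM₁⟩ := ih
    obtain ⟨M₂, hM₂⟩ := exists_uniform_bound_L hK P ht hH (j + 1)
    refine ⟨M₁ + M₂, fun y hy i hi => ?_⟩
    have hle1 : exp (M₁ : ℤ) ≤ exp ((M₁ + M₂ : ℕ) : ℤ) := by
      rw [exp_le_exp]
      push_cast
      omega
    rcases Nat.lt_or_ge i (j + 1) with hlt | hge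
    · exact (hM₁ y hy i (by omega)).trans hle1
    have hi' : i = j + 1 := by omega
    subst hi'
    have hE : 0 ≤ poleDiv (k := k) t := poleDiv_nonneg t
    have hEdeg : 1 ≤ (poleDiv (k := k) t).deg := by
      rw [deg_poleDiv_eq hK htr]
      haveI := finiteDimensional_adjoin_of_transcendental hK htr
      have : 0 < Module.finrank (IntermediateField.adjoin k ({t} : Set K)) K := Module.finrank_pos
      exact_mod_cast this
    have hEP : poleDiv (k := k) t P = 0 := by
      rw [poleDiv_apply hK]
      have := (val_le_one_iff_ord_nonneg P (t_ne_zero hK P ht)).mp (val_t_le_one hK P ht hH)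
      omega
    obtain ⟨n, σ, hσL, hσP, hσyL⟩ := exists_unit_multiplier hK hE hEdeg P hEP hy
    have hexp : hasseD H (j + 1) (σ * y) =
        σ * hasseD H (j + 1) y +
          ∑ e ∈ Finset.range (j + 1), hasseD H (e + 1) σ * hasseD H (j - e) y := by
      rw [hasseD_mul, Finset.Nat.sum_antidiagonal_eq_sum_range_succ_mk, Finset.sum_range_succ',
        add_comm]
      congr 1
      · simp only [Nat.sub_zero]
        rw [hasseD_zero hH]
      · refine Finset.sum_congr rfl fun e _ => ?_
        simp only [Nat.reduceSubDiff]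
    have hval : P.1 (hasseD H (j + 1) y) = P.1 (σ * hasseD H (j + 1) y) := by
      rw [map_mul, hσP, one_mul]
    have heq : σ * hasseD H (j + 1) y = hasseD H (j + 1) (σ * y) -
        ∑ e ∈ Finset.range (j + 1), hasseD H (e + 1) σ * hasseD H (j - e) y := by
      rw [hexp]
      ring
    rw [hval, heq]
    refine (Valuation.map_sub _ _ _).trans (max_le ?_ ?_)
    · refine (hM₂ n _ hσyL (j + 1) le_rfl).trans ?_
      rw [exp_le_exp]
      push_cast
      omega
    · refine Valuation.map_sum_le _ (fun e he => ?_)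
      rw [map_mul]
      have he' := Finset.mem_range.mp he
      have h1 := hM₂ n σ hσL (e + 1) (by omega)
      have h2 := hM₁ y hy (j - e) (by omega)
      calc P.1 (hasseD H (e + 1) σ) * P.1 (hasseD H (j - e) y)
          ≤ exp (M₂ : ℤ) * exp (M₁ : ℤ) := mul_le_mul' h1 h2
        _ = exp ((M₁ + M₂ : ℕ) : ℤ) := by
          rw [← exp_add]
          congr 1
          push_cast
          ring

omit hH in
/-- Splitting off the Taylor polynomial of degree `< M` in the local parameter. -/
theorem exists_decomp {y : K} (hy : P.1 y ≤ 1) (M : ℕ) :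
    ∃ q ∈ Algebra.adjoin k ({t} : Set K), ∃ y' : K, P.1 y' ≤ 1 ∧ y = q + t ^ M * y' := by
  induction M with
  | zero => exact ⟨0, Subalgebra.zero_mem _, y, hy, by simp⟩
  | succ M ih =>
    obtain ⟨q, hq, y', hy', hyq⟩ := ih
    obtain ⟨c, hc⟩ := exists_const_sub_lt_one hK (deg_eq_one_of_isAlgClosed hK P) hy'
    have ht0 := t_ne_zero hK P ht
    have htA : t ∈ Algebra.adjoin k ({t} : Set K) := Algebra.subset_adjoin rfl
    have hqA : q + algebraMap k K c * t ^ M ∈ Algebra.adjoin k ({t} : Set K) :=
      Subalgebra.add_mem _ hq (Subalgebra.mul_mem _ (Subalgebra.algebraMap_mem _ c)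
        (Subalgebra.pow_mem _ htA M))
    refine ⟨q + algebraMap k K c * t ^ M, hqA, (y' - algebraMap k K c) / t, ?_, ?_⟩
    · rw [map_div₀, ht, div_le_iff₀ (zero_lt_iff.mpr exp_ne_zero), one_mul]
      exact (zm0_lt_one_iff _).mp hc
    · have h1 : t ^ (M + 1) * ((y' - algebraMap k K c) / t) = t ^ M * (y' - algebraMap k K c) := by
        rw [pow_succ, mul_assoc, mul_div_cancel₀ _ ht0]
      rw [h1, hyq]
      ring

/-- **Regularity.** The coefficient maps of a Hasse family with respect to a local parameter at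
`P` preserve the valuation ring of `P`. -/
theorem hasseD_val_le_one {y : K} (hy : P.1 y ≤ 1) (j : ℕ) : P.1 (hasseD H j y) ≤ 1 := by
  classical
  obtain ⟨M', hM'⟩ := exists_uniform_bound hK P ht hH j
  obtain ⟨q, hq, y', hy', hyq⟩ := exists_decomp hK P ht hy (j + M')
  rw [hyq, hasseD_add]
  refine (Valuation.map_add _ _ _).trans (max_le ?_ ?_)
  · exact val_le_one_of_mem_adjoin_single P (val_t_le_one hK P ht hH) (hasseD_mem_adjoin hH hq j)
  · rw [hasseD_mul]
    refine Valuation.map_sum_le _ (fun p hp => ?_)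
    have hp' := Finset.HasAntidiagonal.mem_antidiagonal.mp hp
    rw [hasseD_self_pow hH, map_mul, map_mul, map_pow, ht]
    have h1 := val_natCast_le_one P ((j + M').choose p.1)
    have h2 := hM' y' hy' p.2 (by omega)
    calc P.1 (((j + M').choose p.1 : ℕ) : K) * exp (-1 : ℤ) ^ (j + M' - p.1) *
          P.1 (hasseD H p.2 y')
        ≤ 1 * exp (-1 : ℤ) ^ (j + M' - p.1) * exp (M' : ℤ) :=
          mul_le_mul' (mul_le_mul' h1 le_rfl) h2
      _ ≤ 1 := by
        rw [one_mul, ← exp_nsmul, ← exp_add, ← exp_zero, exp_le_exp]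
        simp only [nsmul_eq_mul]
        have : p.1 ≤ j := by omega
        have h3 : ((j + M' - p.1 : ℕ) : ℤ) = (j : ℤ) + M' - p.1 := by
          rw [Nat.cast_sub (by omega)]
          push_cast
          ring
        rw [h3]
        have : (p.1 : ℤ) ≤ (j : ℤ) := by exact_mod_cast this
        linarith

end main

end Groth.Agent.Lib.Helper18.Hasse
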