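import Groth.Agent.Lib.Helper18.Hasse.Expansion
import Groth.Agent.Lib.Helper18.Hasse.Normalize
import Groth.Agent.Lib.Helper18.Hasse.Scale
import Groth.Agent.Lib.Helper18.FF.LinEquiv
import Groth.Agent.Lib.Helper18.FF.GenusOneHyp

/-! # Invariance of the Weierstrass divisor -/

set_option autoImplicit false
set_option linter.style.haveILetI false

namespace Groth.Agent.Lib.Helper18.Hasse

open FunFld WithZero LocRes Groth.Agent.Lib.Helper18.FF

universe u v

variable {k : Type u} {K : Type v} [Field k] [Field K] [Algebra k K]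

section Jump

variable {R M M' : Type*} [DivisionRing R] [AddCommGroup M] [Module R M] [AddCommGroup M']
  [Module R M']

theorem isJump_map_iff (f : M →ₗ[R] M') (hf : Function.Injective f) (c : ℕ → M) (j : ℕ) :
    IsJump R (fun i => f (c i)) j ↔ IsJump R c j := by
  unfold IsJump
  have h1 : (fun i => f (c i)) '' Set.Iio j = f '' (c '' Set.Iio j) := by
    rw [Set.image_image]
  rw [h1, ← Submodule.map_span]
  constructor
  · intro h hmem
    exact h (Submodule.mem_map_of_mem hmem)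
  · intro h hmem
    obtain ⟨x, hx, hfx⟩ := Submodule.mem_map.mp hmem
    rw [hf hfx] at hx
    exact h hx

theorem isOrders_map_iff (f : M →ₗ[R] M') (hf : Function.Injective f) (c : ℕ → M) {n : ℕ}
    (J : Fin n → ℕ) : IsOrders R (fun i => f (c i)) J ↔ IsOrders R c J := by
  unfold IsOrders
  simp only [isJump_map_iff f hf c]

end Jump

/-- Independence is preserved by an invertible constant matrix. -/
theorem linearIndependent_comb {n : ℕ} (φ : Fin (n + 1) → K) (hφ : LinearIndependent k φ)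
    (A : Matrix (Fin (n + 1)) (Fin (n + 1)) k) (hA : A.det ≠ 0) :
    LinearIndependent k (fun i => ∑ j, A i j • φ j) := by
  rw [Fintype.linearIndependent_iff]
  intro g hg
  have h1 : ∑ j, (∑ i, g i * A i j) • φ j = 0 := by
    rw [← hg]
    simp only [Finset.smul_sum, Finset.sum_smul, smul_smul]
    exact Finset.sum_comm
  have h2 := Fintype.linearIndependent_iff.mp hφ _ h1
  have h3 : Matrix.vecMul g A = 0 := by
    funext j
    exact h2 j
  have h4 := Matrix.eq_zero_of_vecMul_eq_zero hA h3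
  intro i
  exact congrFun h4 i

/-- The divisor of a tuple only depends on its span. -/
theorem mapDiv_le_of_mem_span (hK : IsFunctionField k K) {n : ℕ} (φ ψ : Fin (n + 1) → K)
    (hφ0 : ∀ i, φ i ≠ 0) (hψ0 : ∀ i, ψ i ≠ 0)
    (h : ∀ i, ψ i ∈ Submodule.span k (Set.range φ)) : mapDiv k ψ ≤ mapDiv k φ := by
  intro P
  obtain ⟨i, hi⟩ := exists_mapDiv_eq hK ψ P
  rw [hi]
  obtain ⟨a, ha⟩ := (Submodule.mem_span_range_iff_exists_fun k).mp (h i)
  have h1 : P.1 (ψ i) ≤ exp (mapDiv k φ P) := by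
    rw [← ha]
    refine P.1.map_sum_le fun j _ => ?_
    refine (val_smul_le P (a j) (φ j)).trans ?_
    exact mem_L_mapDiv hK φ j P
  have := (val_le_exp_iff P (hψ0 i) _).mp h1
  omega

theorem mapDiv_eq_of_span_eq (hK : IsFunctionField k K) {n : ℕ} (φ ψ : Fin (n + 1) → K)
    (hφ0 : ∀ i, φ i ≠ 0) (hψ0 : ∀ i, ψ i ≠ 0)
    (h : Submodule.span k (Set.range ψ) = Submodule.span k (Set.range φ)) :
    mapDiv k ψ = mapDiv k φ := by
  apply le_antisymm
  · exact mapDiv_le_of_mem_span hK φ ψ hφ0 hψ0 fun i => h ▸ Submodule.subset_span ⟨i, rfl⟩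
  · exact mapDiv_le_of_mem_span hK ψ φ hψ0 hφ0 fun i => h.symm ▸ Submodule.subset_span ⟨i, rfl⟩

theorem span_comb_eq {n : ℕ} (φ : Fin (n + 1) → K) (hφ : LinearIndependent k φ)
    (A : Matrix (Fin (n + 1)) (Fin (n + 1)) k) (hA : A.det ≠ 0) :
    Submodule.span k (Set.range fun i => ∑ j, A i j • φ j) = Submodule.span k (Set.range φ) := by
  have hli := linearIndependent_comb φ hφ A hA
  have hle : Submodule.span k (Set.range fun i => ∑ j, A i j • φ j) ≤
      Submodule.span k (Set.range φ) := by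
    rw [Submodule.span_le]
    rintro _ ⟨i, rfl⟩
    exact Submodule.sum_mem _ fun j _ => Submodule.smul_mem _ _ (Submodule.subset_span ⟨j, rfl⟩)
  haveI : FiniteDimensional k (Submodule.span k (Set.range φ)) :=
    FiniteDimensional.span_of_finite k (Set.finite_range φ)
  refine Submodule.eq_of_le_of_finrank_eq hle ?_
  rw [finrank_span_eq_card hli, finrank_span_eq_card hφ]

section main

variable [IsAlgClosed k] (hK : IsFunctionField k K)

include hK

/-- The Weierstrass divisor does not depend on the separating variable nor on the representative of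
the projective map. -/
theorem wDiv_eq_of_equiv {n : ℕ} (φ : Fin (n + 1) → K) (hφ : LinearIndependent k φ)
    (τ : K →ₐ[k] K) {s : K} {Hs : K →ₐ[k] PowerSeries K} (hHs : IsHasseFamily s Hs)
    {t : K} {Ht : K →ₐ[k] PowerSeries K} (hHt : IsHasseFamily t Ht)
    (J : Fin n → ℕ) (hJ : IsOrders K (hcol τ Hs φ) J)
    (A : Matrix (Fin (n + 1)) (Fin (n + 1)) k) (hA : A.det ≠ 0) (y : K) (hy : y ≠ 0)
    (φ' : Fin (n + 1) → K) (hφ' : ∀ i, φ' i = y * ∑ j, A i j • φ j)
    (Φ : Place k K → (K →ₐ[k] LaurentSeries k))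
    (hΦ : ∀ P : Place k K, IsExpansionAt P.1 (Φ P)) :
    wDiv τ Ht Φ t φ' J = wDiv τ Hs Φ s φ J := by
  classical
  obtain ⟨φ'', hφ''def⟩ : ∃ φ'' : Fin (n + 1) → K, φ'' = fun i => ∑ j, A i j • φ j := ⟨_, rfl⟩
  have hφ'eq : φ' = y • φ'' := by
    funext i
    rw [hφ' i, hφ''def]
    rfl
  have hφ''li : LinearIndependent k φ'' := by
    rw [hφ''def]
    exact linearIndependent_comb φ hφ A hA
  have hφ''span : Submodule.span k (Set.range φ'') = Submodule.span k (Set.range φ) := by
    rw [hφ''def]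
    exact span_comb_eq φ hφ A hA
  have hτinj : Function.Injective τ := τ.toRingHom.injective
  have hτli : ∀ ψ : Fin (n + 1) → K, LinearIndependent k ψ → LinearIndependent k (τ ∘ ψ) :=
    fun ψ hψ => hψ.map' τ.toLinearMap (LinearMap.ker_eq_bot.mpr hτinj)
  -- orders
  have hJt : IsOrders K (hcol τ Ht φ) J := ((change_main hK hHs hHt φ τ).1 J).mpr hJ
  let AK : Matrix (Fin (n + 1)) (Fin (n + 1)) K := A.map (algebraMap k K)
  have hAKdet : AK.det = algebraMap k K A.det := by
    rw [RingHom.map_det]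
    rfl
  have hAKunit : IsUnit AK := by
    rw [Matrix.isUnit_iff_isUnit_det, hAKdet]
    exact isUnit_iff_ne_zero.mpr ((map_ne_zero _).mpr hA)
  have hcol'' : hcol τ Ht φ'' = fun j => AK.mulVecLin (hcol τ Ht φ j) := by
    funext j i
    rw [hφ''def]
    cases j with
    | zero =>
      change τ (∑ j, A i j • φ j) = _
      rw [tau_comb]
      rfl
    | succ j =>
      change hasseD Ht j (∑ j, A i j • φ j) = _
      rw [hasseD_comb]
      rfl
  have hJ'' : IsOrders K (hcol τ Ht φ'') J := by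
    rw [hcol'']
    exact (isOrders_map_iff AK.mulVecLin (Matrix.mulVec_injective_iff_isUnit.mpr hAKunit) _ J).mpr
      hJt
  -- the Wronskian
  have hw1 := (scale_main φ'' τ Ht hHt.2 y hy).2 J hJ''
  have hw2 : (wrMat τ Ht φ'' J).det = AK.det * (wrMat τ Ht φ J).det := by
    rw [hφ''def, wrMat_comb, Matrix.det_mul]
  have hw3 := (change_main hK hHs hHt φ τ).2 J hJ
  have hw0 : (wrMat τ Hs φ J).det ≠ 0 := det_wrMat_ne_zero_of_isOrders τ Hs φ hφ J hJ
  have hu1 : hasseD Ht 1 s ≠ 0 := hasseD_one_ne_zero hK hHs hHt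
  have hτy : τ y ≠ 0 := (map_ne_zero τ).mpr hy
  have hdiv : FunFld.div k (wrMat τ Ht φ' J).det =
      FunFld.div k (τ y) + n • FunFld.div k y + (∑ l, J l) • FunFld.div k (hasseD Ht 1 s) +
        FunFld.div k (wrMat τ Hs φ J).det := by
    rw [hφ'eq, hw1, hw2, hw3, hAKdet]
    have hc : algebraMap k K A.det ≠ 0 := (map_ne_zero _).mpr hA
    rw [div_mul hK (mul_ne_zero hτy (pow_ne_zero _ hy))
        (mul_ne_zero hc (mul_ne_zero (pow_ne_zero _ hu1) hw0)),
      div_mul hK hτy (pow_ne_zero _ hy), div_pow hK hy,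
      div_mul hK hc (mul_ne_zero (pow_ne_zero _ hu1) hw0), div_algebraMap hK,
      div_mul hK (pow_ne_zero _ hu1) hw0, div_pow hK hu1]
    abel
  -- the divisors of the tuples
  have hm1 : mapDiv k φ' = mapDiv k φ - FunFld.div k y := by
    rw [hφ'eq, mapDiv_smul hK hy φ'' (fun i => hφ''li.ne_zero i),
      mapDiv_eq_of_span_eq hK φ φ'' (fun i => hφ.ne_zero i) (fun i => hφ''li.ne_zero i) hφ''span]
  have hm2 : mapDiv k (τ ∘ φ') = mapDiv k (τ ∘ φ) - FunFld.div k (τ y) := by
    have e1 : τ ∘ φ' = τ y • (τ ∘ φ'') := by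
      funext i
      rw [hφ'eq]
      simp only [Function.comp_apply, Pi.smul_apply, smul_eq_mul, map_mul]
    have hspanτ : Submodule.span k (Set.range (τ ∘ φ'')) = Submodule.span k (Set.range (τ ∘ φ)) := by
      have e2 : τ ∘ φ'' = fun i => ∑ j, A i j • (τ ∘ φ) j := by
        funext i
        rw [hφ''def]
        simp only [Function.comp_apply, map_sum, map_smul]
      rw [e2]
      exact span_comb_eq (τ ∘ φ) (hτli φ hφ) A hA
    rw [e1, mapDiv_smul hK hτy (τ ∘ φ'') (fun i => (hτli φ'' hφ''li).ne_zero i),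
      mapDiv_eq_of_span_eq hK (τ ∘ φ) (τ ∘ φ'') (fun i => (hτli φ hφ).ne_zero i)
        (fun i => (hτli φ'' hφ''li).ne_zero i) hspanτ]
  have hd := divDiff_change hK hHs hHt Φ hΦ
  unfold wDiv
  rw [hdiv, hm1, hm2, hd]
  simp only [smul_sub, smul_add, natCast_zsmul]
  have e3 : ((∑ l, (J l : ℤ)) : ℤ) = ((∑ l, J l : ℕ) : ℤ) := by push_cast; rfl
  rw [e3]
  simp only [natCast_zsmul]
  abel

end main

end Groth.Agent.Lib.Helper18.Hasse
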