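import Groth.Agent.Lib.Helper18.Hasse.Conorm
import Groth.Agent.Lib.Helper18.Hasse.WDivInv
import Groth.Agent.Lib.Helper18.Tate.Canonical

/-! # Nonnegativity and degree of the Weierstrass divisor -/

set_option autoImplicit false
set_option linter.style.haveILetI false

namespace Groth.Agent.Lib.Helper18.Hasse

open FunFld WithZero LocRes Groth.Agent.Lib.Helper18.FF

universe u v

variable {k : Type u} {K : Type v} [Field k] [Field K] [Algebra k K]

theorem deg_zsmul (z : ℤ) (D : Divisor k K) : (z • D).deg = z * D.deg := by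
  induction z using Int.induction_on with
  | zero => simp [deg_zero]
  | succ n ih => rw [add_smul, one_smul, deg_add, ih]; ring
  | pred n ih => rw [sub_smul, one_smul, deg_sub, ih]; ring

variable [IsAlgClosed k]

theorem wDiv_nonneg (hK : IsFunctionField k K) {n : ℕ} (φ : Fin (n + 1) → K)
    (hφ : LinearIndependent k φ) (τ : K →ₐ[k] K) {s : K} {H : K →ₐ[k] PowerSeries K}
    (hH : IsHasseFamily s H) (J : Fin n → ℕ) (hJ : IsOrders K (hcol τ H φ) J)
    (Φ : Place k K → (K →ₐ[k] LaurentSeries k))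
    (hΦ : ∀ P : Place k K, IsExpansionAt P.1 (Φ P)) :
    0 ≤ wDiv τ H Φ s φ J := by
  intro P
  obtain ⟨t, Ht, ht, hHt⟩ := exists_local_hasse hK hH P
  obtain ⟨y, hy, hli, heff, hnorm⟩ := exists_normalize P φ hφ
  have e := wDiv_eq_of_equiv hK φ hφ τ hH hHt J hJ 1 (by simp) y hy (y • φ) (fun i => by
    rw [Pi.smul_apply, smul_eq_mul]
    congr 1
    rw [Finset.sum_eq_single i]
    · rw [Matrix.one_apply_eq, one_smul]
    · intro j _ hj
      rw [Matrix.one_apply_ne (Ne.symm hj), zero_smul]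
    · intro h; exact absurd (Finset.mem_univ i) h) Φ hΦ
  rw [← e, Finsupp.zero_apply, wDiv_apply hK, divDiff_apply_uniformizer Φ P (hΦ P) ht,
    mapDiv_apply_of_normalized hK _ P heff hnorm, mul_zero, mul_zero, add_zero, add_zero]
  have hJ' : IsOrders K (hcol τ Ht (y • φ)) J :=
    ((scale_main φ τ Ht hHt.2 y hy).1 J).mpr (((change_main hK hH hHt φ τ).1 J).mpr hJ)
  have hdet := det_wrMat_ne_zero_of_isOrders τ Ht (y • φ) hli J hJ'
  have hb : P.1 (wrMat τ Ht (y • φ) J).det ≤ exp (mapDiv k (τ ∘ (y • φ)) P) := by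
    rw [Matrix.det_succ_column_zero]
    refine Valuation.map_sum_le _ fun i _ => ?_
    rw [map_mul, map_mul, Valuation.map_pow, Valuation.map_neg, map_one, one_pow, one_mul]
    have h1 : P.1 (wrMat τ Ht (y • φ) J i 0) ≤ exp (mapDiv k (τ ∘ (y • φ)) P) :=
      mem_L_mapDiv hK (τ ∘ (y • φ)) i P
    have h2 : P.1 ((wrMat τ Ht (y • φ) J).submatrix i.succAbove Fin.succ).det ≤ 1 := by
      refine (det_integral P _ fun r c => ?_).1
      exact hasseD_val_le_one hK P ht hHt (hnorm _) _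
    calc _ ≤ exp (mapDiv k (τ ∘ (y • φ)) P) * 1 := mul_le_mul' h1 h2
      _ = _ := mul_one _
  rw [val_le_exp_iff P hdet] at hb
  omega

theorem deg_wDiv (hK : IsFunctionField k K) {n : ℕ} (φ : Fin (n + 1) → K)
    (hφ : LinearIndependent k φ) (τ : K →ₐ[k] K) {s : K} {H : K →ₐ[k] PowerSeries K}
    (hH : IsHasseFamily s H) (J : Fin n → ℕ)
    (Φ : Place k K → (K →ₐ[k] LaurentSeries k))
    (hΦ : ∀ P : Place k K, IsExpansionAt P.1 (Φ P)) :
    (wDiv τ H Φ s φ J).deg =
      ((Module.finrank τ.fieldRange K : ℤ) + n) * (mapDiv k φ).deg +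
        (2 * (genus k K : ℤ) - 2) * ∑ l, (J l : ℤ) := by
  unfold wDiv
  rw [deg_add, deg_add, deg_add, deg_zsmul, deg_zsmul, deg_div_eq_zero hK,
    deg_mapDiv_comp hK τ φ hφ, Groth.Agent.Lib.Helper18.Tate.deg_divDiff hK hH Φ hΦ]
  ring

end Groth.Agent.Lib.Helper18.Hasse
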