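import Groth.Agent.Lib.Helper18.Hasse.WrLocal
import Groth.Agent.Lib.Helper18.FF.MapDiv
import Groth.Agent.Lib.Helper18.FF.Degree

/-! # The coefficient of the Weierstrass divisor at a place, in a local parameter -/

set_option autoImplicit false
set_option linter.style.haveILetI false

namespace Groth.Agent.Lib.Helper18.Hasse

open FunFld WithZero LocRes Groth.Agent.Lib.Helper18.FF

universe u v

variable {k : Type u} {K : Type v} [Field k] [Field K] [Algebra k K]

/-- The differential of a uniformizer has order `0` through any expansion. -/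
theorem ordDiff_uniformizer {F : Type*} [Field F] [Algebra k F]
    (w : Valuation K (WithZero (Multiplicative ℤ))) (Φ : K →ₐ[k] LaurentSeries F)
    (hΦ : IsExpansionAt w Φ) {t : K} (ht : w t = exp (-1 : ℤ)) : ordDiff Φ 1 t = 0 := by
  have hv : Valued.v (Φ t) = exp (-1 : ℤ) := by rw [hΦ.1 t, ht]
  have h1 : ∀ n : ℤ, n < 1 → (Φ t).coeff n = 0 :=
    (LaurentSeries.valuation_le_iff_coeff_lt_eq_zero F).mp hv.le
  have h2 : (Φ t).coeff 1 ≠ 0 := by
    intro h
    have : Valued.v (Φ t) ≤ exp (-(2 : ℤ)) := by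
      rw [LaurentSeries.valuation_le_iff_coeff_lt_eq_zero]
      intro n hn
      rcases lt_or_eq_of_le (by omega : n ≤ 1) with h' | h'
      · exact h1 n h'
      · rw [h', h]
    rw [hv, exp_le_exp] at this
    omega
  have h3 : Valued.v (D F (Φ t)) ≤ exp (-(0 : ℤ)) := by
    rw [LaurentSeries.valuation_le_iff_coeff_lt_eq_zero]
    intro n hn
    rw [D_coeff, h1 (n + 1) (by omega), smul_zero]
  have h4 : ¬ Valued.v (D F (Φ t)) ≤ exp (-(1 : ℤ)) := by
    rw [LaurentSeries.valuation_le_iff_coeff_lt_eq_zero]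
    intro h
    have := h 0 (by norm_num)
    rw [D_coeff, zero_add, one_smul] at this
    exact h2 this
  have h5 : Valued.v (D F (Φ t)) = 1 := by
    rw [neg_zero, exp_zero] at h3
    refine le_antisymm h3 (not_lt.mp fun h => h4 ?_)
    exact (zm0_lt_one_iff _).mp h
  unfold ordDiff vDiff
  rw [map_one, one_mul, h5]
  simp

theorem divDiff_apply_uniformizer (Φ : Place k K → (K →ₐ[k] LaurentSeries k)) (P : Place k K)
    (hΦ : IsExpansionAt P.1 (Φ P)) {t : K} (ht : P.1 t = exp (-1 : ℤ)) :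
    divDiff Φ 1 t P = 0 := by
  unfold divDiff
  split_ifs with h
  · exact ordDiff_uniformizer P.1 (Φ P) hΦ ht
  · rfl

/-- The divisor of a normalized effective tuple has coefficient `0`. -/
theorem mapDiv_apply_of_normalized (hK : IsFunctionField k K) {n : ℕ} (φ : Fin (n + 1) → K)
    (P : Place k K) (heff : (1 : K) ∈ Submodule.span k (Set.range φ))
    (hnorm : ∀ i, P.1 (φ i) ≤ 1) : mapDiv k φ P = 0 := by
  rw [mapDiv_apply hK, neg_eq_zero]
  have hnn : ∀ i, 0 ≤ P.ord (φ i) := by
    intro i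
    rcases eq_or_ne (φ i) 0 with h | h
    · rw [h, ord_zero]
    · exact (val_le_one_iff_ord_nonneg P h).mp (hnorm i)
  apply le_antisymm
  · by_contra hlt
    push Not at hlt
    have hall : ∀ i, P.1 (φ i) < 1 := by
      intro i
      have h1 : 0 < P.ord (φ i) :=
        lt_of_lt_of_le hlt (Finset.inf'_le _ (Finset.mem_univ i))
      have h0 : φ i ≠ 0 := by
        rintro h
        rw [h, ord_zero] at h1
        exact lt_irrefl _ h1
      exact (val_lt_one_iff_ord_pos P h0).mpr h1
    obtain ⟨a, ha⟩ := (Submodule.mem_span_range_iff_exists_fun k).mp heff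
    have h1 : P.1 (1 : K) < 1 := by
      rw [← ha]
      refine Valuation.map_sum_lt _ one_ne_zero fun i _ => ?_
      exact lt_of_le_of_lt (val_smul_le P (a i) (φ i)) (hall i)
    rw [map_one] at h1
    exact lt_irrefl _ h1
  · exact Finset.le_inf' _ _ fun i _ => hnn i

theorem wDiv_apply (hK : IsFunctionField k K) {n : ℕ} (τ : K →ₐ[k] K)
    (H : K →ₐ[k] PowerSeries K) (Φ : Place k K → (K →ₐ[k] LaurentSeries k)) (s : K)
    (φ : Fin (n + 1) → K) (J : Fin n → ℕ) (P : Place k K) :
    wDiv τ H Φ s φ J P = P.ord (wrMat τ H φ J).det + mapDiv k (τ ∘ φ) P +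
      (n : ℤ) * mapDiv k φ P + (∑ l, (J l : ℤ)) * divDiff Φ 1 s P := by
  unfold wDiv
  rw [Finsupp.add_apply, Finsupp.add_apply, Finsupp.add_apply, Finsupp.smul_apply,
    Finsupp.smul_apply, div_apply hK, smul_eq_mul, smul_eq_mul]

theorem det_binomMat_self {n : ℕ} (J : Fin n → ℕ) (hJ : StrictMono J) :
    (binomMat k J J).det = 1 := by
  rw [Matrix.det_of_lowerTriangular]
  · refine Finset.prod_eq_one fun i _ => ?_
    simp [binomMat]
  · intro i j hij
    have hij' : i < j := OrderDual.toDual_lt_toDual.mp hij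
    have := hJ hij'
    simp only [binomMat, Matrix.of_apply]
    rw [Nat.choose_eq_zero_of_lt this, Nat.cast_zero]

theorem wrMat_col {n : ℕ} (τ : K →ₐ[k] K) (H : K →ₐ[k] PowerSeries K) (φ : Fin (n + 1) → K)
    (J : Fin n → ℕ) : (wrMat τ H φ J).col = fun col => hcol τ H φ (idx J col) := by
  funext col i
  induction col using Fin.cases with
  | zero => rfl
  | succ l => rfl

theorem hcol_zero_ne_zero {n : ℕ} (τ : K →ₐ[k] K) (H : K →ₐ[k] PowerSeries K)
    (φ : Fin (n + 1) → K) (hφ : LinearIndependent k φ) : hcol τ H φ 0 ≠ 0 := by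
  intro h
  have h1 : τ (φ 0) = 0 := congrFun h 0
  have h2 : φ 0 = 0 := (map_eq_zero_iff τ τ.toRingHom.injective).mp h1
  exact hφ.ne_zero 0 h2

theorem det_wrMat_ne_zero_of_isOrders {n : ℕ} (τ : K →ₐ[k] K) (H : K →ₐ[k] PowerSeries K)
    (φ : Fin (n + 1) → K) (hφ : LinearIndependent k φ) (J : Fin n → ℕ)
    (hJ : IsOrders K (hcol τ H φ) J) : (wrMat τ H φ J).det ≠ 0 := by
  have hli := linearIndependent_of_isOrders (hcol τ H φ) J hJ (hcol_zero_ne_zero τ H φ hφ)
  rw [← wrMat_col] at hli
  have hu := Matrix.linearIndependent_cols_iff_isUnit.mp hli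
  exact ((Matrix.isUnit_iff_isUnit_det _).mp hu).ne_zero

theorem linearIndependent_of_det_wrMat_ne_zero {n : ℕ} (τ : K →ₐ[k] K)
    (H : K →ₐ[k] PowerSeries K) (φ : Fin (n + 1) → K) (J : Fin n → ℕ)
    (h : (wrMat τ H φ J).det ≠ 0) :
    LinearIndependent K (fun col => hcol τ H φ (idx J col)) := by
  rw [← wrMat_col]
  exact Matrix.linearIndependent_cols_of_det_ne_zero h

section main

variable [IsAlgClosed k] (hK : IsFunctionField k K) (P : Place k K) {t : K}
  (ht : P.1 t = exp (-1 : ℤ)) {H : K →ₐ[k] PowerSeries K} (hH : IsHasseFamily t H)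

include hK ht hH

/-- The coefficient at `P` of the Weierstrass divisor in a local parameter at `P` is the order
of the Wronskian there. -/
theorem wDiv_apply_local (τ : K →ₐ[k] K) (hP : IsFixedPt τ P) {n : ℕ} (φ : Fin (n + 1) → K)
    (heff : (1 : K) ∈ Submodule.span k (Set.range φ)) (hnorm : ∀ i, P.1 (φ i) ≤ 1)
    (J : Fin n → ℕ) (Φ : Place k K → (K →ₐ[k] LaurentSeries k))
    (hΦ : IsExpansionAt P.1 (Φ P)) :
    wDiv τ H Φ t φ J P = P.ord (wrMat τ H φ J).det := by
  rw [wDiv_apply hK, divDiff_apply_uniformizer Φ P hΦ ht,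
    mapDiv_apply_of_normalized hK φ P heff hnorm]
  have h1 : mapDiv k (τ ∘ φ) P = 0 := by
    refine mapDiv_apply_of_normalized hK (τ ∘ φ) P ?_ fun i =>
      (val_tau_sub_lt_one hK P hP (hnorm i)).1
    obtain ⟨a, ha⟩ := (Submodule.mem_span_range_iff_exists_fun k).mp heff
    have h2 : (1 : K) = ∑ i, a i • (τ ∘ φ) i := by
      have := congrArg τ ha
      rw [map_sum, map_one] at this
      rw [← this]
      refine Finset.sum_congr rfl fun i _ => ?_
      rw [map_smul]
      rfl
    rw [h2]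
    exact Submodule.sum_mem _ fun i _ =>
      Submodule.smul_mem _ _ (Submodule.subset_span ⟨i, rfl⟩)
  rw [h1]
  ring

end main

end Groth.Agent.Lib.Helper18.Hasse
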