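import Groth.Agent.Lib.Helper18.Hasse.TaylorExp
import Groth.Agent.Lib.Helper18.Hasse.WDivDeg
import Groth.Agent.S12606
import Groth.Agent.S12615

/-! # The bound for the number of strong fixed points of an endomorphism -/

set_option autoImplicit false
set_option linter.style.haveILetI false

namespace Groth.Agent.Lib.Helper18.Hasse

open FunFld WithZero LocRes Groth.Agent.Lib.Helper18.FF

universe u v

variable {k : Type u} {K : Type v} [Field k] [Field K] [Algebra k K]

theorem isFixedPt_of_strong {τ : K →ₐ[k] K} {P : Place k K} (hP : IsStrongFixedPt τ P) :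
    IsFixedPt τ P := by
  intro z hz
  refine lt_of_le_of_lt (hP z hz) ?_
  rw [← exp_zero, exp_lt_exp]
  norm_num

/-- Orders at a place are positive. -/
theorem orders_at_pos (P : Place k K) {t : K} {H : K →ₐ[k] PowerSeries K}
    (hH : IsHasseFamily t H) {n : ℕ} (φ : Fin (n + 1) → K) (J' : Fin n → ℕ)
    (hJ' : IsOrders (IsLocalRing.ResidueField P.O) (hcolAt P H φ) J') (l : Fin n) : 0 < J' l := by
  by_contra h
  have h0 : J' l = 0 := by omega
  have hjump := (hJ'.2 (J' l)).mp ⟨l, rfl⟩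
  rw [h0] at hjump
  apply hjump
  have hc01 : hcolAt P H φ (0 + 1) = hcolAt P H φ 0 := by
    funext i
    change evalP P (hasseD H 0 (φ i)) = evalP P (φ i)
    rw [hasseD_zero hH]
  rw [hc01]
  exact Submodule.subset_span ⟨0, by simp, rfl⟩

/-- A nonnegative divisor with coefficient at least `m` at each place of `T` has degree at least
`m |T|`. -/
theorem card_mul_le_deg (hK : IsFunctionField k K) {D : Divisor k K} (hD : 0 ≤ D) (m : ℕ)
    (T : Finset (Place k K)) (hT : ∀ P ∈ T, (m : ℤ) ≤ D P) : (m : ℤ) * T.card ≤ D.deg := by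
  classical
  rw [deg_eq_sum_of_support_subset D (T ∪ D.support) Finset.subset_union_right]
  calc (m : ℤ) * T.card = ∑ _P ∈ T, (m : ℤ) := by rw [Finset.sum_const, nsmul_eq_mul, mul_comm]
    _ ≤ ∑ P ∈ T, D P * (P.deg : ℤ) := Finset.sum_le_sum fun P hP => by
        have h1 : (1 : ℤ) ≤ (P.deg : ℤ) := by exact_mod_cast deg_pos hK P
        have h2 := hT P hP
        have h3 : (0 : ℤ) ≤ m := Int.natCast_nonneg _
        nlinarith
    _ ≤ ∑ P ∈ T ∪ D.support, D P * (P.deg : ℤ) :=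
        Finset.sum_le_sum_of_subset_of_nonneg Finset.subset_union_left fun P _ _ =>
          mul_nonneg (hD P) (Int.natCast_nonneg _)

variable [IsAlgClosed k]

/-- The Weierstrass divisor has coefficient at least `n` at every strong fixed point. -/
theorem wDiv_ge_of_strong (hK : IsFunctionField k K) {n : ℕ} (hn : 0 < n) (φ : Fin (n + 1) → K)
    (hφ : LinearIndependent k φ) (τ : K →ₐ[k] K)
    (hτφ : ¬ ∃ y : K, ∀ i, τ (φ i) = y * φ i) {s : K} {H : K →ₐ[k] PowerSeries K}
    (hH : IsHasseFamily s H) (J : Fin n → ℕ) (hJ : IsOrders K (hcol τ H φ) J)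
    (Φ : Place k K → (K →ₐ[k] LaurentSeries k))
    (hΦ : ∀ P : Place k K, IsExpansionAt P.1 (Φ P)) (P : Place k K)
    (hP : IsStrongFixedPt τ P) : (n : ℤ) ≤ wDiv τ H Φ s φ J P := by
  obtain ⟨t, Ht, ht, hHt⟩ := exists_local_hasse hK hH P
  obtain ⟨y, hy, hli, heff, hnorm⟩ := exists_normalize P φ hφ
  have e := wDiv_eq_of_equiv hK φ hφ τ hH hHt J hJ 1 (by simp) y hy (y • φ) (fun i => by
    rw [Pi.smul_apply, smul_eq_mul]
    congr 1
    rw [Finset.sum_eq_single i]
    · rw [Matrix.one_apply_eq, one_smul]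
    · intro j _ hj
      rw [Matrix.one_apply_ne (Ne.symm hj), zero_smul]
    · intro h; exact absurd (Finset.mem_univ i) h) Φ hΦ
  rw [← e]
  have hJ' : IsOrders K (hcol τ Ht (y • φ)) J :=
    ((scale_main φ τ Ht hHt.2 y hy).1 J).mpr (((change_main hK hH hHt φ τ).1 J).mpr hJ)
  obtain ⟨J', hJ''⟩ := exists_isOrders_hcolAt hK P ht hHt (y • φ) hli heff hnorm
  have hτφ' : ¬ ∃ z : K, ∀ i, τ ((y • φ) i) = z * (y • φ) i := by
    rintro ⟨z, hz⟩
    apply hτφ
    have hτy : τ y ≠ 0 := (map_ne_zero τ).mpr hy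
    refine ⟨z * y / τ y, fun i => ?_⟩
    have := hz i
    rw [Pi.smul_apply, smul_eq_mul, map_mul] at this
    field_simp
    rw [mul_comm, this]
    ring
  have h1 := (Groth.Agent.S12615.result k K hK τ P (isFixedPt_of_strong hP) (y • φ) hli heff hnorm
    t ht Ht hHt J hJ' J' hJ'' Φ hΦ).1
  have h2 := Groth.Agent.S12606.result k K hK τ P hP hn (y • φ) hli heff hnorm hτφ' t ht Ht hHt J hJ'
    J' hJ''
  have h3 := orders_at_pos P hHt (y • φ) J' hJ'' ⟨0, hn⟩
  refine le_trans ?_ h1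
  calc (n : ℤ) = ∑ _l : Fin n, (1 : ℤ) := by simp
    _ ≤ ∑ l, ((J' l : ℤ) - J l) := Finset.sum_le_sum fun l _ => by
        have := h2 l
        omega

/-- The number of strong fixed points is finite and bounded by `deg W / n`. -/
theorem strong_bound (hK : IsFunctionField k K) (τ : K →ₐ[k] K) {n : ℕ} (φ : Fin (n + 1) → K)
    (hφ : LinearIndependent k φ) (hτφ : ¬ ∃ y : K, ∀ i, τ (φ i) = y * φ i) {s : K}
    {H : K →ₐ[k] PowerSeries K} (hH : IsHasseFamily s H) (J : Fin n → ℕ)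
    (hJ : IsOrders K (hcol τ H φ) J) :
    {P : Place k K | IsStrongFixedPt τ P}.Finite ∧
    (n : ℤ) * (Set.ncard {P : Place k K | IsStrongFixedPt τ P} : ℤ) ≤
      ((n : ℤ) + Module.finrank τ.fieldRange K) * (mapDiv k φ).deg +
        (2 * (genus k K : ℤ) - 2) * ∑ l, (J l : ℤ) := by
  classical
  choose Φ hΦ using fun P : Place k K => exists_expansion hK hH P
  have hn : 0 < n := by
    by_contra h
    have h0 : n = 0 := by omega
    subst h0
    apply hτφ
    have hφ0 : φ 0 ≠ 0 := hφ.ne_zero 0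
    refine ⟨τ (φ 0) / φ 0, fun i => ?_⟩
    have : i = 0 := Fin.fin_one_eq_zero i
    subst this
    field_simp
  have hW0 : 0 ≤ wDiv τ H Φ s φ J := wDiv_nonneg hK φ hφ τ hH J hJ Φ hΦ
  have hdeg := deg_wDiv hK φ hφ τ hH J Φ hΦ
  have hloc : ∀ P, IsStrongFixedPt τ P → (n : ℤ) ≤ wDiv τ H Φ s φ J P :=
    fun P hP => wDiv_ge_of_strong hK hn φ hφ τ hτφ hH J hJ Φ hΦ P hP
  have hbound : ∀ T : Finset (Place k K), (∀ P ∈ T, IsStrongFixedPt τ P) →
      (n : ℤ) * T.card ≤ (wDiv τ H Φ s φ J).deg := fun T hT =>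
    card_mul_le_deg hK hW0 n T fun P hP => hloc P (hT P hP)
  have hfin : {P : Place k K | IsStrongFixedPt τ P}.Finite := by
    by_contra hinf
    obtain ⟨T, hT, hcard⟩ := Set.Infinite.exists_subset_card_eq hinf
      ((wDiv τ H Φ s φ J).deg.toNat + 1)
    have h1 := hbound T fun P hP => hT (Finset.mem_coe.mpr hP)
    rw [hcard] at h1
    have h2 : (1 : ℤ) ≤ n := by exact_mod_cast hn
    have h3 := Int.self_le_toNat (wDiv τ H Φ s φ J).deg
    push_cast at h1
    nlinarith
  refine ⟨hfin, ?_⟩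
  have h1 := hbound hfin.toFinset fun P hP => (Set.Finite.mem_toFinset hfin).mp hP
  rw [Set.ncard_eq_toFinset_card _ hfin]
  rw [hdeg] at h1
  linarith

end Groth.Agent.Lib.Helper18.Hasse
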