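import Groth.Agent.Lib.Helper18.Hasse.Regular
import Groth.Agent.Lib.Helper18.FF.Residue
import Groth.Agent.Lib.Helper18.FF.Uniformizer

/-! # Taylor expansion at a place through a Hasse family in a local parameter -/

set_option autoImplicit false
set_option linter.style.haveILetI false

namespace Groth.Agent.Lib.Helper18.Hasse

open FunFld WithZero LocRes Groth.Agent.Lib.Helper18.FF

universe u v

variable {k : Type u} {K : Type v} [Field k] [Field K] [Algebra k K]

theorem evalP_of_le (P : Place k K) {z : K} (hz : P.1 z ≤ 1) : evalP P z = res P z hz := by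
  unfold evalP
  rw [dif_pos hz]
  rfl

theorem evalP_eq_zero_iff (P : Place k K) {z : K} (hz : P.1 z ≤ 1) :
    evalP P z = 0 ↔ P.1 z < 1 := by
  rw [evalP_of_le P hz, res_eq_zero_iff]

theorem evalP_add (P : Place k K) {a b : K} (ha : P.1 a ≤ 1) (hb : P.1 b ≤ 1) :
    evalP P (a + b) = evalP P a + evalP P b := by
  rw [evalP_of_le P ha, evalP_of_le P hb,
    evalP_of_le P ((P.1.map_add a b).trans (max_le ha hb)), res_add]

theorem evalP_mul (P : Place k K) {a b : K} (ha : P.1 a ≤ 1) (hb : P.1 b ≤ 1) :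
    evalP P (a * b) = evalP P a * evalP P b := by
  rw [evalP_of_le P ha, evalP_of_le P hb,
    evalP_of_le P (by rw [map_mul]; exact mul_le_one' ha hb), res_mul]

theorem evalP_smul (P : Place k K) (c : k) {a : K} (ha : P.1 a ≤ 1) :
    evalP P (c • a) = c • evalP P a := by
  rw [evalP_of_le P ha, evalP_of_le P ((val_smul_le P c a).trans ha), res_smul]

theorem evalP_sum (P : Place k K) {ι : Type*} (s : Finset ι) (f : ι → K)
    (hf : ∀ i, P.1 (f i) ≤ 1) : evalP P (∑ i ∈ s, f i) = ∑ i ∈ s, evalP P (f i) := by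
  have h : P.1 (∑ i ∈ s, f i) ≤ 1 := P.1.map_sum_le (fun i _ => hf i)
  rw [evalP_of_le P h, res_sum P s f hf h]
  exact Finset.sum_congr rfl fun i _ => (evalP_of_le P (hf i)).symm

theorem evalP_congr (P : Place k K) {a b : K} (ha : P.1 a ≤ 1) (hab : P.1 (a - b) < 1) :
    evalP P a = evalP P b := by
  have hb : P.1 b ≤ 1 := by
    have : b = a - (a - b) := by ring
    rw [this]
    exact (Valuation.map_sub _ _ _).trans (max_le ha hab.le)
  have h1 : evalP P (a - b) = 0 := (evalP_eq_zero_iff P hab.le).mpr hab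
  have h2 : a = (a - b) + b := by ring
  rw [h2, evalP_add P hab.le hb, h1, zero_add]

section main

variable [IsAlgClosed k] (hK : IsFunctionField k K) (P : Place k K) {t : K}
  (ht : P.1 t = exp (-1 : ℤ)) {H : K →ₐ[k] PowerSeries K} (hH : IsHasseFamily t H)

include hK ht hH

/-- Leading term of the `i`-th coefficient map on `t ^ j v`. -/
theorem hasseD_pow_mul_sub {v : K} (hv : P.1 v ≤ 1) {i j : ℕ} (hij : i ≤ j) :
    P.1 (hasseD H i (t ^ j * v) - (j.choose i : K) * t ^ (j - i) * v) ≤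
      exp (-((j - i : ℕ) : ℤ) - 1) := by
  classical
  rw [hasseD_mul, Finset.Nat.sum_antidiagonal_eq_sum_range_succ_mk, Finset.sum_range_succ]
  simp only [Nat.sub_self]
  rw [hasseD_zero hH, hasseD_self_pow hH, add_sub_cancel_right]
  refine Valuation.map_sum_le _ (fun e he => ?_)
  have he' := Finset.mem_range.mp he
  rw [hasseD_self_pow hH, map_mul, map_mul, map_pow, ht]
  have h1 := val_natCast_le_one P (j.choose e)
  have h2 := hasseD_val_le_one hK P ht hH hv (i - e)
  calc P.1 ((j.choose e : ℕ) : K) * exp (-1 : ℤ) ^ (j - e) * P.1 (hasseD H (i - e) v)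
      ≤ 1 * exp (-1 : ℤ) ^ (j - e) * 1 := mul_le_mul' (mul_le_mul' h1 le_rfl) h2
    _ ≤ exp (-((j - i : ℕ) : ℤ) - 1) := by
      rw [one_mul, mul_one, ← exp_nsmul, exp_le_exp]
      simp only [nsmul_eq_mul]
      have h3 : ((j - e : ℕ) : ℤ) = (j : ℤ) - e := by
        rw [Nat.cast_sub (by omega)]
      have h4 : ((j - i : ℕ) : ℤ) = (j : ℤ) - i := by
        rw [Nat.cast_sub hij]
      rw [h3, h4]
      have : (e : ℤ) + 1 ≤ (i : ℤ) := by exact_mod_cast he'
      linarith

/-- The coefficient maps lower orders by at most their index. -/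
theorem hasseD_val_le {y : K} {m : ℕ} (hy : P.1 y ≤ exp (-(m : ℤ))) {i : ℕ} (hi : i ≤ m) :
    P.1 (hasseD H i y) ≤ exp (-((m - i : ℕ) : ℤ)) := by
  have ht0 := t_ne_zero hK P ht
  obtain ⟨v, hv⟩ : ∃ v : K, v = y / t ^ m := ⟨_, rfl⟩
  have hvle : P.1 v ≤ 1 := by
    rw [hv, map_div₀, map_pow, ht, ← exp_nsmul, div_le_iff₀ (zero_lt_iff.mpr exp_ne_zero), one_mul]
    simpa using hy
  have hyv : y = t ^ m * v := by
    rw [hv]
    field_simp
  have h1 := hasseD_pow_mul_sub hK P ht hH hvle hi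
  rw [← hyv] at h1
  have h2 : P.1 ((m.choose i : K) * t ^ (m - i) * v) ≤ exp (-((m - i : ℕ) : ℤ)) := by
    rw [map_mul, map_mul, map_pow, ht]
    calc P.1 ((m.choose i : ℕ) : K) * exp (-1 : ℤ) ^ (m - i) * P.1 v
        ≤ 1 * exp (-1 : ℤ) ^ (m - i) * 1 :=
          mul_le_mul' (mul_le_mul' (val_natCast_le_one P _) le_rfl) hvle
      _ = exp (-((m - i : ℕ) : ℤ)) := by
        rw [one_mul, mul_one, ← exp_nsmul]
        simp
  have h3 : hasseD H i y = (hasseD H i y - (m.choose i : K) * t ^ (m - i) * v) +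
      (m.choose i : K) * t ^ (m - i) * v := by ring
  rw [h3]
  refine (Valuation.map_add _ _ _).trans (max_le (h1.trans ?_) h2)
  rw [exp_le_exp]
  omega

/-- The `m`-th coefficient of a function of order exactly `m` is a unit: the Taylor expansion
detects the order. -/
theorem hasseD_val_eq_one {y : K} {m : ℕ} (hy : P.1 y = exp (-(m : ℤ))) :
    P.1 (hasseD H m y) = 1 := by
  have ht0 := t_ne_zero hK P ht
  obtain ⟨v, hv⟩ : ∃ v : K, v = y / t ^ m := ⟨_, rfl⟩
  have hv1 : P.1 v = 1 := by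
    rw [hv, map_div₀, map_pow, ht, ← exp_nsmul, hy]
    simp only [nsmul_eq_mul, mul_neg, mul_one]
    exact div_self exp_ne_zero
  have hyv : y = t ^ m * v := by
    rw [hv]
    field_simp
  have h1 := hasseD_pow_mul_sub hK P ht hH hv1.le (le_refl m)
  rw [← hyv] at h1
  simp only [Nat.choose_self, Nat.cast_one, one_mul, Nat.sub_self, pow_zero, Nat.cast_zero,
    neg_zero, zero_sub] at h1
  have h2 : P.1 (hasseD H m y - v) < P.1 v := by
    rw [hv1]
    refine lt_of_le_of_lt h1 ?_
    rw [← exp_zero, exp_lt_exp]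
    norm_num
  rw [Valuation.map_eq_of_sub_lt P.1 h2, hv1]

/-- A function regular at `P` all of whose Taylor coefficients vanish at `P` is zero. -/
theorem eq_zero_of_forall_hasseD_lt {y : K} (hy : P.1 y ≤ 1)
    (h : ∀ j, P.1 (hasseD H j y) < 1) : y = 0 := by
  by_contra hne
  have h0 : P.1 y ≠ 0 := (Valuation.ne_zero_iff _).mpr hne
  obtain ⟨m, hm⟩ : ∃ m : ℕ, P.1 y = exp (-(m : ℤ)) := by
    refine ⟨(-log (P.1 y)).toNat, ?_⟩
    have h1 : log (P.1 y) ≤ 0 := by
      rw [← exp_le_exp, exp_log h0, exp_zero]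
      exact hy
    rw [Int.toNat_of_nonneg (by omega), neg_neg, exp_log h0]
  have := hasseD_val_eq_one hK P ht hH hm
  exact absurd (h m) (by rw [this]; exact lt_irrefl _)

end main

end Groth.Agent.Lib.Helper18.Hasse
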