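import Groth.Agent.Lib.Helper18.Hasse.Entries

/-! # Local order of Wronskian determinants at a fixed point -/

set_option autoImplicit false
set_option linter.style.haveILetI false

namespace Groth.Agent.Lib.Helper18.Hasse

open FunFld WithZero LocRes Groth.Agent.Lib.Helper18.FF

universe u v

variable {k : Type u} {K : Type v} [Field k] [Field K] [Algebra k K]

theorem tau_comb (τ : K →ₐ[k] K) {ι : Type*} (s : Finset ι) (a : ι → k) (y : ι → K) :
    τ (∑ j ∈ s, a j • y j) = ∑ j ∈ s, algebraMap k K (a j) * τ (y j) := by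
  rw [map_sum]
  refine Finset.sum_congr rfl fun j _ => ?_
  rw [Algebra.smul_def, map_mul, AlgHom.commutes]

theorem hasseD_comb (H : K →ₐ[k] PowerSeries K) (m : ℕ) {ι : Type*} (s : Finset ι)
    (a : ι → k) (y : ι → K) :
    hasseD H m (∑ j ∈ s, a j • y j) = ∑ j ∈ s, algebraMap k K (a j) * hasseD H m (y j) := by
  rw [hasseD_sum]
  refine Finset.sum_congr rfl fun j _ => ?_
  rw [hasseD_smul, Algebra.smul_def]

/-- A `k`-linear change of the tuple multiplies the Wronskian matrix by a constant matrix. -/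
theorem wrMat_comb {n : ℕ} (τ : K →ₐ[k] K) (H : K →ₐ[k] PowerSeries K) (φ : Fin (n + 1) → K)
    (A : Matrix (Fin (n + 1)) (Fin (n + 1)) k) (I : Fin n → ℕ) :
    wrMat τ H (fun i => ∑ j, A i j • φ j) I = (A.map (algebraMap k K)) * wrMat τ H φ I := by
  ext i c
  rw [Matrix.mul_apply]
  induction c using Fin.cases with
  | zero =>
    change τ (∑ j, A i j • φ j) = _
    rw [tau_comb]
    rfl
  | succ l =>
    change hasseD H (I l) (∑ j, A i j • φ j) = _
    rw [hasseD_comb]
    rfl

theorem val_det_wrMat_le_of_mem_span (P : Place k K) {n : ℕ} (τ : K →ₐ[k] K)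
    (H : K →ₐ[k] PowerSeries K) (φ φ' : Fin (n + 1) → K)
    (h : ∀ i, φ' i ∈ Submodule.span k (Set.range φ)) (I : Fin n → ℕ) :
    P.1 (wrMat τ H φ' I).det ≤ P.1 (wrMat τ H φ I).det := by
  have hex : ∀ i, ∃ a : Fin (n + 1) → k, ∑ j, a j • φ j = φ' i := fun i =>
    (Submodule.mem_span_range_iff_exists_fun k).mp (h i)
  choose A hA using hex
  have h1 : φ' = fun i => ∑ j, (Matrix.of A) i j • φ j := by
    funext i
    exact (hA i).symm
  rw [h1, wrMat_comb, Matrix.det_mul, map_mul]
  have h2 : ((Matrix.of A).map (algebraMap k K)).det = algebraMap k K (Matrix.of A).det := by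
    rw [RingHom.map_det]
    rfl
  rw [h2]
  calc P.1 (algebraMap k K (Matrix.of A).det) * P.1 (wrMat τ H φ I).det
      ≤ 1 * P.1 (wrMat τ H φ I).det := mul_le_mul' (P.2.1 _) le_rfl
    _ = _ := one_mul _

theorem val_det_wrMat_eq_of_span_eq (P : Place k K) {n : ℕ} (τ : K →ₐ[k] K)
    (H : K →ₐ[k] PowerSeries K) (φ φ' : Fin (n + 1) → K)
    (h : Submodule.span k (Set.range φ') = Submodule.span k (Set.range φ)) (I : Fin n → ℕ) :
    P.1 (wrMat τ H φ' I).det = P.1 (wrMat τ H φ I).det := by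
  refine le_antisymm (val_det_wrMat_le_of_mem_span P τ H φ φ' (fun i => ?_) I)
    (val_det_wrMat_le_of_mem_span P τ H φ' φ (fun i => ?_) I)
  · rw [← h]
    exact Submodule.subset_span ⟨i, rfl⟩
  · rw [h]
    exact Submodule.subset_span ⟨i, rfl⟩

theorem det_binomMat_ne_zero_iff (P : Place k K) {n : ℕ} (J I : Fin n → ℕ) :
    (binomMat (IsLocalRing.ResidueField P.O) J I).det ≠ 0 ↔ (binomMat k J I).det ≠ 0 := by
  have h1 : binomMat (IsLocalRing.ResidueField P.O) J I =
      (algebraMap k (IsLocalRing.ResidueField P.O)).mapMatrix (binomMat k J I) := by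
    ext r s
    simp [binomMat]
  rw [h1, ← RingHom.map_det]
  exact map_ne_zero_iff _ (algebraMap k (IsLocalRing.ResidueField P.O)).injective

section main

variable [IsAlgClosed k] (hK : IsFunctionField k K) (P : Place k K) {t : K}
  (ht : P.1 t = exp (-1 : ℤ)) {H : K →ₐ[k] PowerSeries K} (hH : IsHasseFamily t H)

include hK ht hH

/-- Local order of the Wronskian of an adapted basis. -/
theorem wr_adapted (τ : K →ₐ[k] K) (hP : IsFixedPt τ P) {n : ℕ} (φ' : Fin (n + 1) → K)
    (J : Fin n → ℕ) (h0 : φ' 0 = 1)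
    (hl : ∀ l : Fin n, 0 < J l ∧ P.1 (φ' l.succ) = exp (-(J l : ℤ)) ∧
      evalP P (φ' l.succ / t ^ J l) = 1)
    (I : Fin n → ℕ) :
    P.1 (wrMat τ H φ' I).det ≤ exp (-(∑ l, ((J l : ℤ) - I l))) ∧
    (((∀ l, 0 < I l) ∨ IsStrongFixedPt τ P) →
      (P.1 (wrMat τ H φ' I).det = exp (-(∑ l, ((J l : ℤ) - I l))) ↔
        (binomMat k J I).det ≠ 0)) := by
  classical
  have ht0 := t_ne_zero hK P ht
  let e : Fin (n + 1) → ℕ := Fin.cases 0 J
  let u : Fin (n + 1) → K := fun r => φ' r / t ^ e r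
  have hφu : ∀ r, φ' r = t ^ e r * u r := by
    intro r
    simp only [u]
    field_simp
  have hu1 : ∀ r, P.1 (u r) = 1 ∧ evalP P (u r) = 1 := by
    intro r
    induction r using Fin.cases with
    | zero =>
      have : u 0 = 1 := by
        simp only [u, e, Fin.cases_zero, pow_zero, h0, _root_.div_one]
      rw [this, map_one, evalP_one]
      exact ⟨rfl, rfl⟩
    | succ l =>
      refine ⟨?_, (hl l).2.2⟩
      change P.1 (φ' l.succ / t ^ J l) = 1
      rw [map_div₀, map_pow, ht, ← exp_nsmul, (hl l).2.1]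
      simp only [nsmul_eq_mul, mul_neg, mul_one]
      exact div_self exp_ne_zero
  let a : Fin (n + 1) → ℤ := fun r => (e r : ℤ)
  let b : Fin (n + 1) → ℤ := Fin.cases 0 (fun s => (I s : ℤ))
  let lam : Fin (n + 1) → IsLocalRing.ResidueField P.O := fun r =>
    evalP P (τ (φ' r) * t ^ (-(e r : ℤ)))
  let L : Matrix (Fin (n + 1)) (Fin (n + 1)) (IsLocalRing.ResidueField P.O) :=
    Matrix.of fun r c => Fin.cases (motive := fun _ => IsLocalRing.ResidueField P.O) (lam r)
      (fun s => (((e r).choose (I s) : ℕ) : IsLocalRing.ResidueField P.O)) c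
  have hτle : ∀ r, P.1 (τ (φ' r) * t ^ (-(e r : ℤ))) ≤ 1 := by
    intro r
    have h1 : P.1 (φ' r) ≤ exp (-(e r : ℤ)) := by
      rw [hφu r, map_mul, map_pow, ht, ← exp_nsmul, (hu1 r).1, mul_one]
      simp
    have h2 := val_tau_le_exp hK P ht hP h1
    rw [map_mul, val_zpow P ht, neg_neg]
    calc P.1 (τ (φ' r)) * exp (e r : ℤ) ≤ exp (-(e r : ℤ)) * exp (e r : ℤ) :=
          mul_le_mul' h2 le_rfl
      _ = 1 := by rw [← exp_add, neg_add_cancel, exp_zero]
  have hentry : ∀ r c, P.1 (wrMat τ H φ' I r c * t ^ (b c - a r)) ≤ 1 ∧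
      evalP P (wrMat τ H φ' I r c * t ^ (b c - a r)) = L r c := by
    intro r c
    induction c using Fin.cases with
    | zero =>
      have hb : b 0 - a r = -(e r : ℤ) := by simp [a, b]
      rw [hb]
      exact ⟨hτle r, rfl⟩
    | succ s =>
      have hb : b s.succ - a r = (I s : ℤ) - e r := by simp [a, b]
      rw [hb]
      change P.1 (hasseD H (I s) (φ' r) * t ^ ((I s : ℤ) - e r)) ≤ 1 ∧
        evalP P (hasseD H (I s) (φ' r) * t ^ ((I s : ℤ) - e r)) =
          (((e r).choose (I s) : ℕ) : IsLocalRing.ResidueField P.O)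
      rw [hφu r]
      have := hasseD_scaled hK P ht hH (hu1 r).1.le (I s) (e r)
      rw [(hu1 r).2, mul_one] at this
      exact this
  obtain ⟨hA, hB⟩ := det_lead P ht (wrMat τ H φ' I) a b L (fun r c => (hentry r c).1)
    (fun r c => (hentry r c).2)
  have hsum : ∑ r, a r - ∑ c, b c = ∑ l, ((J l : ℤ) - I l) := by
    rw [Fin.sum_univ_succ, Fin.sum_univ_succ (f := b), Finset.sum_sub_distrib]
    simp [a, b, e]
  rw [hsum] at hA hB
  refine ⟨hA, fun hcase => ?_⟩
  rw [hB, ← det_binomMat_ne_zero_iff P J I]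
  have hlam0 : lam 0 = 1 := by
    simp only [lam, e, Fin.cases_zero, h0, map_one, Nat.cast_zero, neg_zero, zpow_zero, mul_one]
    exact evalP_one P
  have hsub : L.submatrix Fin.succ Fin.succ = binomMat (IsLocalRing.ResidueField P.O) J I := by
    ext l s
    rfl
  have hdet : L.det = (binomMat (IsLocalRing.ResidueField P.O) J I).det := by
    rcases hcase with hI | hstrong
    · rw [Matrix.det_succ_row_zero, Fin.sum_univ_succ]
      have hz : ∀ s : Fin n, L 0 s.succ = 0 := by
        intro s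
        change (((e 0).choose (I s) : ℕ) : IsLocalRing.ResidueField P.O) = 0
        have : (e 0).choose (I s) = 0 := Nat.choose_eq_zero_of_lt (hI s)
        rw [this, Nat.cast_zero]
      have hL00 : L 0 0 = 1 := hlam0
      simp only [hz, mul_zero, zero_mul, Finset.sum_const_zero, add_zero, Fin.val_zero, pow_zero,
        one_mul, hL00, Fin.succAbove_zero]
      rw [hsub]
    · rw [Matrix.det_succ_column_zero, Fin.sum_univ_succ]
      have hz : ∀ l : Fin n, L l.succ 0 = 0 := by
        intro l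
        change lam l.succ = 0
        simp only [lam]
        have hle := hτle l.succ
        rw [evalP_eq_zero_iff P hle]
        have h1 : P.1 (φ' l.succ) ≤ exp (-(J l : ℤ)) := (hl l).2.1.le
        have h2 := val_tau_le_exp_two hK P ht hstrong h1
        rw [map_mul, val_zpow P ht, neg_neg]
        change P.1 (τ (φ' l.succ)) * exp ((J l : ℕ) : ℤ) < 1
        calc P.1 (τ (φ' l.succ)) * exp ((J l : ℕ) : ℤ)
            ≤ exp (-(2 * (J l : ℤ))) * exp ((J l : ℕ) : ℤ) := mul_le_mul' h2 le_rfl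
          _ < 1 := by
            rw [← exp_add, ← exp_zero, exp_lt_exp]
            have : (0 : ℤ) < J l := by exact_mod_cast (hl l).1
            linarith
      have hL00 : L 0 0 = 1 := hlam0
      simp only [hz, mul_zero, zero_mul, Finset.sum_const_zero, add_zero, Fin.val_zero, pow_zero,
        one_mul, hL00, Fin.succAbove_zero]
      rw [hsub]
  rw [hdet]

/-- Local order of the Wronskian of a normalized effective tuple at a fixed point. -/
theorem wr_local (τ : K →ₐ[k] K) (hP : IsFixedPt τ P) {n : ℕ} (φ : Fin (n + 1) → K)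
    (hφ : LinearIndependent k φ) (heff : (1 : K) ∈ Submodule.span k (Set.range φ))
    (hnorm : ∀ i, P.1 (φ i) ≤ 1) (J : Fin n → ℕ)
    (hJ : IsOrders (IsLocalRing.ResidueField P.O) (hcolAt P H φ) J) (I : Fin n → ℕ) :
    P.1 (wrMat τ H φ I).det ≤ exp (-(∑ l, ((J l : ℤ) - I l))) ∧
    (((∀ l, 0 < I l) ∨ IsStrongFixedPt τ P) →
      (P.1 (wrMat τ H φ I).det = exp (-(∑ l, ((J l : ℤ) - I l))) ↔
        (binomMat k J I).det ≠ 0)) := by
  obtain ⟨φ', -, hspan, h0, hl⟩ := exists_adapted hK P ht hH φ hφ heff hnorm J hJ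
  have h1 := wr_adapted hK P ht hH τ hP φ' J h0 hl I
  rw [val_det_wrMat_eq_of_span_eq P τ H φ φ' hspan I] at h1
  exact h1

end main

end Groth.Agent.Lib.Helper18.Hasse
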